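import Groth.Agent.FlatOpen.API

/-!
# Descent of flatness to a stage (EGA IV 11.2.6)

* `exists_presentation_model`: a fp module over a fp algebra is `Quot R Z₀` for a Noetherian `R₀ ⊆ R`.
* `exists_model_flatOn`: flatness on `V(J)` descends to a fg subalgebra.
* `exists_model_flat_all`: flatness descends to a fg subalgebra.
* `exists_stage_flat`: flatness descends to a stage of a directed colimit.
-/

set_option autoImplicit false
set_option linter.style.haveILetI false

universe u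

open TensorProduct Function

namespace Groth.Agent.FlatOpen

variable {n r : ℕ} {R₀ : Type u} [CommRing R₀]

/-- Noetherian model of a finitely presented module over a finitely presented algebra. -/
theorem exists_presentation_model (R S M : Type u) [CommRing R] [CommRing S] [Algebra R S]
    [Algebra.FinitePresentation R S] [AddCommGroup M] [Module S M] [Module R M]
    [IsScalarTower R S M] [Module.FinitePresentation S M] :
    ∃ (n r : ℕ) (R₀ : Subalgebra ℤ R) (Z₀ : Submodule (MvPolynomial (Fin n) R₀) (Vec n r R₀))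
      (π : MvPolynomial (Fin n) R →ₐ[R] S) (E : Quot R Z₀ ≃ₗ[R] M),
      R₀.FG ∧ Surjective π ∧ ∀ a x, E (a • x) = π a • E x := by
  classical
  obtain ⟨n, π, hπ, hker⟩ := (inferInstance : Algebra.FinitePresentation R S).out
  let P := MvPolynomial (Fin n) R
  letI : Algebra P S := π.toRingHom.toAlgebra
  haveI : IsScalarTower R P S := IsScalarTower.of_algebraMap_eq fun a => (π.commutes a).symm
  letI : Module P M := Module.compHom M π.toRingHom
  haveI : IsScalarTower P S M := IsScalarTower.of_algebraMap_smul fun _ _ => rfl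
  haveI : IsScalarTower R P M := IsScalarTower.of_algebraMap_smul fun a m => by
    show π (algebraMap R P a) • m = a • m
    rw [π.commutes, algebraMap_smul]
  haveI : Module.FinitePresentation P S :=
    Module.finitePresentation_of_surjective (Algebra.linearMap P S) hπ (by
      rw [show LinearMap.ker (Algebra.linearMap P S) = RingHom.ker π.toRingHom from by ext x; rfl]
      exact hker)
  haveI : Module.FinitePresentation P M := Module.FinitePresentation.trans P M S
  obtain ⟨r, L, e, G, hG⟩ := Module.FinitePresentation.exists_fin P M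
  let c : Finset R := G.biUnion fun v => Finset.univ.biUnion fun i => (v i).coeffs
  let R₀ := Algebra.adjoin ℤ (c : Set R)
  have hlift : ∀ v ∈ G, ∃ v₀ : Vec n r R₀, mapVec R v₀ = v := by
    intro v hv
    have : ∀ i, ∃ w : MvPolynomial (Fin n) R₀, MvPolynomial.map (algebraMap R₀ R) w = v i :=
      fun i => MvPolynomial.mem_range_map_iff_coeffs_subset.2 fun x hx =>
        ⟨⟨x, Algebra.subset_adjoin (Finset.mem_biUnion.2
          ⟨v, hv, Finset.mem_biUnion.2 ⟨i, Finset.mem_univ i, hx⟩⟩)⟩, rfl⟩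
    choose w hw using this
    exact ⟨w, funext hw⟩
  choose! v₀ hv₀ using hlift
  let Z₀ : Submodule (MvPolynomial (Fin n) R₀) (Vec n r R₀) :=
    Submodule.span _ (v₀ '' (G : Set (Vec n r R)))
  have hZ : ext R Z₀ = L := by
    rw [ext_span, Set.image_image, ← hG]
    exact congrArg _ ((Set.image_congr hv₀).trans (Set.image_id' _))
  let E : Quot R Z₀ ≃ₗ[P] M := (Submodule.quotEquivOfEq _ _ hZ).trans e.symm
  exact ⟨n, r, R₀, Z₀, π, E.restrictScalars R, ⟨c, rfl⟩, hπ, fun a x => E.map_smul a x⟩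

variable (Z₀ : Submodule (MvPolynomial (Fin n) R₀) (Vec n r R₀))

/-- Flatness at a prime goes up along base change. -/
theorem flatAt_quot_of_tower (R : Type u) [CommRing R] [Algebra R₀ R] (R₁ : Type u) [CommRing R₁]
    [Algebra R₀ R₁] [Algebra R₁ R] [IsScalarTower R₀ R₁ R] (q : Ideal (MvPolynomial (Fin n) R))
    [q.IsPrime]
    (h : FlatCA.FlatAt R₁ (q.comap (MvPolynomial.map (algebraMap R₁ R))) (Quot R₁ Z₀)) :
    FlatCA.FlatAt R q (Quot R Z₀) := by
  letI := MvPolynomial.algebraMvPolynomial (σ := Fin n) (R := R₁) (S := R)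
  letI : Module (MvPolynomial (Fin n) R₁) (Quot R Z₀) :=
    Module.compHom _ (algebraMap (MvPolynomial (Fin n) R₁) (MvPolynomial (Fin n) R))
  haveI : IsScalarTower (MvPolynomial (Fin n) R₁) (MvPolynomial (Fin n) R) (Quot R Z₀) :=
    IsScalarTower.of_algebraMap_smul fun _ _ => rfl
  obtain ⟨g, hg⟩ := exists_isBaseChange_quot R Z₀ R₁
  exact FlatMor.FlatAtBC.flatAt_of_baseChange g hg _ q rfl h

/-- Flatness goes up along base change. -/
theorem flat_quot_of_tower (R : Type u) [CommRing R] [Algebra R₀ R] (R₁ : Type u) [CommRing R₁]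
    [Algebra R₀ R₁] [Algebra R₁ R] [IsScalarTower R₀ R₁ R] [Module.Flat R₁ (Quot R₁ Z₀)] :
    Module.Flat R (Quot R Z₀) :=
  Module.Flat.of_linearEquiv ((quotEquiv R Z₀).symm.trans
    ((AlgebraTensorModule.cancelBaseChange R₀ R₁ R R (Vec n r R₀ ⧸ Z₀)).symm.trans
      (AlgebraTensorModule.congr (LinearEquiv.refl R R) (quotEquiv R₁ Z₀))))

/-- Transport of `FlatAt` along an equality of primes. -/
theorem flatAt_congr {R S : Type u} [CommRing R] [CommRing S] [Algebra R S] {M : Type u}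
    [AddCommGroup M] [Module S M] [Module R M] [IsScalarTower R S M] {p q : Ideal S} [hp : p.IsPrime]
    [hq : q.IsPrime] (h : p = q) (hf : FlatCA.FlatAt R q M) : FlatCA.FlatAt R p M := by
  subst h
  exact hf

/-- A module flat at every prime of the algebra is flat. -/
theorem flat_of_forall_flatAt {R S : Type u} [CommRing R] [CommRing S] [Algebra R S] {M : Type u}
    [AddCommGroup M] [Module S M] [Module R M] [IsScalarTower R S M]
    (h : ∀ (Q : Ideal S) [Q.IsPrime], FlatCA.FlatAt R Q M) : Module.Flat R M :=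
  Module.flat_of_isLocalized_maximal S _ (fun Q _ => LocalizedModule Q.primeCompl M)
    (fun Q _ => LocalizedModule.mkLinearMap Q.primeCompl _) fun Q hQ => h Q

/-- Flatness on `V(J)` descends to a finitely generated subalgebra. -/
theorem exists_model_flatOn [IsNoetherianRing R₀] (R : Type u) [CommRing R] [Algebra R₀ R]
    (J : Ideal (MvPolynomial (Fin n) R₀))
    (h : ∀ (q : Ideal (MvPolynomial (Fin n) R)) [q.IsPrime],
      J.map (MvPolynomial.map (algebraMap R₀ R)) ≤ q → FlatCA.FlatAt R q (Quot R Z₀)) :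
    ∃ R₁ : Subalgebra R₀ R, R₁.FG ∧ ∀ (Q : Ideal (MvPolynomial (Fin n) R₁)) [Q.IsPrime],
      J.map (MvPolynomial.map (algebraMap R₀ R₁)) ≤ Q → FlatCA.FlatAt R₁ Q (Quot R₁ Z₀) := by
  classical
  let P := MvPolynomial (Fin n) R
  let JR := J.map (MvPolynomial.map (σ := Fin n) (algebraMap R₀ R))
  have hmodel : ∀ q : PrimeSpectrum P, JR ≤ q.asIdeal →
      ∃ R₁ : Subalgebra R₀ R, R₁.FG ∧
        FlatCA.FlatAt R₁ (q.asIdeal.comap (MvPolynomial.map (algebraMap R₁ R))) (Quot R₁ Z₀) :=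
    fun q hq => exists_model_flat Z₀ R q.asIdeal (h q.asIdeal hq)
  choose! B hBfg hB using hmodel
  let U : PrimeSpectrum P → Set (PrimeSpectrum P) := fun q =>
    PrimeSpectrum.comap (MvPolynomial.map (σ := Fin n) (algebraMap (B q) R)) ⁻¹'
      {Q | FlatCA.FlatAt (B q) Q.asIdeal (Quot (B q) Z₀)}
  have hUo : ∀ q ∈ PrimeSpectrum.zeroLocus (JR : Set P), IsOpen (U q) := fun q hq => by
    haveI : IsNoetherianRing (B q) := isNoetherianRing_of_fg (hBfg q hq)
    exact (isOpen_flatSet_noetherian Z₀ (B q)).preimage (PrimeSpectrum.continuous_comap _)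
  obtain ⟨t, ht, htcov⟩ := (PrimeSpectrum.isClosed_zeroLocus _).isCompact.elim_nhds_subcover U
    fun q hq => (hUo q hq).mem_nhds (hB q hq)
  -- a common subalgebra
  obtain ⟨B₂, hB₂fg, hB₂⟩ : ∃ B₂ : Subalgebra R₀ R, B₂.FG ∧ ∀ q ∈ t, B q ≤ B₂ := by
    refine ⟨t.sup B, ?_, fun q hq => Finset.le_sup (f := B) hq⟩
    exact Finset.sup_induction (p := fun S : Subalgebra R₀ R => S.FG) Subalgebra.fg_bot
      (fun a ha b hb => ha.sup hb) fun q hq => hBfg q (ht q hq)
  haveI : IsNoetherianRing B₂ := isNoetherianRing_of_fg hB₂fg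
  obtain ⟨K, hK⟩ := (PrimeSpectrum.isClosed_iff_zeroLocus_ideal _).1
    (isOpen_flatSet_noetherian Z₀ B₂).isClosed_compl
  let ψ := MvPolynomial.map (σ := Fin n) (algebraMap B₂ R)
  have htop : K.map ψ ⊔ JR = ⊤ := by
    by_contra hne
    obtain ⟨m, hm, hle⟩ := Ideal.exists_le_maximal _ hne
    haveI := hm.isPrime
    obtain ⟨q, hqt, hqU⟩ := Set.mem_iUnion₂.1 (htcov (show (⟨m, inferInstance⟩ :
      PrimeSpectrum P) ∈ PrimeSpectrum.zeroLocus (JR : Set P) from le_sup_right.trans hle))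
    have : (⟨m.comap ψ, inferInstance⟩ : PrimeSpectrum (MvPolynomial (Fin n) B₂)) ∈
        (flatSet Z₀ B₂)ᶜ := by
      rw [hK]
      exact Ideal.map_le_iff_le_comap.1 (le_sup_left.trans hle)
    refine this ?_
    letI : Algebra (B q) B₂ := (Subalgebra.inclusion (hB₂ q hqt)).toRingHom.toAlgebra
    haveI : IsScalarTower R₀ (B q) B₂ := IsScalarTower.of_algebraMap_eq fun _ => rfl
    refine flatAt_quot_of_tower Z₀ B₂ (B q) (m.comap ψ) ?_
    have hc : (m.comap ψ).comap (MvPolynomial.map (algebraMap (B q) B₂)) =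
        m.comap (MvPolynomial.map (σ := Fin n) (algebraMap (B q) R)) := by
      rw [Ideal.comap_comap]
      congr 1
      refine MvPolynomial.ringHom_ext (fun a => ?_) fun i => by simp [ψ]
      simp [ψ]; rfl
    exact flatAt_congr hc hqU
  obtain ⟨a, ha, b, hb, hab⟩ := Submodule.mem_sup.1 (htop.ge (Submodule.mem_top (x := (1 : P))))
  obtain ⟨ca, hca⟩ := (Finsupp.mem_span_iff_linearCombination P _ a).1 ha
  obtain ⟨cb, hcb⟩ := (Finsupp.mem_span_iff_linearCombination P _ b).1 hb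
  let cf : Finset R := (ca.support.biUnion fun x => (ca x).coeffs) ∪
    cb.support.biUnion fun x => (cb x).coeffs
  let B₃ : Subalgebra R₀ R := B₂ ⊔ Algebra.adjoin R₀ (cf : Set R)
  refine ⟨B₃, hB₂fg.sup ⟨cf, rfl⟩, fun Q _ hQ => ?_⟩
  letI : Algebra B₂ B₃ := (Subalgebra.inclusion le_sup_left).toRingHom.toAlgebra
  haveI : IsScalarTower R₀ B₂ B₃ := IsScalarTower.of_algebraMap_eq fun _ => rfl
  refine flatAt_quot_of_tower Z₀ B₃ B₂ Q ?_
  by_contra hn
  have hKQ : K.map (MvPolynomial.map (algebraMap B₂ B₃)) ≤ Q := by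
    have hmem : (⟨Q.comap (MvPolynomial.map (algebraMap B₂ B₃)), inferInstance⟩ :
        PrimeSpectrum (MvPolynomial (Fin n) B₂)) ∈ (flatSet Z₀ B₂)ᶜ := hn
    rw [hK] at hmem
    exact Ideal.map_le_iff_le_comap.2 hmem
  let θ := MvPolynomial.map (σ := Fin n) (algebraMap B₃ R)
  have hθ : Injective θ := MvPolynomial.map_injective _ Subtype.val_injective
  have hlift : ∀ w : P, (∀ x ∈ w.coeffs, x ∈ cf) → ∃ w', θ w' = w := fun w hw =>
    MvPolynomial.mem_range_map_iff_coeffs_subset.2 fun x hx =>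
      ⟨⟨x, (le_sup_right : _ ≤ B₃) (Algebra.subset_adjoin (hw x hx))⟩, rfl⟩
  have key : ∀ {A : Type u} [CommRing A] (φ : MvPolynomial (Fin n) A →+* MvPolynomial (Fin n) B₃)
      (φ' : MvPolynomial (Fin n) A →+* P), θ.comp φ = φ' →
      ∀ (I : Ideal (MvPolynomial (Fin n) A)), I.map φ ≤ Q →
      ∀ c : (φ' '' (I : Set (MvPolynomial (Fin n) A))) →₀ P,
      (∀ x ∈ c.support, ∀ y ∈ (c x).coeffs, y ∈ cf) →
        ∃ a' ∈ Q, θ a' = Finsupp.linearCombination P Subtype.val c := by
    intro A _ φ φ' hφ I hI c hc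
    rw [Finsupp.linearCombination_apply]
    refine Finset.sum_induction _ (fun z => ∃ a' ∈ Q, θ a' = z) ?_ ⟨0, Q.zero_mem, map_zero θ⟩ ?_
    · rintro u v ⟨a', ha', rfl⟩ ⟨b', hb', rfl⟩
      exact ⟨a' + b', Q.add_mem ha' hb', map_add θ a' b'⟩
    · intro x hx
      obtain ⟨w, hw⟩ := hlift (c x) (hc x hx)
      obtain ⟨z, hz, hzx⟩ := x.2
      refine ⟨w * φ z, Q.mul_mem_left _ (hI (Ideal.mem_map_of_mem φ hz)), ?_⟩
      rw [map_mul, hw, ← RingHom.comp_apply, hφ, hzx]
      rfl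
  obtain ⟨a', ha', rfl⟩ : ∃ a' ∈ Q, θ a' = a := by
    rw [← hca]
    refine key (MvPolynomial.map (algebraMap B₂ B₃)) ψ ?_ K hKQ ca fun x hx y hy =>
      Finset.mem_union_left _ (Finset.mem_biUnion.2 ⟨x, hx, hy⟩)
    refine MvPolynomial.ringHom_ext (fun a => ?_) fun i => by simp [θ, ψ]
    simp [θ, ψ]; rfl
  obtain ⟨b', hb', rfl⟩ : ∃ b' ∈ Q, θ b' = b := by
    rw [← hcb]
    refine key (MvPolynomial.map (algebraMap R₀ B₃)) (MvPolynomial.map (algebraMap R₀ R)) ?_ J hQ cb
      fun x hx y hy => Finset.mem_union_right _ (Finset.mem_biUnion.2 ⟨x, hx, hy⟩)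
    refine MvPolynomial.ringHom_ext (fun a => ?_) fun i => by simp [θ]
    simp [θ]
  have h1 : a' + b' = 1 := hθ (by rw [map_add, hab, map_one])
  exact Ideal.IsPrime.ne_top inferInstance ((Ideal.eq_top_iff_one _).2 (h1 ▸ Q.add_mem ha' hb'))

/-- Flatness descends to a finitely generated subalgebra. -/
theorem exists_model_flat_all [IsNoetherianRing R₀] (R : Type u) [CommRing R] [Algebra R₀ R]
    [Module.Flat R (Quot R Z₀)] :
    ∃ R₁ : Subalgebra R₀ R, R₁.FG ∧ Module.Flat R₁ (Quot R₁ Z₀) := by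
  obtain ⟨R₁, hfg, h⟩ := exists_model_flatOn Z₀ R ⊥ fun q _ _ =>
    FlatMor.FlatAtBC.flat_localizedModule R q.primeCompl (Quot R Z₀)
  exact ⟨R₁, hfg, flat_of_forall_flatAt (fun Q _ => h Q (by rw [Ideal.map_bot]; exact bot_le))⟩

/-- A finitely generated algebra over a Noetherian ring maps to a stage of a directed colimit. -/
theorem exists_stage_hom [IsNoetherianRing R₀] {ι : Type u} [Preorder ι] (G : ι → Type u)
    [∀ i, CommRing (G i)] (g : ∀ i j, i ≤ j → G i →+* G j) (A : Type u) [CommRing A]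
    [∀ i, Algebra (G i) A] (hcolim : FlatCA.IsDirectedColimitRing G g A)
    [∀ i, Algebra R₀ (G i)] (hg : ∀ i j h, (g i j h).comp (algebraMap R₀ (G i)) = algebraMap R₀ (G j))
    [Algebra R₀ A] [∀ i, IsScalarTower R₀ (G i) A] (R₁ : Subalgebra R₀ A) (hR₁ : R₁.FG) :
    ∃ (j : ι) (φ : R₁ →ₐ[R₀] G j), ∀ x, algebraMap (G j) A (φ x) = (x : A) := by
  classical
  obtain ⟨hdir, hne, hid, hcomp, halg, hsurj, hker⟩ := hcolim
  haveI := hne
  haveI : IsDirectedOrder ι := ⟨hdir.directed⟩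
  obtain ⟨s, hs⟩ := hR₁
  choose idx x hx using fun a : A => hsurj a
  obtain ⟨i, hi⟩ := Finset.exists_le (s.image idx)
  have hle : ∀ a ∈ s, idx a ≤ i := fun a ha => hi _ (Finset.mem_image_of_mem _ ha)
  let y : s → G i := fun a => g (idx a) i (hle a a.2) (x a)
  let Φ : MvPolynomial s R₀ →ₐ[R₀] G i := MvPolynomial.aeval y
  have hΦA : (IsScalarTower.toAlgHom R₀ (G i) A).comp Φ = MvPolynomial.aeval (fun a : s => (a : A)) := by
    refine MvPolynomial.algHom_ext fun a => ?_
    simp only [AlgHom.comp_apply, IsScalarTower.coe_toAlgHom', Φ, MvPolynomial.aeval_X, y]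
    rw [← RingHom.comp_apply, halg, hx]
  let π : MvPolynomial s R₀ →ₐ[R₀] R₁ := MvPolynomial.aeval fun a : s =>
    (⟨a, hs ▸ Algebra.subset_adjoin a.2⟩ : R₁)
  have hπA : R₁.val.comp π = MvPolynomial.aeval (fun a : s => (a : A)) :=
    MvPolynomial.algHom_ext fun a => by simp [π]
  have hπ : Surjective π := by
    intro z
    have hz : (z : A) ∈ (MvPolynomial.aeval (fun a : s => (a : A)) : MvPolynomial s R₀ →ₐ[R₀] A).range := by
      rw [← Algebra.adjoin_range_eq_range_aeval, Subtype.range_coe_subtype]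
      exact hs.symm ▸ z.2
    obtain ⟨w, hw⟩ := hz
    exact ⟨w, Subtype.ext ((DFunLike.congr_fun hπA w).trans hw)⟩
  obtain ⟨W, hW⟩ := IsNoetherian.noetherian (RingHom.ker π.toRingHom)
  have hkill : ∀ w ∈ W, ∃ k, ∃ h : i ≤ k, g i k h (Φ w) = 0 := by
    intro w hw
    refine hker i _ ?_
    have h0 : π w = 0 := by
      have : w ∈ RingHom.ker π.toRingHom := hW ▸ Submodule.subset_span hw
      exact this
    have := DFunLike.congr_fun hΦA w
    rw [AlgHom.comp_apply, ← DFunLike.congr_fun hπA w, AlgHom.comp_apply, h0, map_zero] at this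
    exact this
  choose! k hk hk0 using hkill
  obtain ⟨j₀, hj₀⟩ := Finset.exists_le (W.image k)
  obtain ⟨j, hij, hj₀j⟩ := exists_ge_ge i j₀
  let gA : G i →ₐ[R₀] G j := ⟨g i j hij, fun r => RingHom.congr_fun (hg i j hij) r⟩
  let Ψ := gA.comp Φ
  have hle' : RingHom.ker π.toRingHom ≤ RingHom.ker Ψ.toRingHom := by
    rw [← hW, Submodule.span_le]
    intro w hw
    show g i j hij (Φ w) = 0
    rw [← hcomp i (k w) j (hk w hw) ((hj₀ _ (Finset.mem_image_of_mem _ hw)).trans hj₀j),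
      RingHom.comp_apply, hk0 w hw, map_zero]
  let e := Ideal.quotientKerAlgEquivOfSurjective hπ
  let φ : R₁ →ₐ[R₀] G j := (Ideal.Quotient.liftₐ (RingHom.ker π) Ψ hle').comp e.symm.toAlgHom
  refine ⟨j, φ, fun z => ?_⟩
  obtain ⟨w, rfl⟩ := hπ z
  have he : e.symm (π w) = Ideal.Quotient.mk _ w := by
    rw [AlgEquiv.symm_apply_eq]; rfl
  have hφ : φ (π w) = g i j hij (Φ w) := by
    show Ideal.Quotient.liftₐ (RingHom.ker π) Ψ hle' (e.symm (π w)) = _
    rw [he]; rfl
  rw [hφ, ← RingHom.comp_apply, halg]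
  exact (DFunLike.congr_fun hΦA w).trans (DFunLike.congr_fun hπA w).symm

/-- Flatness descends to a stage of a directed colimit. -/
theorem exists_stage_flat {A₀ : Type u} [CommRing A₀] {ι : Type u} [Preorder ι] (G : ι → Type u)
    [∀ i, CommRing (G i)] [∀ i, Algebra A₀ (G i)] (g : ∀ i j, i ≤ j → G i →+* G j)
    (hg : ∀ i j h, (g i j h).comp (algebraMap A₀ (G i)) = algebraMap A₀ (G j))
    (A : Type u) [CommRing A] [Algebra A₀ A] [∀ i, Algebra (G i) A] [∀ i, IsScalarTower A₀ (G i) A]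
    (hcolim : FlatCA.IsDirectedColimitRing G g A)
    {B₀ : Type u} [CommRing B₀] [Algebra A₀ B₀] [Algebra.FinitePresentation A₀ B₀]
    (M₀ : Type u) [AddCommGroup M₀] [Module B₀ M₀] [Module A₀ M₀] [IsScalarTower A₀ B₀ M₀]
    [Module.FinitePresentation B₀ M₀] [Module.Flat A (A ⊗[A₀] M₀)] :
    ∃ i : ι, Module.Flat (G i) (G i ⊗[A₀] M₀) := by
  obtain ⟨n, r, R₀, Z₀, -, E, hR₀, -, -⟩ := exists_presentation_model A₀ B₀ M₀
  haveI : IsNoetherianRing R₀ := isNoetherianRing_of_fg hR₀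
  haveI : ∀ i, IsScalarTower R₀ A₀ (G i) := fun i => inferInstance
  haveI : ∀ i, IsScalarTower R₀ (G i) A := fun i => IsScalarTower.of_algebraMap_eq fun a => by
    rw [IsScalarTower.algebraMap_apply R₀ A₀ A, IsScalarTower.algebraMap_apply R₀ A₀ (G i),
      ← IsScalarTower.algebraMap_apply A₀ (G i) A]
  have T : ∀ (B : Type u) [CommRing B] [Algebra A₀ B],
      Nonempty (B ⊗[A₀] M₀ ≃ₗ[B] Quot B Z₀) := fun B _ _ =>
    ⟨((AlgebraTensorModule.congr (LinearEquiv.refl B B) E.symm).trans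
      (AlgebraTensorModule.congr (LinearEquiv.refl B B) (quotEquiv A₀ Z₀).symm)).trans
      ((AlgebraTensorModule.cancelBaseChange R₀ A₀ B B (Vec n r R₀ ⧸ Z₀)).trans (quotEquiv B Z₀))⟩
  haveI : Module.Flat A (Quot A Z₀) := Module.Flat.of_linearEquiv (T A).some.symm
  obtain ⟨R₁, hR₁, hflat⟩ := exists_model_flat_all Z₀ A
  obtain ⟨j, φ, hφ⟩ := exists_stage_hom G g A hcolim
    (fun i j h => by
      show (g i j h).comp ((algebraMap A₀ (G i)).comp (algebraMap R₀ A₀)) = _
      rw [← RingHom.comp_assoc, hg]; rfl) R₁ hR₁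
  letI : Algebra R₁ (G j) := φ.toRingHom.toAlgebra
  haveI : IsScalarTower R₀ R₁ (G j) := IsScalarTower.of_algebraMap_eq fun a => (φ.commutes a).symm
  haveI := flat_quot_of_tower Z₀ (G j) R₁
  exact ⟨j, Module.Flat.of_linearEquiv (T (G j)).some⟩

end Groth.Agent.FlatOpen
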