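import Groth.Agent.FlatOpen.API
import Groth.Agent.AssSch.Stalk
import Groth.Agent.Props.QFP
import Groth.Prelude.Def_FlatMod2

/-!
# The flat locus on schemes

* `isFlatOverAt_iff`, `stalkMap_flat_iff`: flatness at a point read on an affine chart.
* `isOpen_isFlatOverAt`, `isOpen_stalkMap_flat`: EGA IV 11.3.1.
-/

set_option autoImplicit false
set_option linter.style.haveILetI false

universe u

open CategoryTheory AlgebraicGeometry TopologicalSpace Opposite
open Groth.Agent.AssSch.Stalk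

namespace Groth.Agent.FlatOpen.Scheme

section Algebra

variable {R S A : Type u} [CommRing R] [CommRing S] [CommRing A] [Algebra R S] [Algebra R A]

/-- Flatness of a localization over a localized base. -/
theorem flat_iff_flatAt (p : Submonoid R) [IsLocalization p A] (q : Ideal S) [q.IsPrime]
    (M N : Type u) [AddCommGroup M] [Module S M] [Module R M] [IsScalarTower R S M]
    [AddCommGroup N] [Module S N] [Module R N] [IsScalarTower R S N] [Module A N] [IsScalarTower R A N]
    (g : M →ₗ[S] N) [IsLocalizedModule q.primeCompl g] :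
    Module.Flat A N ↔ FlatCA.FlatAt R q M := by
  rw [Module.flat_iff_of_isLocalization A p]
  constructor
  · intro h
    exact Module.Flat.of_linearEquiv ((IsLocalizedModule.iso q.primeCompl g).restrictScalars R)
  · intro h
    haveI : Module.Flat R (LocalizedModule q.primeCompl M) := h
    exact Module.Flat.of_linearEquiv ((IsLocalizedModule.iso q.primeCompl g).restrictScalars R).symm

end Algebra

variable {X Y : Scheme.{u}} (f : X ⟶ Y) {V : Y.Opens} (hV : IsAffineOpen V) {U : X.Opens}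
  (hU : IsAffineOpen U) (e : U ≤ f ⁻¹ᵁ V) (x : X) (hx : x ∈ U)

lemma stalkMap_germ (a : Γ(Y, V)) :
    (f.stalkMap x).hom (Y.presheaf.germ V (f x) (e hx) a) =
      X.presheaf.germ U x hx (f.appLE V U e a) := by
  rw [← CommRingCat.comp_apply, ← CommRingCat.comp_apply]
  congr 2
  exact (f.germ_stalkMap V x (e hx)).trans
    (Eq.symm (by rw [Scheme.Hom.appLE, Category.assoc, TopCat.Presheaf.germ_res]))

include hV in
/-- Flatness of `F` at `x` on a chart. -/
theorem isFlatOverAt_iff (F : X.Modules) [F.IsQuasicoherent] :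
    letI := (f.appLE V U e).hom.toAlgebra
    letI : Module Γ(Y, V) Γ(F, U) := Module.compHom _ (f.appLE V U e).hom
    haveI : IsScalarTower Γ(Y, V) Γ(X, U) Γ(F, U) := IsScalarTower.of_algebraMap_smul fun _ _ => rfl
    FlatMod.IsFlatOverAt f F x ↔ FlatCA.FlatAt Γ(Y, V) (primeOf hU x hx) Γ(F, U) := by
  letI := (f.appLE V U e).hom.toAlgebra
  letI : Module Γ(Y, V) Γ(F, U) := Module.compHom _ (f.appLE V U e).hom
  haveI : IsScalarTower Γ(Y, V) Γ(X, U) Γ(F, U) := IsScalarTower.of_algebraMap_smul fun _ _ => rfl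
  letI : Algebra Γ(X, U) (X.presheaf.stalk x) := (X.presheaf.germ U x hx).hom.toAlgebra
  letI : Module Γ(X, U) (F.presheaf.stalk x) := Module.compHom _ (X.presheaf.germ U x hx).hom
  letI : Algebra Γ(Y, V) (Y.presheaf.stalk (f x)) := (Y.presheaf.germ V (f x) (e hx)).hom.toAlgebra
  letI : Module (Y.presheaf.stalk (f x)) (F.presheaf.stalk x) := FlatMod.moduleStalkOver f F x
  letI : Module Γ(Y, V) (F.presheaf.stalk x) :=
    Module.compHom _ ((X.presheaf.germ U x hx).hom.comp (f.appLE V U e).hom)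
  haveI : IsScalarTower Γ(Y, V) Γ(X, U) (F.presheaf.stalk x) :=
    IsScalarTower.of_algebraMap_smul fun _ _ => rfl
  haveI : IsScalarTower Γ(Y, V) (Y.presheaf.stalk (f x)) (F.presheaf.stalk x) :=
    IsScalarTower.of_algebraMap_smul fun a m => by
      show (f.stalkMap x).hom (Y.presheaf.germ V (f x) (e hx) a) • m =
        X.presheaf.germ U x hx (f.appLE V U e a) • m
      rw [stalkMap_germ f e x hx a]
  haveI : IsLocalization.AtPrime (Y.presheaf.stalk (f x)) (hV.primeIdealOf ⟨f x, e hx⟩).asIdeal :=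
    hV.isLocalization_stalk ⟨f x, e hx⟩
  haveI := isLocalizedModule_germLinear F hU x hx
  exact flat_iff_flatAt (hV.primeIdealOf ⟨f x, e hx⟩).asIdeal.primeCompl (primeOf hU x hx)
    Γ(F, U) (F.presheaf.stalk x) (germLinear F x hx)

include hV in
/-- Flatness of `f` at `x` on a chart. -/
theorem stalkMap_flat_iff :
    letI := (f.appLE V U e).hom.toAlgebra
    (f.stalkMap x).hom.Flat ↔ FlatCA.FlatAt Γ(Y, V) (primeOf hU x hx) Γ(X, U) := by
  letI := (f.appLE V U e).hom.toAlgebra
  letI : Algebra Γ(X, U) (X.presheaf.stalk x) := (X.presheaf.germ U x hx).hom.toAlgebra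
  letI : Algebra (Y.presheaf.stalk (f x)) (X.presheaf.stalk x) := (f.stalkMap x).hom.toAlgebra
  letI : Algebra Γ(Y, V) (Y.presheaf.stalk (f x)) := (Y.presheaf.germ V (f x) (e hx)).hom.toAlgebra
  letI : Algebra Γ(Y, V) (X.presheaf.stalk x) :=
    ((X.presheaf.germ U x hx).hom.comp (f.appLE V U e).hom).toAlgebra
  haveI : IsScalarTower Γ(Y, V) Γ(X, U) (X.presheaf.stalk x) := IsScalarTower.of_algebraMap_eq' rfl
  haveI : IsScalarTower Γ(Y, V) (Y.presheaf.stalk (f x)) (X.presheaf.stalk x) :=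
    IsScalarTower.of_algebraMap_eq fun a => (stalkMap_germ f e x hx a).symm
  haveI : IsLocalization.AtPrime (Y.presheaf.stalk (f x)) (hV.primeIdealOf ⟨f x, e hx⟩).asIdeal :=
    hV.isLocalization_stalk ⟨f x, e hx⟩
  haveI : IsLocalization.AtPrime (X.presheaf.stalk x) (primeOf hU x hx) :=
    hU.isLocalization_stalk ⟨x, hx⟩
  haveI : IsLocalizedModule (primeOf hU x hx).primeCompl
      (Algebra.linearMap Γ(X, U) (X.presheaf.stalk x)) :=
    (isLocalizedModule_iff_isLocalization' _ _).2 inferInstance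
  rw [RingHom.Flat]
  exact flat_iff_flatAt (hV.primeIdealOf ⟨f x, e hx⟩).asIdeal.primeCompl (primeOf hU x hx)
    Γ(X, U) (X.presheaf.stalk x) (Algebra.linearMap Γ(X, U) (X.presheaf.stalk x))

omit x in
/-- A subset is open if it is open on affine charts. -/
theorem isOpen_of_charts (W : Set X)
    (h : ∀ (V : Y.Opens) (_ : IsAffineOpen V) (U : X.Opens) (hU : IsAffineOpen U) (_ : U ≤ f ⁻¹ᵁ V),
      ∃ O : Set (PrimeSpectrum Γ(X, U)), IsOpen O ∧
        ∀ (x : X) (hx : x ∈ U), x ∈ W ↔ hU.primeIdealOf ⟨x, hx⟩ ∈ O) : IsOpen W := by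
  refine isOpen_iff_forall_mem_open.2 fun x hxW => ?_
  obtain ⟨_, ⟨V, hV, rfl⟩, hxV, -⟩ := Y.isBasis_affineOpens.exists_subset_of_mem_open
    (Set.mem_univ (f x)) isOpen_univ
  obtain ⟨_, ⟨U, hU, rfl⟩, hxU, hUV⟩ := X.isBasis_affineOpens.exists_subset_of_mem_open
    (show x ∈ f ⁻¹ᵁ V from hxV) (f ⁻¹ᵁ V).isOpen
  obtain ⟨O, hO, hOW⟩ := h V hV U hU hUV
  haveI := hU.isOpenImmersion_fromSpec
  refine ⟨hU.fromSpec '' O, ?_, hU.fromSpec.isOpenEmbedding.isOpenMap _ hO, ?_⟩
  · rintro _ ⟨p, hp, rfl⟩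
    have hpU : hU.fromSpec p ∈ U := hU.range_fromSpec.subset ⟨p, rfl⟩
    refine (hOW _ hpU).2 ?_
    have : hU.fromSpec (hU.primeIdealOf ⟨hU.fromSpec p, hpU⟩) = hU.fromSpec p :=
      hU.fromSpec_primeIdealOf _
    rw [hU.fromSpec.isOpenEmbedding.injective this]
    exact hp
  · exact ⟨_, (hOW x hxU).1 hxW, hU.fromSpec_primeIdealOf _⟩

/-- EGA IV 11.3.1 for a module. -/
theorem isOpen_isFlatOverAt [LocallyOfFinitePresentation f] (F : X.Modules) [F.IsQuasicoherent]
    (hF : CohB1.IsFP F) : IsOpen {x : X | FlatMod.IsFlatOverAt f F x} := by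
  refine isOpen_of_charts f _ fun V hV U hU e => ?_
  letI := (f.appLE V U e).hom.toAlgebra
  letI : Module Γ(Y, V) Γ(F, U) := Module.compHom _ (f.appLE V U e).hom
  haveI : IsScalarTower Γ(Y, V) Γ(X, U) Γ(F, U) := IsScalarTower.of_algebraMap_smul fun _ _ => rfl
  haveI : Algebra.FinitePresentation Γ(Y, V) Γ(X, U) := f.finitePresentation_appLE hV hU e
  haveI : Module.FinitePresentation Γ(X, U) Γ(F, U) := (Props.QFP.isFP_iff F).1 hF U hU
  exact ⟨_, isOpen_flatLocus Γ(Y, V) Γ(X, U) Γ(F, U),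
    fun x hx => isFlatOverAt_iff f hV hU e x hx F⟩

/-- EGA IV 11.3.1 for the structure sheaf. -/
theorem isOpen_stalkMap_flat [LocallyOfFinitePresentation f] :
    IsOpen {x : X | (f.stalkMap x).hom.Flat} := by
  refine isOpen_of_charts f _ fun V hV U hU e => ?_
  letI := (f.appLE V U e).hom.toAlgebra
  haveI : Algebra.FinitePresentation Γ(Y, V) Γ(X, U) := f.finitePresentation_appLE hV hU e
  exact ⟨_, isOpen_flatLocus Γ(Y, V) Γ(X, U) Γ(X, U), fun x hx => stalkMap_flat_iff f hV hU e x hx⟩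

end Groth.Agent.FlatOpen.Scheme
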