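import Groth.Agent.FlatOpen.MapOpen

/-!
# Slicing by a fibrewise nonzerodivisor (EGA IV 11.3.8)

* `flat_of_flatAt_basicOpen`: flat at all primes of `D(g)` ⟹ `M_g` flat.
* `exists_slice`: `h` a nonzerodivisor on the fibre at `Q` ⟹ on some `D(g) ∋ Q` it is a
  nonzerodivisor with flat quotient.
-/

set_option autoImplicit false
set_option linter.style.haveILetI false

universe u

open TensorProduct Function

namespace Groth.Agent.FlatOpen

variable {R S : Type u} [CommRing R] [CommRing S] [Algebra R S]

/-- `M_g` is flat when `M` is flat at the primes of `D(g)`. -/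
theorem flat_of_flatAt_basicOpen {M M' : Type u} [AddCommGroup M] [Module S M] [Module R M]
    [IsScalarTower R S M] [AddCommGroup M'] [Module S M'] [Module R M'] [IsScalarTower R S M']
    (g : S) (φ : M →ₗ[S] M') [IsLocalizedModule (Submonoid.powers g) φ]
    (h : ∀ (P : Ideal S) [P.IsPrime], g ∉ P → FlatCA.FlatAt R P M) : Module.Flat R M' := by
  let T := Submonoid.powers g
  have hflat : Module.Flat R (LocalizedModule T M) := by
    rw [Module.Flat.iff_lTensor_preserves_injective_linearMap]
    intro X Y _ _ _ _ a ha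
    refine lTensor_localized_injective T a fun x hx => ?_
    let A : Ideal S := LinearMap.ker (LinearMap.toSpanSingleton S (M ⊗[R] X) x)
    have hg : g ∈ A.radical := by
      rw [Ideal.radical_eq_sInf, Ideal.mem_sInf]
      rintro P ⟨hAP, hP⟩
      by_contra hgP
      haveI := hP
      haveI : Module.Flat R (LocalizedModule P.primeCompl M) := h P hgP
      let mX := AlgebraTensorModule.rTensor R X (LocalizedModule.mkLinearMap P.primeCompl M)
      haveI : IsLocalizedModule P.primeCompl mX := inferInstance
      have hinj : Injective (a.lTensor (LocalizedModule P.primeCompl M)) :=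
        Module.Flat.lTensor_preserves_injective_linearMap a ha
      have hc : ∀ z, a.lTensor _ (mX z) =
          AlgebraTensorModule.rTensor R Y (LocalizedModule.mkLinearMap P.primeCompl M) (a.lTensor M z) := by
        intro z
        induction z with
        | zero => simp only [map_zero]
        | tmul m y => simp [mX]
        | add u v hu hv => simp only [map_add, hu, hv]
      have h0 : mX x = 0 := hinj (by rw [hc, hx, map_zero, map_zero])
      obtain ⟨⟨t, ht⟩, htx⟩ := (IsLocalizedModule.eq_zero_iff P.primeCompl mX).1 h0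
      exact ht (hAP (by exact htx))
    obtain ⟨N, hN⟩ := hg
    exact ⟨⟨g ^ N, N, rfl⟩, hN⟩
  exact Module.Flat.of_linearEquiv ((IsLocalizedModule.iso T φ).restrictScalars R).symm

/-- EGA IV 11.3.8 for one element. -/
theorem exists_slice [Algebra.FinitePresentation R S] (Q : Ideal S) [Q.IsPrime]
    (hflat : FlatCA.FlatAt R Q S) (h : S)
    (hreg : ∀ m : S, h * m ∈ (Q.comap (algebraMap R S)).map (algebraMap R S) →
      ∃ s ∉ Q, s * m ∈ (Q.comap (algebraMap R S)).map (algebraMap R S)) :
    ∃ g ∉ Q, ∀ (S' : Type u) [CommRing S'] [Algebra S S'] [Algebra R S'] [IsScalarTower R S S']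
      [IsLocalization.Away g S'], algebraMap S S' h ∈ nonZeroDivisors S' ∧
        Module.Flat R (S' ⧸ Ideal.span {algebraMap S S' h}) := by
  let I := (Q.comap (algebraMap R S)).map (algebraMap R S)
  let u : S →ₗ[S] S := LinearMap.mulLeft S h
  have hI : ∀ m : S, m ∈ I • (⊤ : Submodule S S) ↔ m ∈ I := fun m => by
    rw [smul_eq_mul, ← Ideal.one_eq_top, mul_one]
  have hmem : (⟨Q, inferInstance⟩ : PrimeSpectrum S) ∈
      {P : PrimeSpectrum S | FlatCA.FlatAt R P.asIdeal (S ⧸ LinearMap.range u) ∧
        ∀ m : S, u m = 0 → ∃ s ∉ P.asIdeal, s • m = 0} :=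
    injective_coker_flat_of_fibEq R S u Q hflat fun m hm => by
      obtain ⟨s, hs, hsm⟩ := hreg m ((hI _).1 hm)
      exact ⟨s, hs, (hI _).2 hsm⟩
  obtain ⟨-, ⟨_, ⟨g, rfl⟩, rfl⟩, hgQ, hg⟩ := PrimeSpectrum.isBasis_basic_opens.exists_subset_of_mem_open hmem
    (isOpen_injective_coker_flat R S u)
  refine ⟨g, hgQ, fun S' _ _ _ _ _ => ⟨?_, ?_⟩⟩
  · rw [mem_nonZeroDivisors_iff_right]
    intro z hz
    obtain ⟨⟨m, t⟩, hmt⟩ := IsLocalization.surj (Submonoid.powers g) z
    have h0 : algebraMap S S' (m * h) = 0 := by
      rw [map_mul, ← hmt, mul_right_comm, hz, zero_mul]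
    obtain ⟨⟨t', k, rfl⟩, hk⟩ := (IsLocalization.map_eq_zero_iff (Submonoid.powers g) S' _).1 h0
    let A : Ideal S := LinearMap.ker (LinearMap.toSpanSingleton S S (g ^ k * m))
    have hgA : g ∈ A.radical := by
      rw [Ideal.radical_eq_sInf, Ideal.mem_sInf]
      rintro P ⟨hAP, hP⟩
      by_contra hgP
      obtain ⟨s, hs, hsm⟩ := (hg (show (⟨P, hP⟩ : PrimeSpectrum S) ∈
        ↑(PrimeSpectrum.basicOpen g) from hgP)).2 (g ^ k * m) (by
          show h * (g ^ k * m) = 0
          rw [mul_left_comm, mul_comm h]
          exact hk)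
      exact hs (hAP hsm)
    obtain ⟨N, hN⟩ := hgA
    have hN' : g ^ N * (g ^ k * m) = 0 := hN
    refine (IsLocalization.map_units S' t).mul_left_eq_zero.1 ?_
    rw [hmt]
    exact (IsLocalization.map_eq_zero_iff (Submonoid.powers g) S' _).2
      ⟨⟨g ^ (N + k), N + k, rfl⟩, show g ^ (N + k) * m = 0 by rw [pow_add, mul_assoc]; exact hN'⟩
  · let q := Submodule.toLocalizedQuotient' S' (Submonoid.powers g) (Algebra.linearMap S S')
      (LinearMap.range u)
    haveI : IsLocalizedModule (Submonoid.powers g) (Algebra.linearMap S S') :=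
      (isLocalizedModule_iff_isLocalization' _ _).2 inferInstance
    have heq : (LinearMap.range u).localized' S' (Submonoid.powers g) (Algebra.linearMap S S') =
        Ideal.span {algebraMap S S' h} := by
      rw [show LinearMap.range u = Submodule.span S {h} from by
        ext z
        rw [Submodule.mem_span_singleton]
        exact exists_congr fun c => by simp [u, mul_comm],
        Submodule.localized'_span, Set.image_singleton]
      rfl
    haveI := flat_of_flatAt_basicOpen (R := R) g q fun P hP hgP =>
      (hg (show (⟨P, hP⟩ : PrimeSpectrum S) ∈ ↑(PrimeSpectrum.basicOpen g) from hgP)).1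
    exact Module.Flat.of_linearEquiv ((Submodule.quotEquivOfEq _ _ heq).restrictScalars R).symm

end Groth.Agent.FlatOpen
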