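import Groth.Agent.FlatOpen.SmoothAt
import Groth.Agent.FlatMor.FibMapCrit
import Groth.Prelude.Def_ega3

/-!
# Smooth / étale at a point through the map of fibres (EGA IV 17.8.2)
-/

set_option autoImplicit false
set_option linter.style.haveILetI false

universe u

open CategoryTheory Limits AlgebraicGeometry

namespace Groth.Agent.FlatOpen.FibreMapAt

variable {X Y S : Scheme.{u}}

theorem nhd_baseChange (P : MorphismProperty Scheme.{u}) [P.IsStableUnderBaseChange]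
    {A B C D : Scheme.{u}} {a : A ⟶ B} {b : A ⟶ C} {c : B ⟶ D} {d : C ⟶ D} (sq : IsPullback a b c d)
    (x : A) (h : ∃ U : B.Opens, a x ∈ U ∧ P (U.ι ≫ c)) :
    ∃ W : A.Opens, x ∈ W ∧ P (W.ι ≫ b) := by
  obtain ⟨U, hxU, hP⟩ := h
  exact ⟨a ⁻¹ᵁ U, hxU,
    MorphismProperty.of_isPullback ((isPullback_morphismRestrict a U).paste_vert sq) hP⟩

theorem fiberMapOver_eq (f : X ⟶ Y) (g : Y ⟶ S) (s : S) :
    CohIII.fiberMapOver f (f ≫ g) g rfl s = MoreMor.fiberMap f g s := by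
  refine pullback.hom_ext ?_ ?_
  · exact (pullback.lift_fst _ _ _).trans (pullback.lift_fst _ _ _).symm
  · exact (pullback.lift_snd _ _ _).trans ((Category.comp_id _).trans (pullback.lift_snd _ _ _).symm)

theorem lfp_fiberMap (f : X ⟶ Y) (g : Y ⟶ S) [LocallyOfFinitePresentation (f ≫ g)]
    [LocallyOfFiniteType g] (s : S) : LocallyOfFinitePresentation (MoreMor.fiberMap f g s) := by
  have := GrpScheme.FlatFib.locallyOfFinitePresentation_of_comp f g
  exact FlatMor.FibMap.fiberMap_of_baseChange @LocallyOfFinitePresentation f g s inferInstance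

/-- The fibre of `f` at `f x` sits over the map of fibres. -/
theorem exists_fibre_square (f : X ⟶ Y) (g : Y ⟶ S) (x : X) (x' : (f ≫ g).fiber (g (f x)))
    (hx' : (f ≫ g).fiberι (g (f x)) x' = x) :
    ∃ (k : f.fiber (f x) ⟶ (f ≫ g).fiber (g (f x))) (l : Spec (Y.residueField (f x)) ⟶ g.fiber (g (f x))),
      IsPullback k (f.fiberToSpecResidueField (f x)) (MoreMor.fiberMap f g (g (f x))) l ∧
        k (f.asFiber x) = x' := by
  have sq := FlatMor.FibMap.isPullback_fiberMap f g (g (f x))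
  let l : Spec (Y.residueField (f x)) ⟶ g.fiber (g (f x)) :=
    pullback.lift (Y.fromSpecResidueField (f x)) (Spec.map (g.residueFieldMap (f x)))
      (Scheme.Hom.SpecMap_residueFieldMap_fromSpecResidueField g (f x)).symm
  have hl : l ≫ g.fiberι (g (f x)) = Y.fromSpecResidueField (f x) := pullback.lift_fst _ _ _
  have outer : IsPullback (f.fiberι (f x)) (f.fiberToSpecResidueField (f x)) f
      (l ≫ g.fiberι (g (f x))) := hl.symm ▸ IsPullback.of_hasPullback _ _
  let k := sq.lift (f.fiberι (f x)) (f.fiberToSpecResidueField (f x) ≫ l)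
    (by rw [outer.w, Category.assoc])
  have hk : k ≫ (f ≫ g).fiberι (g (f x)) = f.fiberι (f x) := sq.lift_fst _ _ _
  refine ⟨k, l, IsPullback.of_right (hk.symm ▸ outer) (sq.lift_snd _ _ _) sq, ?_⟩
  apply ((f ≫ g).fiberι (g (f x))).isEmbedding.injective
  rw [hx', ← Scheme.Hom.comp_apply, hk, f.fiberι_asFiber]

theorem flat_of_nhd_flat (f : X ⟶ Y) (g : Y ⟶ S) [LocallyOfFinitePresentation (f ≫ g)]
    [LocallyOfFiniteType g] (x : X) (hflat : ((f ≫ g).stalkMap x).hom.Flat)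
    (x' : (f ≫ g).fiber (g (f x))) (hx' : (f ≫ g).fiberι (g (f x)) x' = x)
    (V : ((f ≫ g).fiber (g (f x))).Opens) (hV : x' ∈ V)
    [Flat (V.ι ≫ MoreMor.fiberMap f g (g (f x)))] : (f.stalkMap x).hom.Flat := by
  refine (GrpScheme.FlatFib.flat_of_fibre f g x hflat ?_).2
  obtain rfl : (f ≫ g).asFiber x = x' := ((f ≫ g).fiberι (g (f x))).isEmbedding.injective
    (((f ≫ g).fiberι_asFiber x).trans hx'.symm)
  exact (EtStruct.stalkMap_ι_comp_iff _ RingHom.Flat.respectsIso V ⟨_, hV⟩).mp (Flat.stalkMap _ _)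

/-- EGA IV 17.8.2 (smooth). -/
theorem smoothAt_iff (f : X ⟶ Y) (g : Y ⟶ S) [LocallyOfFinitePresentation (f ≫ g)]
    [LocallyOfFiniteType g] (x : X) (hflat : ((f ≫ g).stalkMap x).hom.Flat)
    (x' : (f ≫ g).fiber (g (f x))) (hx' : (f ≫ g).fiberι (g (f x)) x' = x) :
    (∃ U : X.Opens, x ∈ U ∧ Smooth (U.ι ≫ f)) ↔
      ∃ V : ((f ≫ g).fiber (g (f x))).Opens, x' ∈ V ∧ Smooth (V.ι ≫ MoreMor.fiberMap f g (g (f x))) := by
  haveI := GrpScheme.FlatFib.locallyOfFinitePresentation_of_comp f g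
  refine ⟨fun h => nhd_baseChange @Smooth (FlatMor.FibMap.isPullback_fiberMap f g _) x'
    (by rwa [hx']), fun ⟨V, hV, hP⟩ => ?_⟩
  rw [EtStruct.smooth_nhd_iff]
  have hfl : (f.stalkMap x).hom.Flat := flat_of_nhd_flat f g x hflat x' hx' V hV
  obtain ⟨k, l, sq, hk⟩ := exists_fibre_square f g x x' hx'
  have hW := nhd_baseChange @Smooth sq (f.asFiber x) ⟨V, hk.symm ▸ hV, hP⟩
  haveI : LocallyOfFinitePresentation (f.fiberToSpecResidueField (f x)) :=
    MorphismProperty.of_isPullback (P := @LocallyOfFinitePresentation) (IsPullback.of_hasPullback f _) inferInstance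
  rw [EtStruct.smooth_nhd_iff] at hW
  have key := SmoothAt.formallySmooth_stalkMap_iff_fibre f (f x) (f.asFiber x)
  rw [f.fiberι_asFiber] at key
  exact key.mpr ⟨hfl, hW⟩

/-- EGA IV 17.8.2 (étale). -/
theorem etaleAt_iff (f : X ⟶ Y) (g : Y ⟶ S) [LocallyOfFinitePresentation (f ≫ g)]
    [LocallyOfFiniteType g] (x : X) (hflat : ((f ≫ g).stalkMap x).hom.Flat)
    (x' : (f ≫ g).fiber (g (f x))) (hx' : (f ≫ g).fiberι (g (f x)) x' = x) :
    (∃ U : X.Opens, x ∈ U ∧ Etale (U.ι ≫ f)) ↔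
      ∃ V : ((f ≫ g).fiber (g (f x))).Opens, x' ∈ V ∧ Etale (V.ι ≫ MoreMor.fiberMap f g (g (f x))) := by
  haveI := GrpScheme.FlatFib.locallyOfFinitePresentation_of_comp f g
  refine ⟨fun h => nhd_baseChange @Etale (FlatMor.FibMap.isPullback_fiberMap f g _) x'
    (by rwa [hx']), fun ⟨V, hV, hP⟩ => ?_⟩
  rw [EtStruct.etale_nhd_iff]
  refine ⟨?_, flat_of_nhd_flat f g x hflat x' hx' V hV⟩
  obtain ⟨k, l, sq, hk⟩ := exists_fibre_square f g x x' hx'
  obtain ⟨W, hW, hWP⟩ := nhd_baseChange @Etale sq (f.asFiber x) ⟨V, hk.symm ▸ hV, hP⟩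
  exact UnramFib.stalkMap_formallyUnramified_of_fiber_nhd f x W hW inferInstance

end Groth.Agent.FlatOpen.FibreMapAt
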