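import Groth.Agent.FlatOpen.MapCrit

/-!
# Injectivity with flat cokernel: base change and openness

* `exists_smul_eq_zero_of_flat_coker`: `W ⊗ X → V ⊗ X` is injective where the cokernel is flat.
* `exists_smul_mem_ext_comap`: where the cokernel of a model is flat, kernels commute with base change.
* `fibInj_of_fibEq`: elementwise fibre injectivity gives injectivity over the fibre field.
* `exists_map_model`: a map of fp modules over an fp algebra has a Noetherian model.
* `injective_coker_flat_of_fibEq`, `fibEq_of_injective_coker_flat`: EGA IV 11.3.7.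
* `isOpen_injective_coker_flat`: openness.
-/

set_option autoImplicit false
set_option linter.style.haveILetI false
set_option linter.unusedSectionVars false

universe u

open TensorProduct Function

namespace Groth.Agent.FlatOpen

/-- Injectivity after tensoring, up to `T`, when the cokernel is flat after localizing at `T`. -/
theorem exists_smul_eq_zero_of_flat_coker {R P : Type u} [CommRing R] [CommRing P] [Algebra R P]
    (T : Submonoid P) {W V C : Type u} [AddCommGroup W] [Module P W] [Module R W] [IsScalarTower R P W]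
    [AddCommGroup V] [Module P V] [Module R V] [IsScalarTower R P V]
    [AddCommGroup C] [Module P C] [Module R C] [IsScalarTower R P C]
    (i : W →ₗ[P] V) (hi : Injective i) (g : V →ₗ[P] C) (hg : Surjective g) (hig : Exact i g)
    [Module.Flat R (LocalizedModule T C)] (X : Type u) [AddCommGroup X] [Module R X]
    (x : W ⊗[R] X) (hx : (i.restrictScalars R).rTensor X x = 0) : ∃ t ∈ T, t • x = 0 := by
  let mW := LocalizedModule.mkLinearMap T W
  let mV := LocalizedModule.mkLinearMap T V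
  let mC := LocalizedModule.mkLinearMap T C
  let iT := (IsLocalizedModule.map T mW mV i).restrictScalars R
  let gT := (IsLocalizedModule.map T mV mC g).restrictScalars R
  have hinj : Injective (iT.rTensor X) := by
    rw [← LinearMap.lTensor_inj_iff_rTensor_inj]
    exact LocFlat.lTensor_injective_of_flat_coker iT gT (IsLocalizedModule.map_exact T mW mV mC i g hig)
      (IsLocalizedModule.map_surjective T mV mC g hg) (IsLocalizedModule.map_injective T mW mV i hi) X
  let nW := AlgebraTensorModule.rTensor R X mW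
  haveI : IsLocalizedModule T nW := inferInstance
  have hcomm : ∀ z, iT.rTensor X (nW z) =
      AlgebraTensorModule.rTensor R X mV ((i.restrictScalars R).rTensor X z) := by
    intro z
    induction z with
    | zero => simp only [map_zero]
    | tmul w y => simp [iT, nW, IsLocalizedModule.map_apply]
    | add u v hu hv => simp only [map_add, hu, hv]
  have h0 : nW x = 0 := hinj (by rw [hcomm, hx, map_zero, map_zero])
  obtain ⟨⟨t, ht⟩, htx⟩ := (IsLocalizedModule.eq_zero_iff T nW).1 h0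
  exact ⟨t, ht, htx⟩

lemma mvMap_comp {σ : Type*} {A B C : Type u} [CommRing A] [CommRing B] [CommRing C] (f : A →+* B) (g : B →+* C) :
    MvPolynomial.map (σ := σ) (g.comp f) = (MvPolynomial.map g).comp (MvPolynomial.map f) :=
  RingHom.ext fun x => (MvPolynomial.map_map f g x).symm

variable {n r a : ℕ} {R₀ : Type u} [CommRing R₀]
  (U₀ : Fin a → Vec n r R₀) (Z₀ : Submodule (MvPolynomial (Fin n) R₀) (Vec n r R₀))
  (Z₀' : Submodule (MvPolynomial (Fin n) R₀) (Vec n a R₀))

/-- Kernels commute with base change where the cokernel of the model is flat. -/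
theorem exists_smul_mem_ext_comap (R : Type u) [CommRing R] [Algebra R₀ R] (R₁ : Type u) [CommRing R₁]
    [Algebra R₀ R₁] [Algebra R₁ R] [IsScalarTower R₀ R₁ R]
    (q₁ : Ideal (MvPolynomial (Fin n) R₁)) [q₁.IsPrime]
    (hC : FlatCA.FlatAt R₁ q₁ (Quot R₁ (cokerRel U₀ Z₀)))
    (v : Vec n a R) (hv : mapU U₀ R v ∈ ext R Z₀) :
    ∃ t ∉ q₁, MvPolynomial.map (algebraMap R₁ R) t • v ∈
      ext (R₀ := R₁) R ((ext R₁ Z₀).comap (mapU U₀ R₁)) := by
  let K₁ := (ext R₁ Z₀).comap (mapU U₀ R₁)
  let i : (Vec n a R₁ ⧸ K₁) →ₗ[MvPolynomial (Fin n) R₁] Quot R₁ Z₀ :=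
    K₁.mapQ (ext R₁ Z₀) (mapU U₀ R₁) le_rfl
  let g : Quot R₁ Z₀ →ₗ[MvPolynomial (Fin n) R₁] Quot R₁ (cokerRel U₀ Z₀) :=
    Submodule.factor (ext_mono R₁ (show Z₀ ≤ cokerRel U₀ Z₀ from le_sup_left))
  have hi : Injective i := by
    rw [← LinearMap.ker_eq_bot, Submodule.ker_mapQ, Submodule.mkQ_map_self]
  have hg : Surjective g := Submodule.factor_surjective _
  have hig : Exact i g := by
    intro y
    obtain ⟨y, rfl⟩ := Submodule.mkQ_surjective _ y
    rw [show g ((ext R₁ Z₀).mkQ y) = (ext R₁ (cokerRel U₀ Z₀)).mkQ y from Submodule.factor_mk _ _,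
      Submodule.mkQ_apply, Submodule.mkQ_apply, Submodule.Quotient.mk_eq_zero, ext_cokerRel,
      Submodule.mem_sup]
    constructor
    · rintro ⟨z, hz, -, ⟨w, rfl⟩, rfl⟩
      exact ⟨Submodule.Quotient.mk w, (Submodule.Quotient.eq _).2 (by
        rw [sub_add_cancel_right]; exact neg_mem hz)⟩
    · rintro ⟨w, hw⟩
      obtain ⟨w, rfl⟩ := Submodule.mkQ_surjective _ w
      refine ⟨y - mapU U₀ R₁ w, ?_, _, ⟨w, rfl⟩, sub_add_cancel _ _⟩
      exact (Submodule.Quotient.eq _).1 hw.symm
  haveI : Module.Flat R₁ (LocalizedModule q₁.primeCompl (Quot R₁ (cokerRel U₀ Z₀))) := hC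
  let x₀ : R ⊗[R₁] (Vec n a R₁ ⧸ K₁) :=
    (quotEquiv R K₁).symm (Submodule.Quotient.mk v)
  have hle : ext (R₀ := R₁) R K₁ ≤ (ext (R₀ := R₁) R (ext R₁ Z₀)).comap (mapU U₀ R) := by
    refine Submodule.span_le.2 ?_
    rintro - ⟨w, hw, rfl⟩
    rw [SetLike.mem_coe, Submodule.mem_comap, mapU_mapVec]
    exact mapVec_mem_ext (R₀ := R₁) R _ hw
  have hnat : ∀ z, ((quotEquiv R (ext R₁ Z₀)) ((i.restrictScalars R₁).lTensor R z)) =
      Submodule.mapQ (ext (R₀ := R₁) R K₁) (ext (R₀ := R₁) R (ext R₁ Z₀)) (mapU U₀ R) hle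
        (quotEquiv R K₁ z) := by
    intro z
    induction z with
    | zero => simp only [map_zero]
    | tmul c w =>
      obtain ⟨w, rfl⟩ := Submodule.mkQ_surjective _ w
      simp only [Submodule.mkQ_apply, LinearMap.lTensor_tmul, LinearMap.coe_restrictScalars, i,
        Submodule.mapQ_apply, quotEquiv_tmul_mk, LinearMap.map_smul_of_tower, mapU_mapVec]
    | add u v hu hv => simp only [map_add, hu, hv]
  have hx : (i.restrictScalars R₁).rTensor R (TensorProduct.comm R₁ _ _ x₀) = 0 := by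
    have h0 : (i.restrictScalars R₁).lTensor R x₀ = 0 := by
      apply (quotEquiv R (ext R₁ Z₀)).injective
      rw [hnat, LinearEquiv.apply_symm_apply, Submodule.mapQ_apply, map_zero,
        Submodule.Quotient.mk_eq_zero, ext_ext R Z₀ R₁]
      exact hv
    apply (TensorProduct.comm R₁ _ R).injective
    rw [map_zero, ← h0]
    generalize x₀ = z
    induction z with
    | zero => simp only [map_zero]
    | tmul c w => simp
    | add u v hu hv => simp only [map_add, hu, hv]
  obtain ⟨t, ht, htx⟩ := exists_smul_eq_zero_of_flat_coker q₁.primeCompl i hi g hg hig R _ hx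
  refine ⟨t, ht, ?_⟩
  have hsemi : ∀ z : R ⊗[R₁] (Vec n a R₁ ⧸ K₁),
      quotEquiv R K₁ ((TensorProduct.comm R₁ R _).symm (t • TensorProduct.comm R₁ R _ z)) =
        MvPolynomial.map (algebraMap R₁ R) t • quotEquiv R K₁ z := by
    intro z
    induction z with
    | zero => simp only [map_zero, smul_zero]
    | tmul c w =>
      obtain ⟨w, rfl⟩ := Submodule.mkQ_surjective _ w
      simp only [TensorProduct.comm_tmul, smul_tmul', TensorProduct.comm_symm_tmul,
        Submodule.mkQ_apply, ← Submodule.Quotient.mk_smul, quotEquiv_tmul_mk, mapVec_smul]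
      rw [smul_comm]
    | add u v hu hv => simp only [map_add, smul_add, hu, hv]
  have := hsemi x₀
  rw [htx, map_zero, map_zero, LinearEquiv.apply_symm_apply] at this
  rw [← Submodule.Quotient.mk_eq_zero, Submodule.Quotient.mk_smul]
  exact this.symm

/-- Elementwise fibre injectivity gives injectivity over a fibre field. -/
theorem exists_fibInj_of_fibEq (R : Type u) [CommRing R] [Algebra R₀ R] (p : Ideal R) [p.IsPrime]
    (q : Ideal (MvPolynomial (Fin n) R)) [q.IsPrime]
    (hqp : q.comap (algebraMap R (MvPolynomial (Fin n) R)) = p) (h : FibEq U₀ Z₀ Z₀' R p q) :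
    ∃ qk : Ideal (MvPolynomial (Fin n) (FractionRing (R ⧸ p))), qk.IsPrime ∧
      qk.comap (MvPolynomial.map (algebraMap R (FractionRing (R ⧸ p)))) = q ∧
      FibInj U₀ Z₀ Z₀' (FractionRing (R ⧸ p)) qk := by
  classical
  let D := R ⧸ p
  let k := FractionRing D
  have hD : RingHom.ker (algebraMap R D) = p := Ideal.mk_ker
  let φ := MvPolynomial.map (σ := Fin n) (algebraMap R D)
  have hφ : Surjective φ := MvPolynomial.map_surjective _ Ideal.Quotient.mk_surjective
  have hkerq : RingHom.ker φ ≤ q := by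
    rw [show RingHom.ker φ = p.map MvPolynomial.C from by rw [MvPolynomial.ker_map, hD]]
    exact Ideal.map_le_iff_le_comap.2 hqp.ge
  let qD := q.map φ
  haveI : qD.IsPrime := Ideal.map_isPrime_of_surjective hφ hkerq
  have hqD : qD.comap φ = q := by
    rw [Ideal.comap_map_of_surjective _ hφ, sup_eq_left]
    exact hkerq
  letI := MvPolynomial.algebraMvPolynomial (σ := Fin n) (R := D) (S := k)
  let M := (nonZeroDivisors D).map (MvPolynomial.C (σ := Fin n) : D →+* MvPolynomial (Fin n) D)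
  haveI : IsLocalization M (MvPolynomial (Fin n) k) := MvPolynomial.isLocalization _ _
  have hdisj : Disjoint (M : Set (MvPolynomial (Fin n) D)) (qD : Set (MvPolynomial (Fin n) D)) := by
    rw [Set.disjoint_left]
    rintro - ⟨d, hd, rfl⟩ hmem
    obtain ⟨c, rfl⟩ := Ideal.Quotient.mk_surjective d
    have : MvPolynomial.C c ∈ q := by
      rw [← hqD, Ideal.mem_comap, MvPolynomial.map_C]; exact hmem
    have hcp : c ∈ p := hqp ▸ this
    exact nonZeroDivisors.ne_zero hd (Ideal.Quotient.eq_zero_iff_mem.2 hcp)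
  let qk := qD.map (algebraMap (MvPolynomial (Fin n) D) (MvPolynomial (Fin n) k))
  have hqk : qk.IsPrime := IsLocalization.isPrime_of_isPrime_disjoint M _ qD inferInstance hdisj
  have hqkD : qk.comap (MvPolynomial.map (algebraMap D k)) = qD :=
    IsLocalization.under_map_of_isPrime_disjoint M _ ‹qD.IsPrime› hdisj
  have hcomap : qk.comap (MvPolynomial.map (algebraMap R k)) = q := by
    rw [IsScalarTower.algebraMap_eq R D k, mvMap_comp, ← Ideal.comap_comap, hqkD, hqD]
  refine ⟨qk, hqk, hcomap, fun v hv => ?_⟩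
  obtain ⟨⟨c, hc⟩, hcs⟩ := IsLocalization.exist_integer_multiples (nonZeroDivisors D)
    (Finset.univ.biUnion fun i : Fin a => (v i).support.image fun m => (v i).coeff m) id
  have hc' : ∀ i m, ∃ d : D, algebraMap D k d = c • (v i).coeff m := by
    intro i m
    by_cases hm : m ∈ (v i).support
    · exact hcs _ (Finset.mem_biUnion.2 ⟨i, Finset.mem_univ i, Finset.mem_image.2 ⟨m, hm, rfl⟩⟩)
    · exact ⟨0, by rw [MvPolynomial.notMem_support_iff.1 hm, smul_zero, map_zero]⟩
  choose d hd using hc'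
  let vD : Vec n a D := fun i => ∑ m ∈ (v i).support, MvPolynomial.monomial m (d i m)
  have hvD : mapVec (R₀ := D) k vD = c • v := by
    funext i
    simp only [vD, mapVec_apply, map_sum, MvPolynomial.map_monomial, hd, Pi.smul_apply]
    conv_rhs => rw [MvPolynomial.as_sum (v i), Finset.smul_sum]
    exact Finset.sum_congr rfl fun m _ => (MvPolynomial.smul_monomial ..).symm
  choose v₀ hv₀ using fun i => hφ (vD i)
  have hv₀D : mapVec (R₀ := R) D v₀ = vD := funext hv₀
  have hk : mapVec (R₀ := D) k (mapU U₀ D vD) ∈ ext (R₀ := D) k (ext (R₀ := R) D (ext R Z₀)) := by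
    rw [← mapU_mapVec, hvD, ext_ext, ext_ext]
    rw [← algebraMap_smul (MvPolynomial (Fin n) k) c v, map_smul]
    exact Submodule.smul_mem _ _ hv
  obtain ⟨e, he, w, hw, hew⟩ := exists_smul_eq_mapVec _ hk
  rw [← map_smul] at hew
  have hmem : e • mapU U₀ D vD ∈ ext (R₀ := R) D (ext R Z₀) := by
    rw [mapVec_injective (R₀ := D) k (IsFractionRing.injective D k) hew]; exact hw
  obtain ⟨e₀, rfl⟩ := Ideal.Quotient.mk_surjective e
  have hlift : ∀ y ∈ ext (R₀ := R) D (ext R Z₀), ∃ y₀ ∈ ext R Z₀, mapVec (R₀ := R) D y₀ = y := by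
    intro y hy
    induction hy using Submodule.span_induction with
    | mem y hy => obtain ⟨y₀, hy₀, rfl⟩ := hy; exact ⟨y₀, hy₀, rfl⟩
    | zero => exact ⟨0, zero_mem _, map_zero _⟩
    | add x y _ _ hx hy =>
      obtain ⟨x₀, hx₀, rfl⟩ := hx
      obtain ⟨y₀, hy₀, rfl⟩ := hy
      exact ⟨x₀ + y₀, add_mem hx₀ hy₀, map_add _ _ _⟩
    | smul b x _ hx =>
      obtain ⟨x₀, hx₀, rfl⟩ := hx
      obtain ⟨b₀, rfl⟩ := hφ b
      exact ⟨b₀ • x₀, Submodule.smul_mem _ _ hx₀, mapVec_smul _ _ _⟩
  obtain ⟨y₀, hy₀, hy⟩ := hlift _ hmem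
  have hdiff : mapVec (R₀ := R) D (mapU U₀ R (e₀ • v₀) - y₀) = 0 := by
    rw [map_sub, hy, ← mapU_mapVec, map_smul, hv₀D, sub_eq_zero, LinearMap.map_smul_of_tower]
    exact LinearMap.map_smul_of_tower (mapU U₀ D) (e₀ : R) vD ▸ rfl
  obtain ⟨s, hs, hsv⟩ := h (e₀ • v₀) (by
    rw [← add_sub_cancel y₀ (mapU U₀ R (e₀ • v₀))]
    exact Submodule.add_mem_sup hy₀ (mapVec_eq_zero R p hD hdiff))
  obtain ⟨z, hz, w', hw', hzw⟩ := Submodule.mem_sup.1 hsv
  have hker : RingHom.ker (algebraMap R k) = p := by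
    rw [IsScalarTower.algebraMap_eq R D k, ← RingHom.comap_ker,
      (RingHom.injective_iff_ker_eq_bot _).1 (IsFractionRing.injective D k), ← RingHom.ker_eq_comap_bot, hD]
  let ec : MvPolynomial (Fin n) k :=
    MvPolynomial.C (algebraMap R k e₀ * algebraMap D k c)
  refine ⟨MvPolynomial.map (algebraMap R k) s * ec, ?_, ?_⟩
  · refine hqk.mul_notMem (fun hm => hs (hcomap ▸ hm)) fun hm => hqk.ne_top ?_
    refine Ideal.eq_top_of_isUnit_mem _ hm ((IsUnit.mk0 _ (mul_ne_zero ?_ ?_)).map MvPolynomial.C)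
    · rw [IsScalarTower.algebraMap_apply R D k]
      exact fun h0 => he (IsFractionRing.injective D k (h0.trans (map_zero _).symm))
    · exact fun h0 => nonZeroDivisors.ne_zero hc (IsFractionRing.injective D k (h0.trans (map_zero _).symm))
  · have hev : mapVec (R₀ := R) k (e₀ • v₀) = ec • v := by
      rw [map_smul, ← mapVec_trans k D, hv₀D, hvD]
      funext i
      simp [ec, Algebra.smul_def, mul_assoc]
      rfl
    rw [mul_smul, ← hev, ← mapVec_smul, ← hzw, map_add, mapVec_smul_top R p hker hw', add_zero,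
      ← ext_ext k Z₀' R]
    exact mapVec_mem_ext (R₀ := R) k _ hz

/-- EGA IV 11.3.7 for a presented map. -/
theorem presented_crit [IsNoetherianRing R₀] (R : Type u) [CommRing R] [Algebra R₀ R]
    (p : Ideal R) [p.IsPrime] (q : Ideal (MvPolynomial (Fin n) R)) [q.IsPrime]
    (hqp : q.comap (algebraMap R (MvPolynomial (Fin n) R)) = p)
    (hU : Z₀' ≤ Z₀.comap (mapU U₀ R₀))
    (hflat : FlatCA.FlatAt R q (Quot R Z₀)) (h : FibEq U₀ Z₀ Z₀' R p q) :
    FlatCA.FlatAt R q (Quot R (cokerRel U₀ Z₀)) ∧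
      ∀ v : Vec n a R, mapU U₀ R v ∈ ext R Z₀ → ∃ s ∉ q, s • v ∈ ext R Z₀' := by
  classical
  obtain ⟨qk, hqk, hqkq, hfib⟩ := exists_fibInj_of_fibEq U₀ Z₀ Z₀' R p q hqp h
  obtain ⟨R₁, hR₁, hflat₁⟩ := exists_model_flat Z₀ R q hflat
  haveI : IsNoetherianRing R₁ := isNoetherianRing_of_fg hR₁
  let k := FractionRing (R ⧸ p)
  let ψ := MvPolynomial.map (σ := Fin n) (algebraMap R₁ R)
  let q₁ := q.comap ψ
  let p₁ := q₁.comap (algebraMap R₁ (MvPolynomial (Fin n) R₁))
  have hp₁ : RingHom.ker (algebraMap R₁ k) = p₁ := by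
    rw [IsScalarTower.algebraMap_eq R₁ R k, ← RingHom.comap_ker]
    have : RingHom.ker (algebraMap R k) = p := by
      rw [IsScalarTower.algebraMap_eq R (R ⧸ p) k, ← RingHom.comap_ker,
        (RingHom.injective_iff_ker_eq_bot _).1 (IsFractionRing.injective (R ⧸ p) k),
        ← RingHom.ker_eq_comap_bot]
      exact Ideal.mk_ker
    rw [this, ← hqp]
    ext x
    simp [p₁, q₁, ψ, MvPolynomial.algebraMap_eq]
  haveI := hqk
  have h₁ : FibEq U₀ Z₀ Z₀' R₁ p₁ q₁ := fibEq_of_fibInj U₀ Z₀ Z₀' R₁ p₁ k hp₁ qk q₁ (by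
    rw [IsScalarTower.algebraMap_eq R₁ R k, mvMap_comp, ← Ideal.comap_comap, hqkq]) hfib
  obtain ⟨hC, hinj⟩ := noetherian_crit U₀ Z₀ Z₀' R₁ p₁ q₁ rfl hU hflat₁ h₁
  refine ⟨flatAt_quot_of_tower _ R R₁ q hC, fun v hv => ?_⟩
  obtain ⟨t, ht, htv⟩ := exists_smul_mem_ext_comap U₀ Z₀ R R₁ q₁ hC v hv
  let K₁ := (ext R₁ Z₀).comap (mapU U₀ R₁)
  obtain ⟨G, hG⟩ := IsNoetherian.noetherian K₁
  have hgen : ∀ w ∈ G, ∃ s ∉ q₁, s • w ∈ ext R₁ Z₀' := fun w hw =>
    hinj w (show w ∈ K₁ from hG ▸ Submodule.subset_span hw)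
  choose! s hs hsw using hgen
  let S := ∏ w ∈ G, s w
  have hS : S ∉ q₁ := fun hm => by
    obtain ⟨w, hw, hsw'⟩ := (Ideal.IsPrime.prod_mem_iff (p := q₁)).1 hm
    exact hs w hw hsw'
  refine ⟨ψ S * ψ t, Ideal.IsPrime.mul_notMem inferInstance hS ht, ?_⟩
  rw [mul_smul]
  rw [show (ext R₁ Z₀).comap (mapU U₀ R₁) = Submodule.span _ (G : Set (Vec n a R₁)) from hG.symm,
    ext_span] at htv
  generalize ψ t • v = y at htv ⊢
  induction htv using Submodule.span_induction with
  | mem y hy =>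
    obtain ⟨w, hw, rfl⟩ := hy
    rw [← mapVec_smul, ← ext_ext R Z₀' R₁]
    refine mapVec_mem_ext (R₀ := R₁) R _ ?_
    obtain ⟨c, hc⟩ : s w ∣ S := Finset.dvd_prod_of_mem _ hw
    rw [hc, mul_comm, mul_smul]
    exact Submodule.smul_mem _ _ (hsw w hw)
  | zero => rw [smul_zero]; exact zero_mem _
  | add u v _ _ hu hv => rw [smul_add]; exact add_mem hu hv
  | smul c u _ hu => rw [smul_comm]; exact Submodule.smul_mem _ _ hu

/-- Openness for a presented map. -/
theorem presented_isOpen [IsNoetherianRing R₀] (R : Type u) [CommRing R] [Algebra R₀ R] :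
    IsOpen {q : PrimeSpectrum (MvPolynomial (Fin n) R) |
      FlatCA.FlatAt R q.asIdeal (Quot R (cokerRel U₀ Z₀)) ∧
        ∀ v : Vec n a R, mapU U₀ R v ∈ ext R Z₀ → ∃ s ∉ q.asIdeal, s • v ∈ ext R Z₀'} := by
  classical
  refine isOpen_iff_forall_mem_open.2 fun q hq => ?_
  obtain ⟨R₁, hR₁, hC⟩ := exists_model_flat (cokerRel U₀ Z₀) R q.asIdeal hq.1
  haveI : IsNoetherianRing R₁ := isNoetherianRing_of_fg hR₁
  let ψ := MvPolynomial.map (σ := Fin n) (algebraMap R₁ R)
  let K₁ := (ext R₁ Z₀).comap (mapU U₀ R₁)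
  obtain ⟨G, hG⟩ := IsNoetherian.noetherian K₁
  have hgen : ∀ w ∈ G, ∃ s ∉ q.asIdeal, s • mapVec (R₀ := R₁) R w ∈ ext R Z₀' := by
    intro w hw
    refine hq.2 _ ?_
    rw [mapU_mapVec, ← ext_ext R Z₀ R₁]
    exact mapVec_mem_ext (R₀ := R₁) R _ (show w ∈ K₁ from hG ▸ Submodule.subset_span hw)
  choose! s hs hsw using hgen
  let S := ∏ w ∈ G, s w
  have hS : S ∉ q.asIdeal := fun hm => by
    obtain ⟨w, hw, hsw'⟩ := (Ideal.IsPrime.prod_mem_iff (p := q.asIdeal)).1 hm
    exact hs w hw hsw'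
  refine ⟨PrimeSpectrum.comap ψ ⁻¹' flatSet (cokerRel U₀ Z₀) R₁ ∩
    (PrimeSpectrum.basicOpen S : Set _), fun Q hQ => ?_,
    ((isOpen_flatSet_noetherian _ R₁).preimage (PrimeSpectrum.continuous_comap _)).inter
      PrimeSpectrum.isOpen_basicOpen, ⟨hC, hS⟩⟩
  obtain ⟨hQC, hQS⟩ := hQ
  refine ⟨flatAt_quot_of_tower _ R R₁ Q.asIdeal hQC, fun v hv => ?_⟩
  obtain ⟨t, ht, htv⟩ := exists_smul_mem_ext_comap U₀ Z₀ R R₁ (Q.asIdeal.comap ψ) hQC v hv
  refine ⟨S * ψ t, Ideal.IsPrime.mul_notMem Q.isPrime hQS ht, ?_⟩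
  rw [mul_smul]
  rw [show (ext R₁ Z₀).comap (mapU U₀ R₁) = Submodule.span _ (G : Set (Vec n a R₁)) from hG.symm,
    ext_span] at htv
  generalize ψ t • v = y at htv ⊢
  induction htv using Submodule.span_induction with
  | mem y hy =>
    obtain ⟨w, hw, rfl⟩ := hy
    obtain ⟨c, hc⟩ : s w ∣ S := Finset.dvd_prod_of_mem _ hw
    rw [hc, mul_comm, mul_smul]
    exact Submodule.smul_mem _ _ (hsw w hw)
  | zero => rw [smul_zero]; exact zero_mem _
  | add u v _ _ hu hv => rw [smul_add]; exact add_mem hu hv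
  | smul c u _ hu => rw [smul_comm]; exact Submodule.smul_mem _ _ hu

section Abstract

variable (R S : Type u) [CommRing R] [CommRing S] [Algebra R S]
  {M M' : Type u} [AddCommGroup M] [Module S M] [Module R M] [IsScalarTower R S M]
  [AddCommGroup M'] [Module S M'] [Module R M'] [IsScalarTower R S M']

/-- A map of fp modules over an fp algebra has a Noetherian model. -/
theorem exists_map_model [Algebra.FinitePresentation R S] [Module.FinitePresentation S M]
    [Module.FinitePresentation S M'] (u : M' →ₗ[S] M) :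
    ∃ (n r a : ℕ) (R₀ : Subalgebra ℤ R) (U₀ : Fin a → Vec n r R₀)
      (Z₀ : Submodule (MvPolynomial (Fin n) R₀) (Vec n r R₀))
      (Z₀' : Submodule (MvPolynomial (Fin n) R₀) (Vec n a R₀))
      (π : MvPolynomial (Fin n) R →ₐ[R] S) (E : Quot R Z₀ ≃ₗ[R] M) (E' : Quot R Z₀' ≃ₗ[R] M'),
      R₀.FG ∧ Surjective π ∧ (∀ c x, E (c • x) = π c • E x) ∧ (∀ c x, E' (c • x) = π c • E' x) ∧
        Z₀' ≤ Z₀.comap (mapU U₀ R₀) ∧
        ∀ v, u (E' (Submodule.Quotient.mk v)) = E (Submodule.Quotient.mk (mapU U₀ R v)) := by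
  classical
  obtain ⟨n, π, hπ, hker⟩ := (inferInstance : Algebra.FinitePresentation R S).out
  let P := MvPolynomial (Fin n) R
  letI : Algebra P S := π.toRingHom.toAlgebra
  haveI : IsScalarTower R P S := IsScalarTower.of_algebraMap_eq fun a => (π.commutes a).symm
  haveI : Module.FinitePresentation P S :=
    Module.finitePresentation_of_surjective (Algebra.linearMap P S) hπ (by
      rw [show LinearMap.ker (Algebra.linearMap P S) = RingHom.ker π.toRingHom from by ext x; rfl]
      exact hker)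
  letI : Module P M := Module.compHom M π.toRingHom
  haveI : IsScalarTower P S M := IsScalarTower.of_algebraMap_smul fun _ _ => rfl
  haveI : IsScalarTower R P M := IsScalarTower.of_algebraMap_smul fun a m => by
    show π (algebraMap R P a) • m = a • m
    rw [π.commutes, algebraMap_smul]
  haveI : Module.FinitePresentation P M := Module.FinitePresentation.trans P M S
  letI : Module P M' := Module.compHom M' π.toRingHom
  haveI : IsScalarTower P S M' := IsScalarTower.of_algebraMap_smul fun _ _ => rfl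
  haveI : IsScalarTower R P M' := IsScalarTower.of_algebraMap_smul fun a m => by
    show π (algebraMap R P a) • m = a • m
    rw [π.commutes, algebraMap_smul]
  haveI : Module.FinitePresentation P M' := Module.FinitePresentation.trans P M' S
  obtain ⟨r, L, e, G, hG⟩ := Module.FinitePresentation.exists_fin P M
  obtain ⟨a, L', e', G', hG'⟩ := Module.FinitePresentation.exists_fin P M'
  choose w hw using fun i : Fin a =>
    L.mkQ_surjective (e (u (e'.symm (Submodule.Quotient.mk (Pi.single i (1 : P))))))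
  let c : Finset R := (G.biUnion fun v => Finset.univ.biUnion fun i => (v i).coeffs) ∪
    (G'.biUnion fun v => Finset.univ.biUnion fun i => (v i).coeffs) ∪
    (Finset.univ.biUnion fun j : Fin a => Finset.univ.biUnion fun i => (w j i).coeffs)
  let R₀ := Algebra.adjoin ℤ (c : Set R)
  have hlift : ∀ {m : ℕ} (v : Vec n m R), (∀ i, ∀ x ∈ (v i).coeffs, x ∈ c) →
      ∃ v₀ : Vec n m R₀, mapVec R v₀ = v := by
    intro m v hv
    have : ∀ i, ∃ y : MvPolynomial (Fin n) R₀, MvPolynomial.map (algebraMap R₀ R) y = v i :=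
      fun i => MvPolynomial.mem_range_map_iff_coeffs_subset.2 fun x hx =>
        ⟨⟨x, Algebra.subset_adjoin (hv i x hx)⟩, rfl⟩
    choose y hy using this
    exact ⟨y, funext hy⟩
  choose! v₀ hv₀ using fun v (hv : v ∈ G) => hlift v fun i x hx => Finset.mem_union_left _
    (Finset.mem_union_left _ (Finset.mem_biUnion.2 ⟨v, hv, Finset.mem_biUnion.2 ⟨i, Finset.mem_univ i, hx⟩⟩))
  choose! v₀' hv₀' using fun v (hv : v ∈ G') => hlift v fun i x hx => Finset.mem_union_left _
    (Finset.mem_union_right _ (Finset.mem_biUnion.2 ⟨v, hv, Finset.mem_biUnion.2 ⟨i, Finset.mem_univ i, hx⟩⟩))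
  choose U₀ hU₀ using fun j => hlift (w j) fun i x hx => Finset.mem_union_right _
    (Finset.mem_biUnion.2 ⟨j, Finset.mem_univ j, Finset.mem_biUnion.2 ⟨i, Finset.mem_univ i, hx⟩⟩)
  let Z₀' : Submodule (MvPolynomial (Fin n) R₀) (Vec n a R₀) :=
    Submodule.span _ (v₀' '' (G' : Set (Vec n a R)))
  let Z₀ : Submodule (MvPolynomial (Fin n) R₀) (Vec n r R₀) :=
    Submodule.span _ (v₀ '' (G : Set (Vec n r R)) ∪
      mapU U₀ R₀ '' (v₀' '' (G' : Set (Vec n a R))))
  have hZ' : ext R Z₀' = L' := by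
    rw [ext_span, Set.image_image, ← hG']
    exact congrArg _ ((Set.image_congr hv₀').trans (Set.image_id' _))
  have hu : ∀ v : Vec n a R,
      e (u (e'.symm (Submodule.Quotient.mk v))) = Submodule.Quotient.mk (mapU U₀ R v) := by
    have : (e.toLinearMap ∘ₗ u.restrictScalars P ∘ₗ e'.symm.toLinearMap) ∘ₗ L'.mkQ =
        L.mkQ ∘ₗ mapU U₀ R := by
      refine LinearMap.pi_ext' fun i => LinearMap.ext_ring ?_
      simp only [LinearMap.comp_apply, LinearMap.single_apply, Submodule.mkQ_apply,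
        LinearEquiv.coe_coe, LinearMap.coe_restrictScalars, ← hw i]
      congr 1
      rw [mapU_apply, Finset.sum_eq_single i (fun j _ hj => by rw [Pi.single_eq_of_ne hj, zero_smul])
        (fun h => absurd (Finset.mem_univ i) h), Pi.single_eq_same, one_smul, hU₀]
    exact fun v => LinearMap.congr_fun this v
  have hZ : ext R Z₀ = L := by
    rw [ext_span, Set.image_union, Submodule.span_union, Set.image_image, Set.image_image]
    have h1 : Submodule.span (MvPolynomial (Fin n) R)
        ((fun v => mapVec R (v₀ v)) '' (G : Set (Vec n r R))) = L := by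
      rw [← hG]
      exact congrArg _ ((Set.image_congr hv₀).trans (Set.image_id' _))
    rw [h1, sup_eq_left, Submodule.span_le, Set.image_image]
    rintro - ⟨v, hv, rfl⟩
    show mapVec R (mapU U₀ R₀ (v₀' v)) ∈ L
    rw [← Submodule.Quotient.mk_eq_zero, ← mapU_mapVec, ← hu, hv₀' v hv,
      (Submodule.Quotient.mk_eq_zero _).2 (hG' ▸ Submodule.subset_span hv), map_zero, map_zero, map_zero]
  let E : Quot R Z₀ ≃ₗ[P] M := (Submodule.quotEquivOfEq _ _ hZ).trans e.symm
  let E' : Quot R Z₀' ≃ₗ[P] M' := (Submodule.quotEquivOfEq _ _ hZ').trans e'.symm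
  refine ⟨n, r, a, R₀, U₀, Z₀, Z₀', π, E.restrictScalars R, E'.restrictScalars R, ⟨c, rfl⟩, hπ,
    fun c x => E.map_smul c x, fun c x => E'.map_smul c x, ?_, fun v => ?_⟩
  · refine Submodule.span_le.2 ?_
    rintro - ⟨v, hv, rfl⟩
    exact Submodule.subset_span (Or.inr ⟨_, ⟨v, hv, rfl⟩, rfl⟩)
  · show u (e'.symm (Submodule.Quotient.mk v)) = e.symm (Submodule.Quotient.mk (mapU U₀ R v))
    rw [← hu, LinearEquiv.symm_apply_apply]

/-- Flatness at a prime along a surjection of algebras. -/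
theorem flatAt_comap_iff {P : Type u} [CommRing P] [Algebra R P] (π : P →ₐ[R] S) (hπ : Surjective π)
    {N : Type u} [AddCommGroup N] [Module P N] [Module R N] [IsScalarTower R P N]
    (E : N ≃ₗ[R] M) (hE : ∀ c x, E (c • x) = π c • E x) (Q : Ideal S) [Q.IsPrime] :
    FlatCA.FlatAt R (Q.comap π.toRingHom) N ↔ FlatCA.FlatAt R Q M := by
  letI : Algebra P S := π.toRingHom.toAlgebra
  haveI : IsScalarTower R P S := IsScalarTower.of_algebraMap_eq fun a => (π.commutes a).symm
  letI : Module P M := Module.compHom M π.toRingHom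
  haveI : IsScalarTower P S M := IsScalarTower.of_algebraMap_smul fun _ _ => rfl
  haveI : IsScalarTower R P M := IsScalarTower.of_algebraMap_smul fun a m => by
    show π (algebraMap R P a) • m = a • m
    rw [π.commutes, algebraMap_smul]
  let E₁ : N ≃ₗ[P] M := { E with map_smul' := hE }
  let T := (Q.comap π.toRingHom).primeCompl
  have hT : Q.primeCompl = Algebra.algebraMapSubmonoid S T := by
    ext x
    constructor
    · intro hx
      obtain ⟨y, rfl⟩ := hπ x
      exact ⟨y, hx, rfl⟩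
    · rintro ⟨y, hy, rfl⟩
      exact hy
  haveI := isLocalizedModule_restrict T Q.primeCompl hT (LocalizedModule.mkLinearMap Q.primeCompl M)
  let g : N →ₗ[P] LocalizedModule Q.primeCompl M :=
    (LocalizedModule.mkLinearMap Q.primeCompl M).restrictScalars P ∘ₗ E₁.toLinearMap
  haveI : IsLocalizedModule T g := IsLocalizedModule.of_linearEquiv_right T _ E₁
  let I := (IsLocalizedModule.iso T g).restrictScalars R
  constructor
  · intro h
    haveI : Module.Flat R (LocalizedModule T N) := h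
    exact Module.Flat.of_linearEquiv I.symm
  · intro h
    haveI : Module.Flat R (LocalizedModule Q.primeCompl M) := h
    exact Module.Flat.of_linearEquiv I

/-- `p M` is stable under multiplication by `S`, as a subset. -/
lemma mem_map_smul_top {P : Type u} [CommRing P] [Algebra R P] (π : P →ₐ[R] S)
    {N : Type u} [AddCommGroup N] [Module P N] [Module R N] [IsScalarTower R P N]
    (E : N ≃ₗ[R] M) (p : Ideal R) (x : N) :
    x ∈ (p.map (algebraMap R P)) • (⊤ : Submodule P N) ↔
      E x ∈ (p.map (algebraMap R S)) • (⊤ : Submodule S M) := by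
  rw [← Submodule.restrictScalars_mem R, ← Submodule.restrictScalars_mem R (p.map (algebraMap R S) • _),
    Ideal.smul_restrictScalars, Ideal.smul_restrictScalars, Submodule.restrictScalars_top,
    Submodule.restrictScalars_top]
  constructor
  · intro h
    refine Submodule.smul_induction_on h (fun c hc y _ => ?_) fun y y' hy hy' => by
      rw [map_add]; exact add_mem hy hy'
    rw [map_smul]; exact Submodule.smul_mem_smul hc Submodule.mem_top
  · intro h
    have : ∀ y, y ∈ p • (⊤ : Submodule R M) → E.symm y ∈ p • (⊤ : Submodule R N) := by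
      intro y hy
      refine Submodule.smul_induction_on hy (fun c hc y _ => ?_) fun y y' hy hy' => by
        rw [map_add]; exact add_mem hy hy'
      rw [map_smul]; exact Submodule.smul_mem_smul hc Submodule.mem_top
    simpa using this _ h

/-- The cokernel of a model. -/
theorem exists_coker_equiv (π : MvPolynomial (Fin n) R →ₐ[R] S) (hπ : Surjective π) [Algebra R₀ R]
    (E : Quot R Z₀ ≃ₗ[R] M) (E' : Quot R Z₀' ≃ₗ[R] M') (hE : ∀ c x, E (c • x) = π c • E x)
    (u : M' →ₗ[S] M)
    (hu : ∀ v, u (E' (Submodule.Quotient.mk v)) = E (Submodule.Quotient.mk (mapU U₀ R v))) :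
    ∃ Ec : Quot R (cokerRel U₀ Z₀) ≃ₗ[R] M ⧸ LinearMap.range u,
      ∀ c x, Ec (c • x) = π c • Ec x := by
  let P := MvPolynomial (Fin n) R
  letI : Module P (M ⧸ LinearMap.range u) := Module.compHom _ π.toRingHom
  haveI : IsScalarTower R P (M ⧸ LinearMap.range u) := IsScalarTower.of_algebraMap_smul fun a m => by
    show π (algebraMap R P a) • m = a • m
    rw [π.commutes, algebraMap_smul]
  let f : Vec n r R →ₗ[P] M ⧸ LinearMap.range u :=
    { toFun := fun v => (LinearMap.range u).mkQ (E (Submodule.Quotient.mk v))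
      map_add' := fun v w => by rw [Submodule.Quotient.mk_add, map_add, map_add]
      map_smul' := fun c v => by rw [Submodule.Quotient.mk_smul, hE, map_smul]; rfl }
  have hf : Surjective f :=
    (Submodule.mkQ_surjective _).comp (E.surjective.comp (Submodule.mkQ_surjective _))
  have hker : ext R (cokerRel U₀ Z₀) = LinearMap.ker f := by
    ext v
    rw [LinearMap.mem_ker, show f v = Submodule.Quotient.mk (E (Submodule.Quotient.mk v)) from rfl,
      Submodule.Quotient.mk_eq_zero, LinearMap.mem_range, ext_cokerRel, Submodule.mem_sup]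
    constructor
    · rintro ⟨z, hz, -, ⟨w, rfl⟩, rfl⟩
      refine ⟨E' (Submodule.Quotient.mk w), ?_⟩
      rw [hu, Submodule.Quotient.mk_add, (Submodule.Quotient.mk_eq_zero _).2 hz, zero_add]
    · rintro ⟨m, hm⟩
      obtain ⟨x, rfl⟩ := E'.surjective m
      obtain ⟨w, rfl⟩ := Submodule.mkQ_surjective _ x
      rw [Submodule.mkQ_apply, hu, E.injective.eq_iff, Submodule.Quotient.eq] at hm
      refine ⟨v - mapU U₀ R w, ?_, _, ⟨w, rfl⟩, sub_add_cancel _ _⟩
      rw [← neg_sub]
      exact neg_mem hm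
  let Ec := (Submodule.quotEquivOfEq _ _ hker).trans (f.quotKerEquivOfSurjective hf)
  exact ⟨Ec.restrictScalars R, fun c x => Ec.map_smul c x⟩

/-- EGA IV 11.3.7, a) ⟹ b). -/
theorem fibEq_of_injective_coker_flat (u : M' →ₗ[S] M) (Q : Ideal S) [Q.IsPrime]
    (hC : FlatCA.FlatAt R Q (M ⧸ LinearMap.range u))
    (hinj : ∀ m : M', u m = 0 → ∃ s ∉ Q, s • m = 0) (I : Ideal R)
    (m : M') (hm : u m ∈ I.map (algebraMap R S) • (⊤ : Submodule S M)) :
    ∃ s ∉ Q, s • m ∈ I.map (algebraMap R S) • (⊤ : Submodule S M') := by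
  haveI : Module.Flat R (LocalizedModule Q.primeCompl (M ⧸ LinearMap.range u)) := hC
  let W := LinearMap.range u
  let x : W ⊗[R] (R ⧸ I) := (⟨u m, LinearMap.mem_range_self u m⟩ : W) ⊗ₜ[R] Ideal.Quotient.mk I 1
  have hx : (W.subtype.restrictScalars R).rTensor (R ⧸ I) x = 0 := by
    rw [LinearMap.rTensor_tmul]
    show u m ⊗ₜ[R] Ideal.Quotient.mk I 1 = 0
    rw [← Submodule.restrictScalars_mem R, Ideal.smul_restrictScalars,
      Submodule.restrictScalars_top] at hm
    refine Submodule.smul_induction_on (p := fun y => y ⊗ₜ[R] Ideal.Quotient.mk I 1 = 0) hm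
      (fun c hc y _ => ?_) (fun y y' hy hy' => by rw [add_tmul, hy, hy', add_zero])
    rw [TensorProduct.smul_tmul,
      show c • Ideal.Quotient.mk I 1 = Ideal.Quotient.mk I (c * 1) from rfl,
      Ideal.Quotient.eq_zero_iff_mem.2 (by rwa [mul_one]), tmul_zero]
  obtain ⟨t, ht, htx⟩ := exists_smul_eq_zero_of_flat_coker Q.primeCompl W.subtype W.injective_subtype
    W.mkQ W.mkQ_surjective (LinearMap.exact_subtype_mkQ W) (R ⧸ I) x hx
  have h1 := congrArg (TensorProduct.tensorQuotEquivQuotSMul W I) htx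
  rw [smul_tmul', TensorProduct.tensorQuotEquivQuotSMul_tmul_mk, map_zero, one_smul,
    Submodule.Quotient.mk_eq_zero] at h1
  obtain ⟨y, hy, hyt⟩ : ∃ y ∈ I • (⊤ : Submodule R M'), u y = t • u m := by
    let u₁ : M' →ₗ[R] W := (u.rangeRestrict).restrictScalars R
    have hsurj : Surjective u₁ := u.surjective_rangeRestrict
    rw [show (⊤ : Submodule R W) = (⊤ : Submodule R M').map u₁ from by
      rw [Submodule.map_top, LinearMap.range_eq_top.2 hsurj], ← Submodule.map_smul''] at h1
    obtain ⟨y, hy, hyu⟩ := h1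
    exact ⟨y, hy, congrArg Subtype.val hyu⟩
  obtain ⟨s, hs, hst⟩ := hinj (t • m - y) (by rw [map_sub, map_smul, hyt, sub_self])
  refine ⟨s * t, Ideal.IsPrime.mul_notMem inferInstance hs ht, ?_⟩
  rw [smul_sub, sub_eq_zero] at hst
  rw [mul_smul, hst]
  refine Submodule.smul_mem _ s ?_
  rw [← Submodule.restrictScalars_mem R, Ideal.smul_restrictScalars, Submodule.restrictScalars_top]
  exact hy

variable [Algebra.FinitePresentation R S] [Module.FinitePresentation S M]
  [Module.FinitePresentation S M'] (u : M' →ₗ[S] M)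

/-- EGA IV 11.3.7, b) ⟹ a). -/
theorem injective_coker_flat_of_fibEq (Q : Ideal S) [Q.IsPrime] (hflat : FlatCA.FlatAt R Q M)
    (h : ∀ m : M', u m ∈ (Q.comap (algebraMap R S)).map (algebraMap R S) • (⊤ : Submodule S M) →
      ∃ s ∉ Q, s • m ∈ (Q.comap (algebraMap R S)).map (algebraMap R S) • (⊤ : Submodule S M')) :
    FlatCA.FlatAt R Q (M ⧸ LinearMap.range u) ∧ ∀ m : M', u m = 0 → ∃ s ∉ Q, s • m = 0 := by
  obtain ⟨n, r, a, R₀, U₀, Z₀, Z₀', π, E, E', hR₀, hπ, hE, hE', hU, hu⟩ := exists_map_model R S u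
  haveI : IsNoetherianRing R₀ := isNoetherianRing_of_fg hR₀
  let P := MvPolynomial (Fin n) R
  let p := Q.comap (algebraMap R S)
  let q := Q.comap π.toRingHom
  have hqp : q.comap (algebraMap R P) = p := by
    ext x
    show π (algebraMap R P x) ∈ Q ↔ _
    rw [π.commutes]; rfl
  have hsup : ∀ {m : ℕ} (L : Submodule P (Vec n m R)) (x : Vec n m R),
      (Submodule.Quotient.mk x : Vec n m R ⧸ L) ∈ p.map (algebraMap R P) • (⊤ : Submodule P (Vec n m R ⧸ L)) ↔
        x ∈ L ⊔ (p.map MvPolynomial.C : Ideal P) • ⊤ := by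
    intro m L x
    rw [MvPolynomial.algebraMap_eq, ← L.mkQ_apply, ← Submodule.mem_comap,
      show (⊤ : Submodule P (Vec n m R ⧸ L)) = (⊤ : Submodule P (Vec n m R)).map L.mkQ from by
        rw [Submodule.map_top, Submodule.range_mkQ],
      ← Submodule.map_smul'', Submodule.comap_map_eq, Submodule.ker_mkQ, sup_comm]
  have hfib : FibEq U₀ Z₀ Z₀' R p q := by
    intro v hv
    rw [← hsup, mem_map_smul_top R S π E, ← hu] at hv
    obtain ⟨s, hs, hsm⟩ := h _ hv
    obtain ⟨s, rfl⟩ := hπ s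
    refine ⟨s, hs, ?_⟩
    rw [← hsup, mem_map_smul_top R S π E', Submodule.Quotient.mk_smul, hE']
    exact hsm
  obtain ⟨hC, hinj⟩ := presented_crit U₀ Z₀ Z₀' R p q hqp hU
    ((flatAt_comap_iff R S π hπ E hE Q).2 hflat) hfib
  obtain ⟨Ec, hEc⟩ := exists_coker_equiv U₀ Z₀ Z₀' R S π hπ E E' hE u hu
  refine ⟨(flatAt_comap_iff R S π hπ Ec hEc Q).1 hC, fun m hm => ?_⟩
  obtain ⟨x, rfl⟩ := E'.surjective m
  obtain ⟨v, rfl⟩ := Submodule.mkQ_surjective _ x
  rw [Submodule.mkQ_apply, hu, LinearEquiv.map_eq_zero_iff, Submodule.Quotient.mk_eq_zero] at hm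
  obtain ⟨s, hs, hsv⟩ := hinj v hm
  exact ⟨π s, hs, by rw [← hE', Submodule.mkQ_apply, ← Submodule.Quotient.mk_smul,
    (Submodule.Quotient.mk_eq_zero _).2 hsv, map_zero]⟩

/-- Openness of the set where `u` is injective with flat cokernel. -/
theorem isOpen_injective_coker_flat :
    IsOpen {Q : PrimeSpectrum S | FlatCA.FlatAt R Q.asIdeal (M ⧸ LinearMap.range u) ∧
      ∀ m : M', u m = 0 → ∃ s ∉ Q.asIdeal, s • m = 0} := by
  obtain ⟨n, r, a, R₀, U₀, Z₀, Z₀', π, E, E', hR₀, hπ, hE, hE', hU, hu⟩ := exists_map_model R S u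
  haveI : IsNoetherianRing R₀ := isNoetherianRing_of_fg hR₀
  obtain ⟨Ec, hEc⟩ := exists_coker_equiv U₀ Z₀ Z₀' R S π hπ E E' hE u hu
  convert (presented_isOpen U₀ Z₀ Z₀' R).preimage (PrimeSpectrum.continuous_comap π.toRingHom) using 1
  ext Q
  refine and_congr (flatAt_comap_iff R S π hπ Ec hEc Q.asIdeal).symm ⟨fun h v hv => ?_, fun h m hm => ?_⟩
  · obtain ⟨s, hs, hsm⟩ := h (E' (Submodule.Quotient.mk v)) (by
      rw [hu, (Submodule.Quotient.mk_eq_zero _).2 hv, map_zero])
    obtain ⟨s, rfl⟩ := hπ s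
    refine ⟨s, hs, ?_⟩
    rw [← Submodule.Quotient.mk_eq_zero, Submodule.Quotient.mk_smul]
    exact E'.injective (by rw [hE', hsm, map_zero])
  · obtain ⟨x, rfl⟩ := E'.surjective m
    obtain ⟨v, rfl⟩ := Submodule.mkQ_surjective _ x
    rw [Submodule.mkQ_apply, hu, LinearEquiv.map_eq_zero_iff, Submodule.Quotient.mk_eq_zero] at hm
    obtain ⟨s, hs, hsv⟩ := h v hm
    exact ⟨π s, hs, by rw [← hE', Submodule.mkQ_apply, ← Submodule.Quotient.mk_smul,
      (Submodule.Quotient.mk_eq_zero _).2 hsv, map_zero]⟩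

end Abstract

end Groth.Agent.FlatOpen
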