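import Groth.Agent.FlatOpen.Scheme
import Groth.Agent.FlatOpen.MapOpen
import Groth.Agent.QCoh.Exact
import Groth.Agent.PullStalk.Exact

/-!
# EGA IV 11.3.7 on affine charts

`appLin`, `exists_cokernel_sections_equiv`, `stalk_injective_iff`, `maximalIdeal_map_stalkMap`,
`mem_map_smul_top_iff` translate the stalk conditions into conditions on sections.
-/

set_option autoImplicit false
set_option linter.style.haveILetI false
set_option linter.unusedSectionVars false

universe u

open CategoryTheory Limits AlgebraicGeometry TopologicalSpace Opposite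
open Groth.Agent.AssSch.Stalk Groth.Agent.PullStalk.Sky Groth.Agent.PullStalk.Exact

namespace Groth.Agent.FlatOpen.Scheme

section Algebra

/-- Membership in `I N` for a localized module `N`. -/
theorem mem_map_smul_top_iff {S A : Type u} [CommRing S] [CommRing A] [Algebra S A] (T : Submonoid S)
    [IsLocalization T A] {M N : Type u} [AddCommGroup M] [Module S M] [AddCommGroup N] [Module S N]
    [Module A N] [IsScalarTower S A N] (g : M →ₗ[S] N) [IsLocalizedModule T g] (I : Ideal S) (m : M) :
    g m ∈ I.map (algebraMap S A) • (⊤ : Submodule A N) ↔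
      ∃ t ∈ T, t • m ∈ I • (⊤ : Submodule S M) := by
  constructor
  · intro h
    have hle : I.map (algebraMap S A) • (⊤ : Submodule A N) ≤
        (I • (⊤ : Submodule S M)).localized' A T g := by
      rw [Submodule.smul_le]
      intro c hc y _
      induction hc using Submodule.span_induction with
      | mem c hc =>
        obtain ⟨i, hi, rfl⟩ := hc
        obtain ⟨⟨m', t⟩, rfl⟩ := IsLocalizedModule.mk'_surjective T g y
        refine ⟨i • m', Submodule.smul_mem_smul hi Submodule.mem_top, t, ?_⟩
        rw [algebraMap_smul]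
        exact IsLocalizedModule.mk'_smul g i m' t
      | zero => rw [zero_smul]; exact zero_mem _
      | add a b _ _ ha hb => rw [add_smul]; exact add_mem ha hb
      | smul c a _ ha => rw [smul_eq_mul, mul_smul]; exact Submodule.smul_mem _ _ ha
    obtain ⟨y, hy, t, hty⟩ := hle h
    rw [← IsLocalizedModule.mk'_one T g, IsLocalizedModule.mk'_eq_mk'_iff] at hty
    obtain ⟨s, hs⟩ := hty
    refine ⟨(s * t : T), (s * t).2, ?_⟩
    rw [one_smul] at hs
    rw [Submonoid.coe_mul, mul_smul]
    simp only [Submonoid.smul_def] at hs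
    first
      | (rw [hs]; exact Submodule.smul_mem _ _ hy)
      | (rw [← hs]; exact Submodule.smul_mem _ _ hy)
  · rintro ⟨t, ht, htm⟩
    have h1 : g (t • m) ∈ I.map (algebraMap S A) • (⊤ : Submodule A N) := by
      refine Submodule.smul_induction_on htm (fun i hi y _ => ?_) fun a b ha hb => by
        rw [map_add]; exact add_mem ha hb
      rw [map_smul, ← algebraMap_smul A i]
      exact Submodule.smul_mem_smul (Ideal.mem_map_of_mem _ hi) Submodule.mem_top
    rw [map_smul, ← algebraMap_smul A t] at h1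
    exact (Submodule.smul_mem_iff_of_isUnit _ (IsLocalization.map_units A ⟨t, ht⟩)).1 h1

/-- Injectivity of a localized map. -/
theorem injective_localized_iff {S : Type u} [CommRing S] (T : Submonoid S)
    {M N M₁ N₁ : Type u} [AddCommGroup M] [Module S M] [AddCommGroup N] [Module S N]
    [AddCommGroup M₁] [Module S M₁] [AddCommGroup N₁] [Module S N₁]
    (g : M →ₗ[S] M₁) [IsLocalizedModule T g] (g' : N →ₗ[S] N₁) [IsLocalizedModule T g']
    (u : M →ₗ[S] N) (u₁ : M₁ →ₗ[S] N₁) (h : ∀ m, u₁ (g m) = g' (u m)) :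
    Function.Injective u₁ ↔ ∀ m, u m = 0 → ∃ t ∈ T, t • m = 0 := by
  constructor
  · intro hu m hm
    have : g m = 0 := hu (by rw [h, hm, map_zero, map_zero])
    obtain ⟨⟨t, ht⟩, htm⟩ := (IsLocalizedModule.eq_zero_iff T g).1 this
    exact ⟨t, ht, htm⟩
  · intro hu
    rw [injective_iff_map_eq_zero]
    intro y hy
    obtain ⟨⟨m, t⟩, hty⟩ := IsLocalizedModule.surj T g y
    have h0 : g' (u m) = 0 := by
      rw [← h, ← hty, LinearMap.map_smul_of_tower, hy, smul_zero]
    obtain ⟨⟨s, hs⟩, hsm⟩ := (IsLocalizedModule.eq_zero_iff T g').1 h0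
    obtain ⟨t', ht', htm⟩ := hu (s • m) (by rw [map_smul]; exact hsm)
    have : g m = 0 := (IsLocalizedModule.eq_zero_iff T g).2 ⟨⟨t', ht'⟩ * ⟨s, hs⟩, by
      rw [mul_smul]; exact htm⟩
    exact (IsLocalizedModule.smul_injective g t) (show t • y = t • 0 by rw [hty, this, smul_zero])

end Algebra

variable {X Y : Scheme.{u}} (f : X ⟶ Y) {F F' : X.Modules} [F.IsQuasicoherent] [F'.IsQuasicoherent]
  (u : F' ⟶ F) {V : Y.Opens} (hV : IsAffineOpen V) {U : X.Opens} (hU : IsAffineOpen U)
  (e : U ≤ f ⁻¹ᵁ V) (x : X) (hx : x ∈ U)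

/-- `u` on sections. -/
noncomputable def appLin (U : X.Opens) : Γ(F', U) →ₗ[Γ(X, U)] Γ(F, U) where
  toFun := u.app U
  map_add' := map_add _
  map_smul' r m := Scheme.Modules.Hom.app_smul u r m

include hU in
/-- Sections of the cokernel on an affine open. -/
theorem exists_cokernel_sections_equiv :
    ∃ _ : (Γ(F, U) ⧸ LinearMap.range (appLin u U)) ≃ₗ[Γ(X, U)] Γ(cokernel u, U), True := by
  let π := appLin (cokernel.π u) U
  have hπ : Function.Surjective π := QCoh.app_surjective_of_epi (cokernel.π u) hU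
  have hker : LinearMap.range (appLin u U) = LinearMap.ker π := by
    refine le_antisymm ?_ fun s hs => ?_
    · rintro - ⟨m, rfl⟩
      show (cokernel.π u).app U (u.app U m) = 0
      rw [← ConcreteCategory.comp_apply, ← Scheme.Modules.Hom.comp_app, cokernel.condition]
      rfl
    · let S := ShortComplex.mk (Abelian.image.ι u) (cokernel.π u) (kernel.condition _)
      have hS : S.Exact := ShortComplex.exact_of_f_is_kernel _ (kernelIsKernel _)
      obtain ⟨y, hy⟩ := QCoh.exists_app_eq_of_app_eq_zero S hS U s hs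
      obtain ⟨m, rfl⟩ := QCoh.app_surjective_of_epi (Abelian.factorThruImage u) hU y
      refine ⟨m, ?_⟩
      show u.app U m = s
      rw [← hy, ← ConcreteCategory.comp_apply, ← Scheme.Modules.Hom.comp_app]
      congr 3
      exact (Abelian.image.fac u).symm
  exact ⟨(Submodule.quotEquivOfEq _ _ hker).trans (π.quotKerEquivOfSurjective hπ), trivial⟩

include hV in
/-- Flatness of the cokernel at `x` on a chart. -/
theorem isFlatOverAt_cokernel_iff :
    letI := (f.appLE V U e).hom.toAlgebra
    letI : Module Γ(Y, V) Γ(F, U) := Module.compHom _ (f.appLE V U e).hom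
    haveI : IsScalarTower Γ(Y, V) Γ(X, U) Γ(F, U) := IsScalarTower.of_algebraMap_smul fun _ _ => rfl
    FlatMod.IsFlatOverAt f (cokernel u) x ↔
      FlatCA.FlatAt Γ(Y, V) (primeOf hU x hx) (Γ(F, U) ⧸ LinearMap.range (appLin u U)) := by
  letI := (f.appLE V U e).hom.toAlgebra
  letI : Module Γ(Y, V) Γ(F, U) := Module.compHom _ (f.appLE V U e).hom
  haveI : IsScalarTower Γ(Y, V) Γ(X, U) Γ(F, U) := IsScalarTower.of_algebraMap_smul fun _ _ => rfl
  letI : Module Γ(Y, V) Γ(cokernel u, U) := Module.compHom _ (f.appLE V U e).hom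
  haveI : IsScalarTower Γ(Y, V) Γ(X, U) Γ(cokernel u, U) :=
    IsScalarTower.of_algebraMap_smul fun _ _ => rfl
  rw [isFlatOverAt_iff f hV hU e x hx (cokernel u)]
  obtain ⟨E, -⟩ := exists_cokernel_sections_equiv u hU
  exact (flatAt_comap_iff Γ(Y, V) Γ(X, U) (AlgHom.id _ _) Function.surjective_id
    (E.restrictScalars Γ(Y, V)) (fun c m => E.map_smul c m) _).symm

include hU in
/-- Injectivity of `u_x` on a chart. -/
theorem stalk_injective_iff :
    Function.Injective ((TopCat.Presheaf.stalkFunctor Ab x).map (Scheme.Modules.Hom.mapPresheaf u)) ↔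
      ∀ m : Γ(F', U), appLin u U m = 0 → ∃ s ∉ primeOf hU x hx, s • m = 0 := by
  letI : Algebra Γ(X, U) (X.presheaf.stalk x) := (X.presheaf.germ U x hx).hom.toAlgebra
  letI : Module Γ(X, U) (F.presheaf.stalk x) := Module.compHom _ (X.presheaf.germ U x hx).hom
  letI : Module Γ(X, U) (F'.presheaf.stalk x) := Module.compHom _ (X.presheaf.germ U x hx).hom
  haveI : IsScalarTower Γ(X, U) (X.presheaf.stalk x) (F.presheaf.stalk x) :=
    IsScalarTower.of_algebraMap_smul fun _ _ => rfl
  haveI : IsScalarTower Γ(X, U) (X.presheaf.stalk x) (F'.presheaf.stalk x) :=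
    IsScalarTower.of_algebraMap_smul fun _ _ => rfl
  haveI := isLocalizedModule_germLinear F hU x hx
  haveI := isLocalizedModule_germLinear F' hU x hx
  exact injective_localized_iff (primeOf hU x hx).primeCompl (germLinear F' x hx) (germLinear F x hx)
    (appLin u U) ((stalkLin u x).restrictScalars Γ(X, U)) fun m => stalkLin_germ u U x hx m

include hV in
/-- The prime of `f x` on a chart. -/
theorem primeOf_comap :
    (primeOf hU x hx).comap (f.appLE V U e).hom = primeOf hV (f x) (e hx) := by
  ext a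
  rw [Ideal.mem_comap, ← not_iff_not, ← isUnit_germ_iff hU x hx, ← isUnit_germ_iff hV (f x) (e hx),
    ← stalkMap_germ f e x hx a]
  exact isUnit_map_iff (f.stalkMap x).hom _

include hV in
/-- `m_y O_x` on a chart. -/
theorem maximalIdeal_map_stalkMap :
    Ideal.map (f.stalkMap x).hom (IsLocalRing.maximalIdeal (Y.presheaf.stalk (f x))) =
      (((primeOf hU x hx).comap (f.appLE V U e).hom).map (f.appLE V U e).hom).map
        (X.presheaf.germ U x hx).hom := by
  letI : Algebra Γ(Y, V) (Y.presheaf.stalk (f x)) := (Y.presheaf.germ V (f x) (e hx)).hom.toAlgebra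
  haveI : IsLocalization.AtPrime (Y.presheaf.stalk (f x)) (primeOf hV (f x) (e hx)) :=
    hV.isLocalization_stalk ⟨f x, e hx⟩
  rw [← IsLocalization.AtPrime.map_eq_maximalIdeal (primeOf hV (f x) (e hx)) (Y.presheaf.stalk (f x)),
    primeOf_comap f hV hU e x hx, Ideal.map_map, Ideal.map_map]
  congr 1
  exact RingHom.ext fun a => stalkMap_germ f e x hx a

end Groth.Agent.FlatOpen.Scheme
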