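import Groth.Agent.RelDim.CMLocus
import Groth.Agent.FlatOpen.SchemeMap
import Groth.Agent.FlatMor.CMFlat
import Groth.Agent.EtStruct.Scheme
import Mathlib.AlgebraicGeometry.AffineSpace
import Mathlib.AlgebraicGeometry.Morphisms.QuasiFinite
import Mathlib.RingTheory.MvPolynomial.Basic

/-!
# Cohen–Macaulay points: flat quasi-finite maps to affine space, on schemes

* `exists_chartSpace`: `Spec R[t_1, …, t_n] → 𝔸(n; Y)` over an affine chart of `Y`.
* `isCMAt_iff_chart`: Cohen–Macaulayness at a point on a chart.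
* `stalkMap_flat_iff_Spec`: flatness of `Spec φ` at a point.
-/

set_option autoImplicit false
set_option linter.style.haveILetI false

universe u

open CategoryTheory Limits AlgebraicGeometry IsLocalRing
open Groth.Agent.AssSch.Stalk

namespace Groth.Agent.FlatOpen.CMAffine

theorem exists_chartSpace {Y : Scheme.{u}} {V : Y.Opens} (hV : IsAffineOpen V) (n : ℕ) :
    ∃ j : Spec (.of (MvPolynomial (ULift.{u} (Fin n)) Γ(Y, V))) ⟶ 𝔸(ULift.{u} (Fin n); Y),
      IsOpenImmersion j ∧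
      j ≫ (𝔸(ULift.{u} (Fin n); Y) ↘ Y) = Spec.map (CommRingCat.ofHom MvPolynomial.C) ≫ hV.fromSpec ∧
      ∀ z, (𝔸(ULift.{u} (Fin n); Y) ↘ Y) z ∈ V → z ∈ Set.range j := by
  have sq := AffineSpace.isPullback_map (n := ULift.{u} (Fin n)) hV.fromSpec
  haveI : IsOpenImmersion (AffineSpace.map (ULift.{u} (Fin n)) hV.fromSpec) :=
    MorphismProperty.of_isPullback (P := @IsOpenImmersion) sq.flip hV.isOpenImmersion_fromSpec
  refine ⟨(AffineSpace.SpecIso (ULift.{u} (Fin n)) Γ(Y, V)).inv ≫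
    AffineSpace.map (ULift.{u} (Fin n)) hV.fromSpec, inferInstance, ?_, fun z hz => ?_⟩
  · rw [Category.assoc, AffineSpace.map_over, AffineSpace.SpecIso_inv_over_assoc]
  · obtain ⟨v, hv⟩ := hV.range_fromSpec.ge hz
    obtain ⟨w, hw, -⟩ := Scheme.exists_preimage_of_isPullback sq z v hv.symm
    refine ⟨(AffineSpace.SpecIso (ULift.{u} (Fin n)) Γ(Y, V)).hom w, ?_⟩
    rw [← Scheme.Hom.comp_apply, Iso.hom_inv_id_assoc]
    exact hw

theorem stalkMap_flat_iff_Spec {P C : CommRingCat.{u}} (φ : P ⟶ C) (q : PrimeSpectrum C) :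
    letI := φ.hom.toAlgebra
    ((Spec.map φ).stalkMap q).hom.Flat ↔ Module.Flat P (Localization.AtPrime q.asIdeal) := by
  letI := φ.hom.toAlgebra
  refine (RingHom.Flat.respectsIso.arrow_mk_iso_iff (Scheme.arrowStalkMapSpecIso φ q)).trans ?_
  let p := PrimeSpectrum.comap φ.hom q
  haveI : q.asIdeal.LiesOver p.asIdeal := ⟨rfl⟩
  letI := Localization.AtPrime.algebraOfLiesOver p.asIdeal q.asIdeal
  rw [← Module.flat_iff_of_isLocalization (Localization.AtPrime p.asIdeal) p.asIdeal.primeCompl,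
    ← RingHom.flat_algebraMap_iff, Localization.AtPrime.IsLiesOverAlgebra.algebraMap_eq]
  exact Iff.rfl

theorem stalkMap_flat_comp_iff {A B C : Scheme.{u}} (a : A ⟶ B) (b : B ⟶ C) (x : A)
    [IsOpenImmersion a] : ((a ≫ b).stalkMap x).hom.Flat ↔ (b.stalkMap (a x)).hom.Flat := by
  rw [Scheme.Hom.stalkMap_comp]
  exact RingHom.Flat.respectsIso.cancel_right_isIso _ _

theorem stalkMap_comp_flat_iff {A B C : Scheme.{u}} (a : A ⟶ B) (b : B ⟶ C) (x : A)
    [IsOpenImmersion b] : ((a ≫ b).stalkMap x).hom.Flat ↔ (a.stalkMap x).hom.Flat := by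
  rw [Scheme.Hom.stalkMap_comp]
  exact RingHom.Flat.respectsIso.cancel_left_isIso _ _

theorem stalkMap_flat_congr {A B : Scheme.{u}} (b : A ⟶ B) {p q : A} (h : p = q) :
    (b.stalkMap p).hom.Flat ↔ (b.stalkMap q).hom.Flat := by subst h; rfl

variable {X Y : Scheme.{u}} (f : X ⟶ Y) {V : Y.Opens} (hV : IsAffineOpen V) {U : X.Opens}
  (hU : IsAffineOpen U) (e : U ≤ f ⁻¹ᵁ V) (x : X) (hx : x ∈ U)

include hV in
theorem isCMAt_iff_chart :
    letI := (f.appLE V U e).hom.toAlgebra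
    MoreMor.IsCMAt f x ↔ Groth.Agent.RelDim.IsCMPoint Γ(Y, V) Γ(X, U) (hU.primeIdealOf ⟨x, hx⟩) := by
  letI := (f.appLE V U e).hom.toAlgebra
  rw [Groth.Agent.FlatMor.CMFlat.isCMAt_iff]
  refine and_congr ((Groth.Agent.EtStruct.flat_stalkMap_iff f hV hU e hx).trans Iff.rfl) ?_
  let q := primeOf hU x hx
  letI : Algebra Γ(X, U) (X.presheaf.stalk x) := (X.presheaf.germ U x hx).hom.toAlgebra
  haveI : IsLocalization.AtPrime (X.presheaf.stalk x) q := hU.isLocalization_stalk ⟨x, hx⟩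
  let ε := IsLocalization.algEquiv q.primeCompl (Localization.AtPrime q) (X.presheaf.stalk x)
  have hI : (maximalIdeal (Y.presheaf.stalk (f x))).map (f.stalkMap x).hom =
      ((q.comap (algebraMap Γ(Y, V) Γ(X, U))).map
        (algebraMap Γ(Y, V) (Localization.AtPrime q))).map ε.toRingEquiv.toRingHom := by
    rw [Scheme.maximalIdeal_map_stalkMap f hV hU e x hx, Ideal.map_map, Ideal.map_map]
    congr 1
    refine RingHom.ext fun a => ?_
    rw [RingHom.comp_apply, RingHom.comp_apply,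
      IsScalarTower.algebraMap_apply Γ(Y, V) Γ(X, U) (Localization.AtPrime q)]
    exact (ε.commutes _).symm
  exact ⟨Groth.Agent.FlatMor.CMFlat.isCM_of_ringEquiv (Ideal.quotientEquiv _ _ ε.toRingEquiv hI).symm,
    Groth.Agent.FlatMor.CMFlat.isCM_of_ringEquiv (Ideal.quotientEquiv _ _ ε.toRingEquiv hI)⟩

include hV in
/-- EGA IV 15.4.3 (a ⇒ b), with the dimension given. -/
theorem exists_of_isCMAt_dim [LocallyOfFinitePresentation f] (h : MoreMor.IsCMAt f x)
    (e : U ≤ f ⁻¹ᵁ V) (hU : IsAffineOpen U) (hx : x ∈ U) (n : ℕ)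
    (hn : letI := (f.appLE V U e).hom.toAlgebra
      Groth.Agent.RelDim.HasFibDim Γ(Y, V) Γ(X, U) (hU.primeIdealOf ⟨x, hx⟩) n) :
    ∃ (W : X.Opens) (hx : x ∈ W) (g : (W : Scheme.{u}) ⟶ 𝔸(ULift.{u} (Fin n); Y)),
      g ≫ (𝔸(ULift.{u} (Fin n); Y) ↘ Y) = W.ι ≫ f ∧ LocallyQuasiFinite g ∧
        (g.stalkMap ⟨x, hx⟩).hom.Flat := by
  let R := Γ(Y, V)
  let C₀ := Γ(X, U)
  letI : Algebra R C₀ := (f.appLE V U e).hom.toAlgebra
  haveI : Algebra.FinitePresentation R C₀ := f.finitePresentation_appLE hV hU e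
  have hcm := (isCMAt_iff_chart f hV hU e x hx).mp h
  obtain ⟨a, ha, φ, hφ, hflat⟩ :=
    Groth.Agent.RelDim.exists_away_flat_quasiFinite _ hcm n hn
  obtain ⟨j, hj, hjo, -⟩ := exists_chartSpace hV n
  let P := MvPolynomial (ULift.{u} (Fin n)) R
  let ren : P ≃ₐ[R] MvPolynomial (Fin n) R := MvPolynomial.renameEquiv R Equiv.ulift
  let ψ : P →ₐ[R] Localization.Away a := φ.comp ren.toAlgHom
  let i : Spec (.of (Localization.Away a)) ⟶ X :=
    Spec.map (CommRingCat.ofHom (algebraMap C₀ (Localization.Away a))) ≫ hU.fromSpec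
  haveI : IsOpenImmersion (Spec.map (CommRingCat.ofHom (algebraMap C₀ (Localization.Away a)))) :=
    IsOpenImmersion.of_isLocalization a
  haveI : IsOpenImmersion i := inferInstance
  obtain ⟨q₁, hq₁⟩ := (PrimeSpectrum.localization_away_comap_range (Localization.Away a) a).ge
    (show hU.primeIdealOf ⟨x, hx⟩ ∈ PrimeSpectrum.basicOpen a from ha)
  have hiq : i q₁ = x :=
    (congrArg hU.fromSpec hq₁).trans (hU.fromSpec_primeIdealOf ⟨x, hx⟩)
  let g₀ := Spec.map (CommRingCat.ofHom ψ.toRingHom) ≫ j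
  have hxW : x ∈ i.opensRange := ⟨q₁, hiq⟩
  refine ⟨i.opensRange, hxW, i.isoOpensRange.inv ≫ g₀, ?_, ?_, ?_⟩
  · rw [Category.assoc, Category.assoc, hjo, ← Spec.map_comp_assoc,
      show CommRingCat.ofHom MvPolynomial.C ≫ CommRingCat.ofHom ψ.toRingHom =
        f.appLE V U e ≫ CommRingCat.ofHom (algebraMap C₀ (Localization.Away a)) from
        CommRingCat.hom_ext (RingHom.ext fun r =>
          (ψ.commutes r).trans (IsScalarTower.algebraMap_apply R C₀ (Localization.Away a) r)),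
      Spec.map_comp_assoc, IsAffineOpen.SpecMap_appLE_fromSpec f hV hU e,
      ← Scheme.Hom.isoOpensRange_inv_comp i, Category.assoc, Category.assoc]
  · haveI : LocallyQuasiFinite (Spec.map (CommRingCat.ofHom ψ.toRingHom)) := by
      rw [HasRingHomProperty.Spec_iff (P := @LocallyQuasiFinite)]
      exact RingHom.QuasiFinite.comp hφ
        (RingHom.QuasiFinite.of_finite (RingHom.Finite.of_surjective _ ren.surjective))
    infer_instance
  · have hpt : i.isoOpensRange.inv ⟨x, hxW⟩ = q₁ := by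
      apply i.isOpenEmbedding.injective
      refine (Scheme.Hom.comp_apply i.isoOpensRange.inv i _).symm.trans ?_
      rw [Scheme.Hom.isoOpensRange_inv_comp]
      exact hiq.symm
    refine ((stalkMap_flat_comp_iff _ _ _).trans ((stalkMap_flat_congr g₀ hpt).trans
      ((stalkMap_comp_flat_iff _ j _).trans (stalkMap_flat_iff_Spec _ _)))).mpr ?_
    have h1 := hflat q₁ (congrArg PrimeSpectrum.asIdeal hq₁)
    letI : Algebra (MvPolynomial (Fin n) R) (Localization.Away a) := φ.toRingHom.toAlgebra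
    letI : Algebra P (MvPolynomial (Fin n) R) := ren.toAlgHom.toRingHom.toAlgebra
    letI : Algebra P (Localization.Away a) := ψ.toRingHom.toAlgebra
    haveI : Module.Flat (MvPolynomial (Fin n) R) (Localization.AtPrime q₁.asIdeal) := h1
    haveI : Module.Flat P (MvPolynomial (Fin n) R) :=
      RingHom.Flat.of_bijective (f := ren.toAlgHom.toRingHom) ren.bijective
    haveI : IsScalarTower P (MvPolynomial (Fin n) R) (Localization.Away a) :=
      IsScalarTower.of_algebraMap_eq fun _ => rfl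
    haveI : IsScalarTower P (MvPolynomial (Fin n) R) (Localization.AtPrime q₁.asIdeal) :=
      IsScalarTower.of_algebraMap_eq fun p => by
        rw [IsScalarTower.algebraMap_apply P (Localization.Away a),
          IsScalarTower.algebraMap_apply (MvPolynomial (Fin n) R) (Localization.Away a)]
        rfl
    exact Module.Flat.trans P (MvPolynomial (Fin n) R) _

include hV in
/-- EGA IV 15.4.3 (a ⇒ b). -/
theorem exists_of_isCMAt [LocallyOfFinitePresentation f] (h : MoreMor.IsCMAt f x)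
    (e : U ≤ f ⁻¹ᵁ V) (hU : IsAffineOpen U) (hx : x ∈ U) :
    ∃ (n : ℕ) (W : X.Opens) (hx : x ∈ W) (g : (W : Scheme.{u}) ⟶ 𝔸(ULift.{u} (Fin n); Y)),
      g ≫ (𝔸(ULift.{u} (Fin n); Y) ↘ Y) = W.ι ≫ f ∧ LocallyQuasiFinite g ∧
        (g.stalkMap ⟨x, hx⟩).hom.Flat := by
  letI : Algebra Γ(Y, V) Γ(X, U) := (f.appLE V U e).hom.toAlgebra
  haveI : Algebra.FinitePresentation Γ(Y, V) Γ(X, U) := f.finitePresentation_appLE hV hU e
  obtain ⟨n, hn⟩ := Groth.Agent.RelDim.exists_hasFibDim (R := Γ(Y, V)) (hU.primeIdealOf ⟨x, hx⟩)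
  exact ⟨n, exists_of_isCMAt_dim f hV x h e hU hx n hn⟩

/-- EGA IV 15.4.3 (b ⇒ a). -/
theorem isCMAt_of_exists [LocallyOfFinitePresentation f] (n : ℕ) (W : X.Opens) (hxW : x ∈ W)
    (g : (W : Scheme.{u}) ⟶ 𝔸(ULift.{u} (Fin n); Y))
    (hg : g ≫ (𝔸(ULift.{u} (Fin n); Y) ↘ Y) = W.ι ≫ f) (hq : LocallyQuasiFinite g)
    (hfl : (g.stalkMap ⟨x, hxW⟩).hom.Flat) : MoreMor.IsCMAt f x := by
  obtain ⟨_, ⟨V, hV, rfl⟩, hy, -⟩ := Y.isBasis_affineOpens.exists_subset_of_mem_open
    (Set.mem_univ (f x)) isOpen_univ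
  replace hV : IsAffineOpen V := hV
  obtain ⟨_, ⟨U, hU, rfl⟩, hxU, hUW⟩ := X.isBasis_affineOpens.exists_subset_of_mem_open
    (show x ∈ W ⊓ f ⁻¹ᵁ V from ⟨hxW, hy⟩) (W ⊓ f ⁻¹ᵁ V).isOpen
  replace hU : IsAffineOpen U := hU
  replace hxU : x ∈ U := hxU
  have e : U ≤ f ⁻¹ᵁ V := fun z hz => (hUW hz).2
  obtain ⟨j, hj, hjo, hjr⟩ := exists_chartSpace hV n
  let k : Spec Γ(X, U) ⟶ W := IsOpenImmersion.lift W.ι hU.fromSpec
    (by rw [hU.range_fromSpec, Scheme.Opens.range_ι]; exact fun z hz => (hUW hz).1)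
  have hk : k ≫ W.ι = hU.fromSpec := IsOpenImmersion.lift_fac _ _ _
  haveI : IsOpenImmersion k := by
    haveI : IsOpenImmersion (k ≫ W.ι) := by rw [hk]; infer_instance
    exact IsOpenImmersion.of_comp k W.ι
  have hr : Set.range (k ≫ g) ⊆ Set.range j := by
    rintro _ ⟨p, rfl⟩
    refine hjr _ ?_
    rw [← Scheme.Hom.comp_apply, Category.assoc, hg, ← Category.assoc, hk, Scheme.Hom.comp_apply]
    exact e (hU.range_fromSpec.le ⟨p, rfl⟩)
  let l := IsOpenImmersion.lift j (k ≫ g) hr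
  have hl : l ≫ j = k ≫ g := IsOpenImmersion.lift_fac _ _ _
  let φ := Spec.preimage l
  have hφ : Spec.map φ = l := Spec.map_preimage l
  let R := Γ(Y, V)
  let C₀ := Γ(X, U)
  let P := MvPolynomial (ULift.{u} (Fin n)) R
  have hC : CommRingCat.ofHom MvPolynomial.C ≫ φ = f.appLE V U e := by
    apply Spec.map_injective
    rw [← cancel_mono hV.fromSpec, Spec.map_comp, Category.assoc, ← hjo, hφ, reassoc_of% hl, hg,
      reassoc_of% hk, IsAffineOpen.SpecMap_appLE_fromSpec f hV hU e]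
  haveI : LocallyQuasiFinite (Spec.map φ) := by
    haveI : LocallyQuasiFinite (l ≫ j) := by rw [hl]; infer_instance
    rw [hφ]; exact LocallyQuasiFinite.of_comp l j
  have hφq : φ.hom.QuasiFinite := (HasRingHomProperty.Spec_iff (P := @LocallyQuasiFinite)).mp ‹_›
  have hpt : k (hU.primeIdealOf ⟨x, hxU⟩) = ⟨x, hxW⟩ := by
    apply W.ι.isOpenEmbedding.injective
    refine (Scheme.Hom.comp_apply k W.ι _).symm.trans ?_
    rw [hk]
    exact hU.fromSpec_primeIdealOf ⟨x, hxU⟩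
  have hfl₁ := ((stalkMap_flat_congr g hpt).trans Iff.rfl).mpr hfl
  have hfl₂ := (stalkMap_flat_comp_iff k g _).mpr hfl₁
  have hfl₃ : ((l ≫ j).stalkMap (hU.primeIdealOf ⟨x, hxU⟩)).hom.Flat := by rw [hl]; exact hfl₂
  have hfl₄ := (stalkMap_comp_flat_iff l j _).mp hfl₃
  rw [← hφ] at hfl₄
  have hfl' := (stalkMap_flat_iff_Spec φ _).mp hfl₄
  rw [isCMAt_iff_chart f hV hU e x hxU]
  letI : Algebra R C₀ := (f.appLE V U e).hom.toAlgebra
  haveI : Algebra.FinitePresentation R C₀ := f.finitePresentation_appLE hV hU e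
  let ren : MvPolynomial (Fin n) R ≃ₐ[R] P := MvPolynomial.renameEquiv R Equiv.ulift.symm
  letI : Algebra P C₀ := φ.hom.toAlgebra
  letI : Algebra (MvPolynomial (Fin n) R) C₀ := (φ.hom.comp ren.toAlgHom.toRingHom).toAlgebra
  haveI : IsScalarTower R (MvPolynomial (Fin n) R) C₀ := IsScalarTower.of_algebraMap_eq fun r => by
    show (f.appLE V U e).hom r = φ.hom (ren (algebraMap R _ r))
    rw [ren.commutes, ← hC]
    rfl
  haveI : Algebra.QuasiFinite (MvPolynomial (Fin n) R) C₀ :=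
    RingHom.QuasiFinite.comp hφq
      (RingHom.QuasiFinite.of_finite (RingHom.Finite.of_surjective _ ren.surjective))
  let q := primeOf hU x hxU
  letI : Algebra (MvPolynomial (Fin n) R) P := ren.toAlgHom.toRingHom.toAlgebra
  haveI : Module.Flat (MvPolynomial (Fin n) R) P :=
    RingHom.Flat.of_bijective (f := ren.toAlgHom.toRingHom) ren.bijective
  haveI : IsScalarTower (MvPolynomial (Fin n) R) P C₀ := IsScalarTower.of_algebraMap_eq fun _ => rfl
  haveI : IsScalarTower (MvPolynomial (Fin n) R) P (Localization.AtPrime q) :=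
    IsScalarTower.of_algebraMap_eq fun p => by
      rw [IsScalarTower.algebraMap_apply (MvPolynomial (Fin n) R) C₀,
        IsScalarTower.algebraMap_apply P C₀]
      rfl
  haveI : Module.Flat P (Localization.AtPrime q) := hfl'
  have hflat : Module.Flat (MvPolynomial (Fin n) R) (Localization.AtPrime q) :=
    Module.Flat.trans _ P _
  haveI : q.LiesOver (q.under R) := ⟨rfl⟩
  obtain ⟨h1, h2, -⟩ := Groth.Agent.RelDim.cm_of_flat_quasiFinite R C₀ (q.under R) q hflat
  exact ⟨h1, h2⟩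

end Groth.Agent.FlatOpen.CMAffine
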