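import Groth.Agent.FlatOpen.FibreAPI
import Groth.Prelude.Def_CAlgX

/-!
# The fibrewise criterion for local rings essentially of finite presentation

* `atPrime_of_fractions`: a localization which is local is the localization at a prime.
* `exists_fp_localized`: an fp module over a localization is a localized fp module.
* `exists_model_hom`: a map into a localization of an fp algebra factors through an fp algebra.
-/

set_option autoImplicit false
set_option linter.style.haveILetI false

universe u

open TensorProduct Function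

namespace Groth.Agent.FlatOpen

/-- If `A` is a local localization of `B` and every element of the intermediate `C` is a fraction,
then `A` is the localization of `C` at the contraction of the maximal ideal. -/
theorem atPrime_of_fractions {B C A : Type u} [CommRing B] [CommRing C] [CommRing A] [Algebra B C]
    [Algebra C A] [Algebra B A] [IsScalarTower B C A] [IsLocalRing A] (N : Submonoid B)
    [IsLocalization N A]
    (hC : ∀ c : C, ∃ b : B, ∃ n ∈ N, c * algebraMap B C n = algebraMap B C b) :
    IsLocalization.AtPrime A ((IsLocalRing.maximalIdeal A).comap (algebraMap C A)) := by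
  constructor
  refine ⟨fun y => ?_, fun z => ?_, fun {c₁ c₂} h => ?_⟩
  · have hy : (y : C) ∉ (IsLocalRing.maximalIdeal A).comap (algebraMap C A) := y.2
    by_contra hu
    exact hy hu
  · obtain ⟨⟨b, n⟩, hbn⟩ := IsLocalization.surj N z
    refine ⟨⟨algebraMap B C b, algebraMap B C n, fun hm => ?_⟩, ?_⟩
    · rw [SetLike.mem_coe, Ideal.mem_comap, ← IsScalarTower.algebraMap_apply] at hm
      exact (IsLocalRing.mem_maximalIdeal _).1 hm (IsLocalization.map_units A n)
    · show z * algebraMap C A (algebraMap B C n) = algebraMap C A (algebraMap B C b)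
      rw [← IsScalarTower.algebraMap_apply, ← IsScalarTower.algebraMap_apply]
      exact hbn
  · obtain ⟨b₁, n₁, hn₁, h₁⟩ := hC c₁
    obtain ⟨b₂, n₂, hn₂, h₂⟩ := hC c₂
    have hA : algebraMap B A (b₁ * n₂) = algebraMap B A (b₂ * n₁) := by
      simp only [map_mul, IsScalarTower.algebraMap_apply B C A, ← h₁, ← h₂, h]
      ring
    obtain ⟨⟨n, hn⟩, hnb⟩ := (IsLocalization.eq_iff_exists N A).1 hA
    refine ⟨⟨algebraMap B C (n * (n₁ * n₂)), fun hm => ?_⟩, ?_⟩
    · rw [SetLike.mem_coe, Ideal.mem_comap, ← IsScalarTower.algebraMap_apply] at hm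
      exact (IsLocalRing.mem_maximalIdeal _).1 hm
        (IsLocalization.map_units A (⟨_, mul_mem hn (mul_mem hn₁ hn₂)⟩ : N))
    · have := congrArg (algebraMap B C) hnb
      simp only [map_mul, ← h₁, ← h₂] at this ⊢
      linear_combination this

/-- An fp module over a localization is the localization of an fp module. -/
theorem exists_fp_localized {C A : Type u} [CommRing C] [CommRing A] [Algebra C A] (T : Submonoid C)
    [IsLocalization T A] (M : Type u) [AddCommGroup M] [Module A M] [Module C M] [IsScalarTower C A M]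
    [Module.FinitePresentation A M] :
    ∃ (M₀ : Type u) (_ : AddCommGroup M₀) (_ : Module C M₀) (g : M₀ →ₗ[C] M),
      Module.FinitePresentation C M₀ ∧ IsLocalizedModule T g := by
  classical
  obtain ⟨k, L, e, G, hG⟩ := Module.FinitePresentation.exists_fin A M
  let f : (Fin k → C) →ₗ[C] (Fin k → A) :=
    LinearMap.pi fun i => Algebra.linearMap C A ∘ₗ LinearMap.proj i
  haveI : IsLocalizedModule T (Algebra.linearMap C A) :=
    (isLocalizedModule_iff_isLocalization' _ _).2 inferInstance
  haveI : IsLocalizedModule T f := inferInstanceAs (IsLocalizedModule T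
    (LinearMap.pi fun i : Fin k => Algebra.linearMap C A ∘ₗ LinearMap.proj i))
  have hlift : ∀ v : Fin k → A, ∃ w : Fin k → C, ∃ t : T, f w = (t : C) • v := fun v => by
    obtain ⟨⟨w, t⟩, hwt⟩ := IsLocalizedModule.surj T f v
    exact ⟨w, t, by rw [← hwt, Submonoid.smul_def]⟩
  choose w t hwt using hlift
  let L₀ : Submodule C (Fin k → C) := Submodule.span C (w '' (G : Set (Fin k → A)))
  have hL : L₀.localized' A T f = L := by
    rw [Submodule.localized'_span, ← hG]
    refine le_antisymm (Submodule.span_le.2 ?_) (Submodule.span_le.2 ?_)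
    · rintro - ⟨-, ⟨v, hv, rfl⟩, rfl⟩
      rw [SetLike.mem_coe, hwt, ← algebraMap_smul A (t v : C) v]
      exact Submodule.smul_mem _ _ (Submodule.subset_span hv)
    · intro v hv
      rw [SetLike.mem_coe, ← Submodule.smul_mem_iff_of_isUnit _ (IsLocalization.map_units A (t v)),
        algebraMap_smul, ← hwt]
      exact Submodule.subset_span ⟨_, ⟨v, hv, rfl⟩, rfl⟩
  let q := Submodule.toLocalizedQuotient' A T f L₀
  let e' : ((Fin k → A) ⧸ L₀.localized' A T f) ≃ₗ[C] M :=
    ((Submodule.quotEquivOfEq _ _ hL).trans e.symm).restrictScalars C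
  refine ⟨(Fin k → C) ⧸ L₀, inferInstance, inferInstance, e'.toLinearMap ∘ₗ q, ?_,
    IsLocalizedModule.of_linearEquiv T q e'⟩
  exact Module.finitePresentation_of_surjective L₀.mkQ L₀.mkQ_surjective (by
    rw [Submodule.ker_mkQ]
    exact Submodule.fg_span (G.finite_toSet.image w))

/-- A map from an fp algebra to a localization of an fp algebra factors through an fp algebra. -/
theorem exists_model_hom {R B₁ A S₀ : Type u} [CommRing R] [CommRing B₁] [CommRing A] [CommRing S₀]
    [Algebra R B₁] [Algebra B₁ A] [Algebra R A] [IsScalarTower R B₁ A] (N : Submonoid B₁)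
    [IsLocalization N A] [Algebra.FinitePresentation R B₁] [Algebra R S₀]
    [Algebra.FinitePresentation R S₀] [IsLocalRing A] (φ : S₀ →ₐ[R] A) :
    ∃ (C : Type u) (_ : CommRing C) (_ : Algebra R C) (_ : Algebra S₀ C) (_ : IsScalarTower R S₀ C)
      (_ : Algebra C A) (_ : IsScalarTower R C A),
      Algebra.FinitePresentation R C ∧ (∀ x : S₀, algebraMap C A (algebraMap S₀ C x) = φ x) ∧
        IsLocalization.AtPrime A ((IsLocalRing.maximalIdeal A).comap (algebraMap C A)) := by
  classical
  obtain ⟨m, π, hπ, F, hF⟩ := (inferInstance : Algebra.FinitePresentation R S₀).out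
  obtain ⟨t, ht⟩ := IsLocalization.exist_integer_multiples N (Finset.univ : Finset (Fin m))
    (fun i => φ (π (MvPolynomial.X i)))
  choose b hb using fun i => ht i (Finset.mem_univ i)
  let Bt := Localization.Away (t : B₁)
  have htu : IsUnit (algebraMap B₁ A t) := IsLocalization.map_units A t
  let η : Bt →+* A := IsLocalization.Away.lift (t : B₁) htu
  letI : Algebra Bt A := η.toAlgebra
  haveI : IsScalarTower B₁ Bt A := IsScalarTower.of_algebraMap_eq fun x =>
    (IsLocalization.Away.lift_eq (t : B₁) htu x).symm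
  haveI : IsScalarTower R Bt A := IsScalarTower.of_algebraMap_eq fun x => by
    rw [IsScalarTower.algebraMap_apply R B₁ Bt, ← IsScalarTower.algebraMap_apply B₁ Bt A,
      ← IsScalarTower.algebraMap_apply R B₁ A]
  haveI : Algebra.FinitePresentation B₁ Bt := IsLocalization.Away.finitePresentation (t : B₁)
  haveI : Algebra.FinitePresentation R Bt := Algebra.FinitePresentation.trans R B₁ Bt
  let h : MvPolynomial (Fin m) R →ₐ[R] Bt :=
    MvPolynomial.aeval fun i => IsLocalization.mk' Bt (b i) (⟨(t : B₁), Submonoid.mem_powers _⟩ : Submonoid.powers (t : B₁))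
  have hh : (IsScalarTower.toAlgHom R Bt A).comp h = φ.comp π := by
    refine MvPolynomial.algHom_ext fun i => ?_
    simp only [AlgHom.comp_apply, IsScalarTower.coe_toAlgHom', h, MvPolynomial.aeval_X]
    apply htu.mul_left_cancel
    rw [IsScalarTower.algebraMap_apply B₁ Bt A, ← map_mul,
      show algebraMap B₁ Bt (t : B₁) * IsLocalization.mk' Bt (b i)
          (⟨(t : B₁), Submonoid.mem_powers _⟩ : Submonoid.powers (t : B₁)) = algebraMap B₁ Bt (b i) from
        IsLocalization.mk'_spec' (M := Submonoid.powers (t : B₁)) Bt (b i) _,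
      ← IsScalarTower.algebraMap_apply, hb i, ← IsScalarTower.algebraMap_apply, Algebra.smul_def]
  let K : Ideal Bt := Ideal.span (h '' (F : Set (MvPolynomial (Fin m) R)))
  have hK : K ≤ RingHom.ker (algebraMap Bt A) := by
    refine Ideal.span_le.2 ?_
    rintro - ⟨v, hv, rfl⟩
    have h0 : π v = 0 := by
      have : v ∈ RingHom.ker π.toRingHom := hF ▸ Submodule.subset_span hv
      exact this
    show algebraMap Bt A (h v) = 0
    exact (DFunLike.congr_fun hh v).trans (by rw [AlgHom.comp_apply, h0, map_zero])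
  let C := Bt ⧸ K
  have hker : RingHom.ker π.toRingHom ≤ RingHom.ker ((Ideal.Quotient.mkₐ R K).comp h).toRingHom := by
    rw [← hF]
    refine Submodule.span_le.2 fun v hv => ?_
    exact Ideal.Quotient.eq_zero_iff_mem.2 (Ideal.subset_span ⟨v, hv, rfl⟩)
  let ψ : S₀ →ₐ[R] C := (Ideal.Quotient.liftₐ (RingHom.ker π) ((Ideal.Quotient.mkₐ R K).comp h) hker).comp
    (Ideal.quotientKerAlgEquivOfSurjective hπ).symm.toAlgHom
  have hψ : ∀ y, ψ (π y) = Ideal.Quotient.mk K (h y) := fun y => by
    have he : (Ideal.quotientKerAlgEquivOfSurjective hπ).symm (π y) = Ideal.Quotient.mk _ y := by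
      rw [AlgEquiv.symm_apply_eq]; rfl
    simp only [ψ, AlgHom.comp_apply]
    erw [he]
    rfl
  letI : Algebra S₀ C := ψ.toRingHom.toAlgebra
  haveI : IsScalarTower R S₀ C := IsScalarTower.of_algebraMap_eq fun x => (ψ.commutes x).symm
  letI : Algebra C A := RingHom.toAlgebra (R := Bt ⧸ K) (Ideal.Quotient.lift K (algebraMap Bt A) hK)
  haveI : IsScalarTower R C A :=
    IsScalarTower.of_algebraMap_eq (R := R) (S := Bt ⧸ K) (A := A) fun x =>
      (IsScalarTower.algebraMap_apply R Bt A x).trans rfl
  refine ⟨C, inferInstance, inferInstance, inferInstance, inferInstance, inferInstance, inferInstance,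
    Algebra.FinitePresentation.quotient (Submodule.fg_span (F.finite_toSet.image h)), fun x => ?_, ?_⟩
  · obtain ⟨y, rfl⟩ := hπ x
    rw [← AlgHom.comp_apply, ← hh]
    show Ideal.Quotient.lift K (algebraMap Bt A) hK (ψ (π y)) = _
    rw [hψ]
    rfl
  · haveI : IsScalarTower B₁ C A :=
      IsScalarTower.of_algebraMap_eq (R := B₁) (S := Bt ⧸ K) (A := A) fun x =>
        (IsScalarTower.algebraMap_apply B₁ Bt A x).trans rfl
    refine atPrime_of_fractions (B := B₁) N fun c => ?_
    obtain ⟨c, rfl⟩ := Ideal.Quotient.mk_surjective c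
    obtain ⟨⟨y, ⟨-, j, rfl⟩⟩, hy⟩ := IsLocalization.surj (Submonoid.powers (t : B₁)) c
    exact ⟨y, (t : B₁) ^ j, pow_mem t.2 j, congrArg (Ideal.Quotient.mk K) hy⟩

/-- The criterion for local rings essentially of finite presentation. -/
theorem fibre_flat_criterion_local {R S S' M : Type u} [CommRing R] [CommRing S] [CommRing S']
    [IsLocalRing R] [IsLocalRing S] [IsLocalRing S'] [Algebra R S] [Algebra S S'] [Algebra R S']
    [IsScalarTower R S S'] [IsLocalHom (algebraMap R S)] [IsLocalHom (algebraMap S S')]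
    (hS : CAlgX.IsEssFinitePresentation R S) (hS' : CAlgX.IsEssFinitePresentation R S')
    [AddCommGroup M] [Module S' M] [Module S M] [Module R M] [IsScalarTower S S' M]
    [IsScalarTower R S' M] [IsScalarTower R S M] [Module.FinitePresentation S' M] [Nontrivial M]
    [Module.Flat R M]
    (hfib : Module.Flat (S ⧸ (IsLocalRing.maximalIdeal R).map (algebraMap R S))
      (M ⧸ (IsLocalRing.maximalIdeal R).map (algebraMap R S) • (⊤ : Submodule S M))) :
    Module.Flat R S ∧ Module.Flat S M := by
  obtain ⟨S₀, _, _, _, _, MS, hS₀, hloc⟩ := hS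
  obtain ⟨S₁, _, _, _, _, MS', hS₁, hloc'⟩ := hS'
  obtain ⟨C, _, _, _, _, _, _, hCR, hcomp, hQloc⟩ := exists_model_hom MS'
    ((IsScalarTower.toAlgHom R S S').comp (IsScalarTower.toAlgHom R S₀ S))
  letI : Algebra S₀ S' := ((algebraMap S S').comp (algebraMap S₀ S)).toAlgebra
  haveI : IsScalarTower S₀ S S' := IsScalarTower.of_algebraMap_eq' rfl
  haveI : IsScalarTower S₀ C S' := IsScalarTower.of_algebraMap_eq fun x => (hcomp x).symm
  haveI : Algebra.FinitePresentation S₀ C := Algebra.FinitePresentation.of_restrict_scalars_finitePresentation R S₀ C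
  let Q := (IsLocalRing.maximalIdeal S').comap (algebraMap C S')
  let q := Q.comap (algebraMap S₀ C)
  have hmax : (IsLocalRing.maximalIdeal S').comap (algebraMap S S') = IsLocalRing.maximalIdeal S :=
    ((IsLocalRing.local_hom_TFAE (algebraMap S S')).out 0 4).1 ‹_›
  have hmaxR : (IsLocalRing.maximalIdeal S).comap (algebraMap R S) = IsLocalRing.maximalIdeal R :=
    ((IsLocalRing.local_hom_TFAE (algebraMap R S)).out 0 4).1 ‹_›
  have hq : q = (IsLocalRing.maximalIdeal S).comap (algebraMap S₀ S) := by
    rw [← hmax]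
    simp only [q, Q, Ideal.comap_comap]
    congr 1
    exact RingHom.ext fun x => hcomp x
  haveI hSq : IsLocalization.AtPrime S q := by
    haveI h := atPrime_of_fractions (B := S₀) (C := S₀) (A := S) MS
      fun c => ⟨c, 1, one_mem _, by simp⟩
    simpa only [hq] using h
  have hp : Q.comap (algebraMap R C) = IsLocalRing.maximalIdeal R := by
    rw [← hmaxR, ← hmax]
    simp only [Q, Ideal.comap_comap, ← IsScalarTower.algebraMap_eq]
  letI : Module C M := Module.compHom M (algebraMap C S')
  haveI : IsScalarTower C S' M := IsScalarTower.of_algebraMap_smul fun _ _ => rfl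
  obtain ⟨M₀, _, _, g, hfp, hg⟩ := exists_fp_localized (A := S') Q.primeCompl M
  letI : Module S₀ M₀ := Module.compHom M₀ (algebraMap S₀ C)
  haveI : IsScalarTower S₀ C M₀ := IsScalarTower.of_algebraMap_smul fun _ _ => rfl
  letI : Module R M₀ := Module.compHom M₀ (algebraMap R C)
  haveI : IsScalarTower R C M₀ := IsScalarTower.of_algebraMap_smul fun _ _ => rfl
  haveI : IsScalarTower R S₀ M₀ := IsScalarTower.of_algebraMap_smul fun a x => by
    show algebraMap S₀ C (algebraMap R S₀ a) • x = algebraMap R C a • x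
    rw [← IsScalarTower.algebraMap_apply]
  letI : Module S₀ M := Module.compHom M (algebraMap S₀ S)
  haveI : IsScalarTower S₀ S M := IsScalarTower.of_algebraMap_smul fun _ _ => rfl
  haveI : IsScalarTower S₀ C M := IsScalarTower.of_algebraMap_smul fun a x => by
    show algebraMap C S' (algebraMap S₀ C a) • x = algebraMap S₀ S a • x
    rw [hcomp]
    exact algebraMap_smul S' (algebraMap S₀ S a) x
  haveI : IsScalarTower R C M := IsScalarTower.of_algebraMap_smul fun a x => by
    show algebraMap C S' (algebraMap R C a) • x = a • x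
    rw [← IsScalarTower.algebraMap_apply, algebraMap_smul]
  haveI : IsScalarTower R S₀ M := IsScalarTower.of_algebraMap_smul fun a x => by
    show algebraMap S₀ S (algebraMap R S₀ a) • x = a • x
    rw [← IsScalarTower.algebraMap_apply, algebraMap_smul]
  let iso := IsLocalizedModule.iso Q.primeCompl g
  have hflatR : FlatCA.FlatAt R Q M₀ := Module.Flat.of_linearEquiv (iso.restrictScalars R)
  -- the fibre condition over `S₀`
  let I := (Q.comap (algebraMap R C)).map (algebraMap R S₀)
  let J := (IsLocalRing.maximalIdeal R).map (algebraMap R S)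
  have hIJ : I.map (algebraMap S₀ S) = J := by
    rw [Ideal.map_map, ← IsScalarTower.algebraMap_eq, hp]
  letI : Algebra (S₀ ⧸ I) (S ⧸ J) := RingHom.toAlgebra (R := S₀ ⧸ I) (S := S ⧸ J)
    (Ideal.quotientMap J (algebraMap S₀ S) (Ideal.map_le_iff_le_comap.1 hIJ.le))
  haveI : IsScalarTower S₀ (S₀ ⧸ I) (S ⧸ J) :=
    IsScalarTower.of_algebraMap_eq (R := S₀) (S := S₀ ⧸ I) (A := S ⧸ J) fun _ => rfl
  haveI : Module.Flat (S₀ ⧸ I) (S ⧸ J) := by
    haveI : IsLocalization (Algebra.algebraMapSubmonoid (S₀ ⧸ I) q.primeCompl) (S ⧸ J) := by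
      have := IsLocalization.of_surjective (M := q.primeCompl) (S := S) (R' := S₀ ⧸ I) (S' := S ⧸ J)
        (Ideal.Quotient.mk I) Ideal.Quotient.mk_surjective (Ideal.Quotient.mk J)
        Ideal.Quotient.mk_surjective rfl (by rw [Ideal.mk_ker, Ideal.mk_ker, hIJ])
      exact this
    exact IsLocalization.flat _ (Algebra.algebraMapSubmonoid (S₀ ⧸ I) q.primeCompl)
  letI : Module (S₀ ⧸ I) (M ⧸ J • (⊤ : Submodule S M)) :=
    Module.compHom _ (algebraMap (S₀ ⧸ I) (S ⧸ J))
  haveI : IsScalarTower (S₀ ⧸ I) (S ⧸ J) (M ⧸ J • (⊤ : Submodule S M)) :=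
    IsScalarTower.of_algebraMap_smul fun _ _ => rfl
  haveI := hfib
  haveI hflatI : Module.Flat (S₀ ⧸ I) (M ⧸ J • (⊤ : Submodule S M)) :=
    Module.Flat.trans (S₀ ⧸ I) (S ⧸ J) _
  have hsub : (I • ⊤ : Submodule S₀ M) = (J • (⊤ : Submodule S M)).restrictScalars S₀ := by
    rw [← hIJ, Ideal.smul_restrictScalars, Submodule.restrictScalars_top]
  let e : (S₀ ⧸ I) ⊗[S₀] LocalizedModule Q.primeCompl M₀ ≃ₗ[S₀] M ⧸ J • (⊤ : Submodule S M) :=
    (TensorProduct.congr (LinearEquiv.refl S₀ (S₀ ⧸ I)) (iso.restrictScalars S₀)).trans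
      ((TensorProduct.quotTensorEquivQuotSMul M I).trans
        ((Submodule.quotEquivOfEq _ _ hsub).trans
          (Submodule.Quotient.restrictScalarsEquiv S₀ (J • (⊤ : Submodule S M)))))
  haveI : IsScalarTower S₀ (S₀ ⧸ I) (M ⧸ J • (⊤ : Submodule S M)) :=
    IsScalarTower.of_algebraMap_smul fun a x => by
      show (algebraMap (S₀ ⧸ I) (S ⧸ J) (algebraMap S₀ (S₀ ⧸ I) a)) • x = a • x
      rw [← IsScalarTower.algebraMap_apply, IsScalarTower.algebraMap_apply S₀ S (S ⧸ J),
        algebraMap_smul, algebraMap_smul]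
  have hfib₀ : Module.Flat (S₀ ⧸ I) ((S₀ ⧸ I) ⊗[S₀] LocalizedModule Q.primeCompl M₀) :=
    flat_of_linearEquiv_of_surjective (D := S₀ ⧸ I) Ideal.Quotient.mk_surjective e.symm
  have hB := fibre_flat_criterion R S₀ C M₀ Q hflatR I rfl hfib₀
  haveI : Module.Flat S₀ (LocalizedModule Q.primeCompl M₀) := hB
  haveI : Module.Flat S₀ M := Module.Flat.of_linearEquiv (iso.restrictScalars S₀).symm
  have hMS : Module.Flat S M := (Module.flat_iff_of_isLocalization S q.primeCompl M).mpr inferInstance
  haveI := hMS
  haveI : Module.FaithfullyFlat S M := LocFlat.faithfullyFlat_of_local (S' := S') M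
  exact ⟨LocFlat.flat_of_faithfullyFlat_tower (S := S) M, hMS⟩

end Groth.Agent.FlatOpen
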