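import Groth.Agent.FlatOpen.Slice
import Groth.Agent.FlatOpen.SchemeMap

/-!
# Slicing a scheme by a fibrewise nonzerodivisor
-/

set_option autoImplicit false
set_option linter.style.haveILetI false

universe u

open CategoryTheory Limits AlgebraicGeometry TopologicalSpace Opposite
open Groth.Agent.AssSch.Stalk

namespace Groth.Agent.FlatOpen.Scheme

/-- EGA IV 11.3.8 for one element. -/
theorem exists_slice {X S : Scheme.{u}} (f : X ⟶ S) [LocallyOfFinitePresentation f] (x : X)
    (hflat : (f.stalkMap x).hom.Flat) (h : X.presheaf.stalk x)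
    (hreg : ∀ m : X.presheaf.stalk x,
      h * m ∈ Ideal.map (f.stalkMap x).hom (IsLocalRing.maximalIdeal (S.presheaf.stalk (f x))) →
        m ∈ Ideal.map (f.stalkMap x).hom (IsLocalRing.maximalIdeal (S.presheaf.stalk (f x)))) :
    ∃ (U : X.Opens) (hU : IsAffineOpen U) (hx : x ∈ U) (h' : Γ(X, U)),
      X.presheaf.germ U x hx h' = h ∧ h' ∈ nonZeroDivisors Γ(X, U) ∧
      Flat (Spec.map (CommRingCat.ofHom (Ideal.Quotient.mk (Ideal.span {h'}))) ≫ hU.fromSpec ≫ f) ∧
      LocallyOfFinitePresentation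
        (Spec.map (CommRingCat.ofHom (Ideal.Quotient.mk (Ideal.span {h'}))) ≫ hU.fromSpec ≫ f) := by
  obtain ⟨W, hxW, s, hs⟩ := X.presheaf.exists_germ_eq (x := x) h
  obtain ⟨_, ⟨V, hV, rfl⟩, hxV, -⟩ := S.isBasis_affineOpens.exists_subset_of_mem_open
    (Set.mem_univ (f x)) isOpen_univ
  obtain ⟨_, ⟨U, hU, rfl⟩, hx, hUW⟩ := X.isBasis_affineOpens.exists_subset_of_mem_open
    (show x ∈ W ⊓ f ⁻¹ᵁ V from ⟨hxW, hxV⟩) (W ⊓ f ⁻¹ᵁ V).isOpen
  replace hUW : U ≤ W ⊓ f ⁻¹ᵁ V := hUW
  replace hU : IsAffineOpen U := hU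
  replace hV : IsAffineOpen V := hV
  have e : U ≤ f ⁻¹ᵁ V := hUW.trans inf_le_right
  let h₀ : Γ(X, U) := X.presheaf.map (homOfLE (hUW.trans inf_le_left)).op s
  have hh₀ : X.presheaf.germ U x hx h₀ = h := by
    rw [← hs]; exact X.presheaf.germ_res_apply _ x hx s
  letI := (f.appLE V U e).hom.toAlgebra
  haveI : Algebra.FinitePresentation Γ(S, V) Γ(X, U) := f.finitePresentation_appLE hV hU e
  letI : Algebra Γ(X, U) (X.presheaf.stalk x) := (X.presheaf.germ U x hx).hom.toAlgebra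
  let Q := primeOf hU x hx
  haveI : IsLocalization.AtPrime (X.presheaf.stalk x) Q := hU.isLocalization_stalk ⟨x, hx⟩
  let I := (Q.comap (algebraMap Γ(S, V) Γ(X, U))).map (algebraMap Γ(S, V) Γ(X, U))
  have hJ := maximalIdeal_map_stalkMap f hV hU e x hx
  rw [hJ] at hreg
  obtain ⟨g, hgQ, hg⟩ := FlatOpen.exists_slice Q ((stalkMap_flat_iff f hV hU e x hx).1 hflat) h₀
    fun m hm => by
      have h1 := hreg (X.presheaf.germ U x hx m) (by
        rw [← hh₀, ← map_mul]
        exact Ideal.mem_map_of_mem _ hm)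
      obtain ⟨t, ht, htm⟩ :=
        (IsLocalization.algebraMap_mem_map_algebraMap_iff Q.primeCompl (X.presheaf.stalk x) I m).1 h1
      exact ⟨t, ht, htm⟩
  have hxg : x ∈ X.basicOpen g := (mem_basicOpen_iff hU x hx g).2 hgQ
  letI : Algebra Γ(X, U) Γ(X, X.basicOpen g) :=
    (X.presheaf.map (homOfLE (X.basicOpen_le g)).op).hom.toAlgebra
  haveI : IsLocalization.Away g Γ(X, X.basicOpen g) := hU.isLocalization_basicOpen g
  have e' : X.basicOpen g ≤ f ⁻¹ᵁ V := (X.basicOpen_le g).trans e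
  letI := (f.appLE V (X.basicOpen g) e').hom.toAlgebra
  haveI : IsScalarTower Γ(S, V) Γ(X, U) Γ(X, X.basicOpen g) := IsScalarTower.of_algebraMap_eq' (by
    show (f.appLE V (X.basicOpen g) e').hom = (X.presheaf.map _).hom.comp (f.appLE V U e).hom
    rw [← CommRingCat.hom_comp, Scheme.Hom.appLE_map])
  obtain ⟨hnzd, hflat'⟩ := hg Γ(X, X.basicOpen g)
  let h' := algebraMap Γ(X, U) Γ(X, X.basicOpen g) h₀
  have hfac : Spec.map (CommRingCat.ofHom (Ideal.Quotient.mk (Ideal.span {h'}))) ≫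
      (hU.basicOpen g).fromSpec ≫ f =
      Spec.map (f.appLE V (X.basicOpen g) e' ≫
        CommRingCat.ofHom (Ideal.Quotient.mk (Ideal.span {h'}))) ≫ hV.fromSpec := by
    rw [Spec.map_comp, Category.assoc, IsAffineOpen.SpecMap_appLE_fromSpec]
  refine ⟨X.basicOpen g, hU.basicOpen g, hxg, h', ?_, hnzd, ?_, ?_⟩
  · rw [← hh₀]
    exact X.presheaf.germ_res_apply _ x hxg h₀
  · rw [hfac]
    haveI : Flat (Spec.map (f.appLE V (X.basicOpen g) e' ≫
        CommRingCat.ofHom (Ideal.Quotient.mk (Ideal.span {h'})))) := by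
      rw [HasRingHomProperty.Spec_iff (P := @Flat)]
      exact hflat'
    infer_instance
  · rw [hfac]
    haveI : LocallyOfFinitePresentation (Spec.map (f.appLE V (X.basicOpen g) e' ≫
        CommRingCat.ofHom (Ideal.Quotient.mk (Ideal.span {h'})))) := by
      rw [HasRingHomProperty.Spec_iff (P := @LocallyOfFinitePresentation)]
      refine RingHom.FinitePresentation.comp ?_ (f.finitePresentation_appLE hV (hU.basicOpen g) e')
      exact RingHom.FinitePresentation.of_surjective _ Ideal.Quotient.mk_surjective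
        (by show (RingHom.ker (Ideal.Quotient.mk (Ideal.span {h'}))).FG
            rw [Ideal.mk_ker]; exact Submodule.fg_span_singleton h')
    infer_instance

end Groth.Agent.FlatOpen.Scheme
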