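import Groth.Agent.FlatOpen.Main

/-!
# Openness of the flat locus: algebraic API

* `isOpen_flatLocus`: `S` fp over `R`, `M` fp over `S`: the primes where `M` is `R`-flat form an open set.
* `isOpen_flatLocus_base`: the same, seen in an intermediate algebra `B → C`.
-/

set_option autoImplicit false
set_option linter.style.haveILetI false

universe u

open TensorProduct Function

namespace Groth.Agent.FlatOpen

/-- A localization of a `C`-module at the image of `T ⊆ B` is a localization at `T`. -/
theorem isLocalizedModule_restrict {B C : Type u} [CommRing B] [CommRing C] [Algebra B C]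
    (T : Submonoid B) (T' : Submonoid C) (hT : T' = Algebra.algebraMapSubmonoid C T)
    {M M' : Type u} [AddCommGroup M] [Module C M] [Module B M] [IsScalarTower B C M]
    [AddCommGroup M'] [Module C M'] [Module B M'] [IsScalarTower B C M']
    (g : M →ₗ[C] M') [IsLocalizedModule T' g] : IsLocalizedModule T (g.restrictScalars B) := by
  subst hT
  refine ⟨fun t => ?_, fun y => ?_, fun {x₁ x₂} h => ?_⟩
  · have h1 := (Module.End.isUnit_iff _).1 (IsLocalizedModule.map_units g
      (⟨algebraMap B C t, t, t.2, rfl⟩ : Algebra.algebraMapSubmonoid C T))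
    rw [Module.End.isUnit_iff]
    convert h1 using 1
    funext m
    simp [Module.algebraMap_end_apply, algebraMap_smul]
  · obtain ⟨⟨m, ⟨-, s, hs, rfl⟩⟩, hm⟩ :=
      IsLocalizedModule.surj (Algebra.algebraMapSubmonoid C T) g y
    exact ⟨⟨m, ⟨s, hs⟩⟩, by simpa [Submonoid.smul_def] using hm⟩
  · obtain ⟨⟨-, s, hs, rfl⟩, hc⟩ :=
      IsLocalizedModule.exists_of_eq (S := Algebra.algebraMapSubmonoid C T) (f := g) h
    exact ⟨⟨s, hs⟩, by simpa [Submonoid.smul_def] using hc⟩

/-- Openness of the flat locus (EGA IV 11.3.1). -/
theorem isOpen_flatLocus (R S M : Type u) [CommRing R] [CommRing S] [Algebra R S]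
    [Algebra.FinitePresentation R S] [AddCommGroup M] [Module S M] [Module R M]
    [IsScalarTower R S M] [Module.FinitePresentation S M] :
    IsOpen {q : PrimeSpectrum S | FlatCA.FlatAt R q.asIdeal M} := by
  classical
  obtain ⟨n, π, hπ, hker⟩ := (inferInstance : Algebra.FinitePresentation R S).out
  let P := MvPolynomial (Fin n) R
  letI : Algebra P S := π.toRingHom.toAlgebra
  haveI : IsScalarTower R P S := IsScalarTower.of_algebraMap_eq fun a => (π.commutes a).symm
  letI : Module P M := Module.compHom M π.toRingHom
  haveI : IsScalarTower P S M := IsScalarTower.of_algebraMap_smul fun _ _ => rfl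
  haveI : IsScalarTower R P M := IsScalarTower.of_algebraMap_smul fun a m => by
    show π (algebraMap R P a) • m = a • m
    rw [π.commutes, algebraMap_smul]
  haveI : Module.FinitePresentation P S :=
    Module.finitePresentation_of_surjective (Algebra.linearMap P S) hπ (by
      rw [show LinearMap.ker (Algebra.linearMap P S) = RingHom.ker π.toRingHom from by ext x; rfl]
      exact hker)
  haveI : Module.FinitePresentation P M := Module.FinitePresentation.trans P M S
  obtain ⟨r, L, e, G, hG⟩ := Module.FinitePresentation.exists_fin P M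
  let c : Finset R := G.biUnion fun v => Finset.univ.biUnion fun i => (v i).coeffs
  let R₀ := Algebra.adjoin ℤ (c : Set R)
  haveI : IsNoetherianRing R₀ := isNoetherianRing_of_fg ⟨c, rfl⟩
  have hlift : ∀ v ∈ G, ∃ v₀ : Vec n r R₀, mapVec R v₀ = v := by
    intro v hv
    have : ∀ i, ∃ w : MvPolynomial (Fin n) R₀, MvPolynomial.map (algebraMap R₀ R) w = v i :=
      fun i => MvPolynomial.mem_range_map_iff_coeffs_subset.2 fun x hx =>
        ⟨⟨x, Algebra.subset_adjoin (Finset.mem_biUnion.2
          ⟨v, hv, Finset.mem_biUnion.2 ⟨i, Finset.mem_univ i, hx⟩⟩)⟩, rfl⟩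
    choose w hw using this
    exact ⟨w, funext hw⟩
  choose! v₀ hv₀ using hlift
  let Z₀ : Submodule (MvPolynomial (Fin n) R₀) (Vec n r R₀) :=
    Submodule.span _ (v₀ '' (G : Set (Vec n r R)))
  have hZ : ext R Z₀ = L := by
    rw [ext_span, Set.image_image, ← hG]
    exact congrArg _ ((Set.image_congr hv₀).trans (Set.image_id' _))
  let E : Quot R Z₀ ≃ₗ[P] M := (Submodule.quotEquivOfEq _ _ hZ).trans e.symm
  have key : {q : PrimeSpectrum S | FlatCA.FlatAt R q.asIdeal M} =
      PrimeSpectrum.comap (algebraMap P S) ⁻¹' flatSet Z₀ R := by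
    ext Q
    let q := (PrimeSpectrum.comap (algebraMap P S) Q).asIdeal
    let T := q.primeCompl
    have hT : Q.asIdeal.primeCompl = Algebra.algebraMapSubmonoid S T := by
      ext x
      constructor
      · intro hx
        obtain ⟨y, rfl⟩ := hπ x
        exact ⟨y, hx, rfl⟩
      · rintro ⟨y, hy, rfl⟩
        exact hy
    haveI := isLocalizedModule_restrict T Q.asIdeal.primeCompl hT
      (LocalizedModule.mkLinearMap Q.asIdeal.primeCompl M)
    let g : Quot R Z₀ →ₗ[P] LocalizedModule Q.asIdeal.primeCompl M :=
      (LocalizedModule.mkLinearMap Q.asIdeal.primeCompl M).restrictScalars P ∘ₗ E.toLinearMap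
    haveI : IsLocalizedModule T g := inferInstance
    let I := (IsLocalizedModule.iso T g).restrictScalars R
    constructor
    · intro h
      haveI : Module.Flat R (LocalizedModule Q.asIdeal.primeCompl M) := h
      exact Module.Flat.of_linearEquiv I
    · intro h
      haveI : Module.Flat R (LocalizedModule T (Quot R Z₀)) := h
      exact Module.Flat.of_linearEquiv I.symm
  rw [key]
  exact (isOpen_flatSet Z₀ R).preimage (PrimeSpectrum.continuous_comap _)

/-- Openness of the flat locus in an intermediate algebra. -/
theorem isOpen_flatLocus_base {A B C : Type u} [CommRing A] [CommRing B] [CommRing C]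
    [Algebra A B] [Algebra B C] [Algebra A C] [IsScalarTower A B C] [Algebra.FinitePresentation A C]
    (M : Type u) [AddCommGroup M] [Module C M] [Module B M] [Module A M] [IsScalarTower B C M]
    [IsScalarTower A C M] [IsScalarTower A B M] [Module.FinitePresentation C M] :
    IsOpen {q : PrimeSpectrum B | Module.Flat A (LocalizedModule q.asIdeal.primeCompl M)} := by
  classical
  obtain ⟨J, hJ⟩ := (PrimeSpectrum.isClosed_iff_zeroLocus_ideal _).1
    (isOpen_flatLocus A C M).isClosed_compl
  have hJmem : ∀ Q : PrimeSpectrum C, ¬ FlatCA.FlatAt A Q.asIdeal M ↔ J ≤ Q.asIdeal := fun Q =>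
    Set.ext_iff.1 hJ Q
  let K := RingHom.ker ((Ideal.Quotient.mk J).comp (algebraMap B C))
  have key : {q : PrimeSpectrum B | Module.Flat A (LocalizedModule q.asIdeal.primeCompl M)} =
      (PrimeSpectrum.zeroLocus (K : Set B))ᶜ := by
    ext q
    let T := Algebra.algebraMapSubmonoid C q.asIdeal.primeCompl
    haveI := isLocalizedModule_restrict q.asIdeal.primeCompl T rfl (LocalizedModule.mkLinearMap T M)
    let I := (IsLocalizedModule.iso q.asIdeal.primeCompl
      ((LocalizedModule.mkLinearMap T M).restrictScalars B)).restrictScalars A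
    simp only [Set.mem_ofPred_eq, Set.mem_compl_iff, PrimeSpectrum.mem_zeroLocus, SetLike.coe_subset_coe]
    constructor
    · intro hflat hK
      -- a prime of `C` over a prime below `q`, outside the flat locus
      have : ∃ Q : PrimeSpectrum C, J ≤ Q.asIdeal ∧ Disjoint (Q.asIdeal : Set C) (T : Set C) := by
        obtain ⟨Q, hQp, hJQ, hQ⟩ := Ideal.exists_le_prime_disjoint J T (by
          rw [Set.disjoint_left]
          rintro x hx ⟨b, hb, rfl⟩
          exact hb (hK (Ideal.Quotient.eq_zero_iff_mem.2 hx)))
        exact ⟨⟨Q, hQp⟩, hJQ, hQ⟩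
      obtain ⟨Q, hJQ, hQT⟩ := this
      refine (hJmem Q).2 hJQ ?_
      haveI : Module.Flat A (LocalizedModule T M) := Module.Flat.of_linearEquiv I.symm
      let P := Localization.AtPrime Q.asIdeal
      haveI : Module.Flat C P := IsLocalization.flat P Q.asIdeal.primeCompl
      haveI := FlatMor.FlatAtBC.flat_tensor A C P (LocalizedModule T M)
      have hu : ∀ t : T, IsUnit (algebraMap C P t) := fun t =>
        IsLocalization.map_units P
          (⟨t, fun ht => Set.disjoint_left.1 hQT ht t.2⟩ : Q.asIdeal.primeCompl)
      exact Module.Flat.of_linearEquiv (((LocalizedModule.equivTensorProduct Q.asIdeal.primeCompl M) ≪≫ₗ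
        FlatMor.FlatAtBC.tensorLocalizedEquiv T P hu M).restrictScalars A)
    · intro hK
      obtain ⟨b, hbK, hbq⟩ := SetLike.not_le_iff_exists.1 hK
      have hbJ : algebraMap B C b ∈ J := Ideal.Quotient.eq_zero_iff_mem.1 hbK
      suffices Module.Flat A (LocalizedModule T M) from Module.Flat.of_linearEquiv I
      rw [Module.Flat.iff_lTensor_preserves_injective_linearMap]
      intro X Y _ _ _ _ a ha
      refine lTensor_localized_injective T a fun x hx => ?_
      have hrad : algebraMap B C b ∈ (Submodule.span C {x}).annihilator.radical := by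
        rw [Ideal.radical_eq_sInf, Ideal.mem_sInf]
        rintro (P : Ideal C) ⟨hle, hPprime⟩
        haveI : P.IsPrime := hPprime
        by_contra hbP
        have hflat : FlatCA.FlatAt A P M := by
          by_contra hn
          exact hbP ((hJmem ⟨P, hPprime⟩).1 hn hbJ)
        haveI : Module.Flat A (LocalizedModule P.primeCompl M) := hflat
        let mk := LocalizedModule.mkLinearMap P.primeCompl M
        let mX := AlgebraTensorModule.rTensor A X mk
        have hcomm : a.lTensor (LocalizedModule P.primeCompl M) (mX x) =
            AlgebraTensorModule.rTensor A Y mk (a.lTensor M x) := by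
          clear hx hle
          induction x with
          | zero => simp only [map_zero]
          | tmul m z => simp [mX]
          | add u v hu hv => simp only [map_add, hu, hv]
        have h0 : mX x = 0 := Module.Flat.lTensor_preserves_injective_linearMap
          (M := LocalizedModule P.primeCompl M) a ha (by rw [hcomm, hx, map_zero, map_zero])
        haveI : IsLocalizedModule P.primeCompl mX := inferInstance
        obtain ⟨t, ht⟩ := (IsLocalizedModule.eq_zero_iff P.primeCompl mX).1 h0
        exact t.2 (hle ((Submodule.mem_annihilator_span_singleton _ _).2 ht))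
      obtain ⟨N, hN⟩ := hrad
      exact ⟨⟨algebraMap B C b ^ N, b ^ N,
        fun h => hbq (q.isPrime.mem_of_pow_mem N h), map_pow _ _ _⟩,
        (Submodule.mem_annihilator_span_singleton _ _).1 hN⟩
  rw [key]
  exact (PrimeSpectrum.isClosed_zeroLocus _).isOpen_compl

end Groth.Agent.FlatOpen
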