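import Groth.Agent.FlatOpen.FibreGeneric
import Groth.Agent.CycLib.FieldDelta
import Groth.Agent.CycLib.FibreDim
import Groth.Agent.Dim.LocalHom
import Groth.Agent.FlatMor.FibreStalk
import Groth.Prelude.Def_Flat

/-!
# Flat morphisms and dimensions of irreducible components

* `irreducibleComponents_dim_iff`: dimensions of components via points with no proper generization.
* `hasRelDim_iff_trdeg`: equidimensional fibres via residue transcendence degrees.
* `dimPt_iff_hasRelDim`: for a flat map to an equidimensional base, components of dimension `d + n`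
  iff fibres equidimensional of dimension `n`.
* `fibreDimAt_eq_of_hasRelDim`, `fibreDimAt_eq_trdeg`.
-/

set_option autoImplicit false
set_option linter.style.haveILetI false
set_option linter.unusedSectionVars false

universe u

open CategoryTheory Limits AlgebraicGeometry IsLocalRing Groth.Agent.VarDim

namespace Groth.Agent.FlatOpen.EquiDim

attribute [local instance] Curv2.resAlgebra

/-- `x` has no proper generization. -/
def Max {X : Scheme.{u}} (x : X) : Prop := ∀ z : X, z ⤳ x → z = x

/-- `x` has no proper generization in its fibre. -/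
def FMax {X Y : Scheme.{u}} (f : X ⟶ Y) (x : X) : Prop := ∀ z : X, z ⤳ x → f z = f x → z = x

theorem exists_max {X : Scheme.{u}} (x : X) : ∃ η : X, η ⤳ x ∧ Max η := by
  have hgp : IsGenericPoint (isIrreducible_irreducibleComponent (x := x)).genericPoint
      (irreducibleComponent x) := by
    simpa [isClosed_irreducibleComponent.closure_eq] using
      (isIrreducible_irreducibleComponent (x := x)).isGenericPoint_genericPoint_closure
  exact ⟨_, hgp.specializes mem_irreducibleComponent, fun z hz =>
    FibreGeneric.eq_of_isGenericPoint_component (irreducibleComponent_mem_irreducibleComponents x) hgp hz⟩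

theorem closure_mem_irreducibleComponents {X : Scheme.{u}} {x : X} (hx : Max x) :
    closure ({x} : Set X) ∈ irreducibleComponents X := by
  refine ⟨isIrreducible_singleton.closure, fun T hT hle => ?_⟩
  have hsp : hT.genericPoint ⤳ x := hT.isGenericPoint_genericPoint_closure.specializes
    (subset_closure (hle (subset_closure rfl)))
  have := hx _ hsp
  exact (subset_closure (s := T)).trans
    (le_of_eq (by rw [← hT.genericPoint_closure_eq, this]))

theorem exists_max_closure_eq {X : Scheme.{u}} {Z : Set X} (hZ : Z ∈ irreducibleComponents X) :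
    ∃ x : X, Max x ∧ closure ({x} : Set X) = Z := by
  have hgp : IsGenericPoint hZ.1.genericPoint Z := by
    simpa [(isClosed_of_mem_irreducibleComponents Z hZ).closure_eq] using
      hZ.1.isGenericPoint_genericPoint_closure
  exact ⟨_, fun z hz => FibreGeneric.eq_of_isGenericPoint_component hZ hgp hz, hgp.def⟩

/-- Dimensions of components, by heights of maximal points. -/
theorem irreducibleComponents_dim_iff (X : Scheme.{u}) (c : WithBot ℕ∞) :
    (∀ Z ∈ irreducibleComponents X, topologicalKrullDim Z = c) ↔
      ∀ x : X, Max x → (Order.height x : WithBot ℕ∞) = c := by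
  constructor
  · intro h x hx
    rw [← CycLib.topologicalKrullDim_closure]
    exact h _ (closure_mem_irreducibleComponents hx)
  · intro h Z hZ
    obtain ⟨x, hx, rfl⟩ := exists_max_closure_eq hZ
    rw [CycLib.topologicalKrullDim_closure]
    exact h x hx

theorem fMax_fiberι_iff {X Y : Scheme.{u}} (f : X ⟶ Y) (y : Y) (z : f.fiber y) :
    Max z ↔ FMax f (f.fiberι y z) := by
  have hy : ∀ w : f.fiber y, f (f.fiberι y w) = y := fun w =>
    (f.range_fiberι y).le (Set.mem_range_self w)
  constructor
  · intro h w hw hfw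
    obtain ⟨w, rfl⟩ := (f.range_fiberι y).ge (show w ∈ f ⁻¹' {y} from hfw.trans (hy z))
    rw [h w ((f.fiberι y).isEmbedding.specializes_iff.1 hw)]
  · intro h w hw
    exact (f.fiberι y).isEmbedding.injective (h _ (hw.map (f.fiberι y).continuous) ((hy w).trans (hy z).symm))

section Field

variable (k : Type u) [Field k] {X : Scheme.{u}} [X.Over (Spec (CommRingCat.of k))]
  [LocallyOfFiniteType (X ↘ Spec (CommRingCat.of k))]

theorem irreducibleComponents_dimPt_iff (c : ℕ) :
    (∀ Z ∈ irreducibleComponents X, topologicalKrullDim Z = (c : WithBot ℕ∞)) ↔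
      ∀ x : X, Max x → dimPt k X x = c := by
  rw [irreducibleComponents_dim_iff]
  refine forall₂_congr fun x _ => ?_
  rw [height_eq_dimPt k x]
  exact ⟨fun h => by exact_mod_cast h, fun h => by exact_mod_cast h⟩

/-- If all components have dimension `c`, then so has every local dimension. -/
theorem coheight_add_dimPt {c : ℕ} (h : ∀ η : X, Max η → dimPt k X η = c) (x : X) :
    ∃ n : ℕ, Order.coheight x = n ∧ n + dimPt k X x = c ∧ FlatMor.localDim X x = c := by
  obtain ⟨n, hn, hld⟩ := localDim_eq_coheight_add k x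
  obtain ⟨η, hle, hub, heq⟩ := exists_localDim_eq k x
  have hη : dimPt k X η = c := by
    refine le_antisymm ?_ ?_
    · obtain ⟨μ, hμ, hmax⟩ := exists_max η
      rw [← h μ hmax]
      exact (exists_ltSeries_of_le k (show η ≤ μ from hμ)).1
    · obtain ⟨μ, hμ, hmax⟩ := exists_max x
      rw [← h μ hmax]
      exact hub μ hμ
  have he : n + dimPt k X x = c := by
    rw [heq, hη] at hld
    exact_mod_cast hld.symm
  exact ⟨n, hn, he, by rw [hld, he]⟩

theorem localDim_of_max {x : X} (hx : Max x) : FlatMor.localDim X x = dimPt k X x := by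
  obtain ⟨η, hle, -, heq⟩ := exists_localDim_eq k x
  rw [heq, hx η hle]

end Field

section Rel

variable {X Y : Scheme.{u}} (f : X ⟶ Y) [LocallyOfFiniteType f]

theorem exists_trdeg_fibre (x : X) :
    ∃ (z : f.fiber (f x)), f.fiberι (f x) z = x ∧
      (letI := f.fiberOverSpecResidueField (f x)
       (letI := (f.residueFieldMap x).hom.toAlgebra
        Algebra.trdeg (Y.residueField (f x)) (X.residueField x)) =
        (dimPt (Y.residueField (f x)) (f.fiber (f x)) z : Cardinal.{u})) := by
  obtain ⟨y, hy⟩ : ∃ y, y = f x := ⟨_, rfl⟩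
  obtain ⟨z, hz⟩ : ∃ z : f.fiber y, f.fiberι y z = x := by
    subst hy; exact ⟨f.asFiber x, f.fiberι_asFiber x⟩
  subst hz
  obtain ⟨w, hw⟩ : ∃ w : f.fiber (f (f.fiberι y z)), f.fiberι _ w = f.fiberι y z :=
    ⟨_, f.fiberι_asFiber _⟩
  refine ⟨w, hw, ?_⟩
  have key : ∀ (x : X) (y : Y) (z : f.fiber y), f.fiberι y z = x →
      (letI := f.fiberOverSpecResidueField y
       (letI := (f.residueFieldMap x).hom.toAlgebra
        Algebra.trdeg (Y.residueField (f x)) (X.residueField x)) =
        (dimPt (Y.residueField y) (f.fiber y) z : Cardinal.{u})) := by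
    rintro x y z rfl
    exact CycLib.trdeg_fibre f y z
  exact key _ _ w hw

/-- Equidimensional fibres, by residue transcendence degrees. -/
theorem hasRelDim_iff_trdeg (n : ℕ) :
    Cyc.HasRelDim f n ↔ ∀ x : X, FMax f x →
      (letI := (f.residueFieldMap x).hom.toAlgebra
       Algebra.trdeg (Y.residueField (f x)) (X.residueField x)) = n := by
  constructor
  · intro h x hx
    exact CycLib.trdeg_eq_of_hasRelDim f h x fun x' h1 h2 => hx x' h2 h1
  · intro h y
    letI := f.fiberOverSpecResidueField y
    haveI : LocallyOfFiniteType ((f.fiber y) ↘ Spec (CommRingCat.of (Y.residueField y))) :=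
      CycLib.locallyOfFiniteType_fiberToSpecResidueField f y
    refine (irreducibleComponents_dimPt_iff (Y.residueField y) n).2 fun z hz => ?_
    have h1 := CycLib.trdeg_fibre f y z
    rw [h _ ((fMax_fiberι_iff f y z).1 hz)] at h1
    exact_mod_cast h1.symm

theorem fibreDimAt_eq_of_hasRelDim {n : ℕ} (h : Cyc.HasRelDim f n) (x : X) :
    FlatMor.fibreDimAt f x = n := by
  letI := f.fiberOverSpecResidueField (f x)
  haveI : LocallyOfFiniteType ((f.fiber (f x)) ↘ Spec (CommRingCat.of (Y.residueField (f x)))) :=
    CycLib.locallyOfFiniteType_fiberToSpecResidueField f (f x)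
  obtain ⟨-, -, -, h1⟩ := coheight_add_dimPt (Y.residueField (f x))
    ((irreducibleComponents_dimPt_iff (Y.residueField (f x)) n).1 (h (f x))) (f.asFiber x)
  exact h1

/-- The fibre dimension at a maximal point of a fibre. -/
theorem fibreDimAt_eq_trdeg {x : X} (hx : FMax f x) {n : ℕ} (hn : FlatMor.fibreDimAt f x = n) :
    (letI := (f.residueFieldMap x).hom.toAlgebra
     Algebra.trdeg (Y.residueField (f x)) (X.residueField x)) = n := by
  letI := f.fiberOverSpecResidueField (f x)
  haveI : LocallyOfFiniteType ((f.fiber (f x)) ↘ Spec (CommRingCat.of (Y.residueField (f x)))) :=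
    CycLib.locallyOfFiniteType_fiberToSpecResidueField f (f x)
  obtain ⟨z, hz, htr⟩ := exists_trdeg_fibre f x
  have hza : z = f.asFiber x := (f.fiberι _).isEmbedding.injective (hz.trans (f.fiberι_asFiber x).symm)
  subst hza
  have hmax : Max (f.asFiber x) := (fMax_fiberι_iff f (f x) _).2 (by rwa [f.fiberι_asFiber])
  have h1 : FlatMor.fibreDimAt f x = dimPt (Y.residueField (f x)) (f.fiber (f x)) (f.asFiber x) :=
    localDim_of_max (Y.residueField (f x)) hmax
  rw [hn] at h1
  rw [htr]
  exact_mod_cast h1.symm

/-- At a maximal point of a fibre of a flat map, the local ring has the dimension of the base's. -/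
theorem coheight_eq [Flat f] [IsLocallyNoetherian X] [IsLocallyNoetherian Y] {x : X} (hx : FMax f x) :
    Order.coheight x = Order.coheight (f x) := by
  have hdim : ringKrullDim ((f.fiber (f x)).presheaf.stalk (f.asFiber x)) = 0 :=
    FibreGeneric.ringKrullDim_stalk_eq_zero _
      ((fMax_fiberι_iff f (f x) _).2 (by rwa [f.fiberι_asFiber]))
  obtain ⟨e⟩ := Groth.Agent.FlatMor.FibreStalk.exists_fibre_stalk_equiv f x
  letI := (f.stalkMap x).hom.toAlgebra
  haveI : IsLocalHom (algebraMap (Y.presheaf.stalk (f x)) (X.presheaf.stalk x)) :=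
    inferInstanceAs (IsLocalHom (f.stalkMap x).hom)
  haveI : Module.Flat (Y.presheaf.stalk (f x)) (X.presheaf.stalk x) := Flat.stalkMap f x
  have h1 := Dim.ringKrullDim_eq_add_fibre (Y.presheaf.stalk (f x)) (X.presheaf.stalk x)
  rw [ringKrullDim_stalk_eq_coheight, ringKrullDim_stalk_eq_coheight,
    show ringKrullDim (X.presheaf.stalk x ⧸
      (maximalIdeal (Y.presheaf.stalk (f x))).map (algebraMap (Y.presheaf.stalk (f x)) (X.presheaf.stalk x))) = 0
      from by rw [← hdim]; exact ringKrullDim_eq_of_ringEquiv e, add_zero] at h1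
  exact_mod_cast h1

theorem max_image [Flat f] {η : X} (hη : Max η) : Max (f η) := by
  intro z hz
  obtain ⟨w, hw, rfl⟩ := Flat.generalizingMap f hz
  rw [hη w hw]

end Rel

/-- Components of dimension `d + n` iff fibres equidimensional of dimension `n`. -/
theorem dimPt_iff_hasRelDim (k : Type u) [Field k] {X Y : Scheme.{u}}
    (qX : X ⟶ Spec (CommRingCat.of k)) (qY : Y ⟶ Spec (CommRingCat.of k))
    [LocallyOfFiniteType qX] [LocallyOfFiniteType qY] (f : X ⟶ Y) [Flat f] (hf : f ≫ qY = qX) (d n : ℕ)
    (hY : letI : Y.Over (Spec (CommRingCat.of k)) := ⟨qY⟩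
      ∀ y : Y, Max y → dimPt k Y y = d) :
    (letI : X.Over (Spec (CommRingCat.of k)) := ⟨qX⟩
      ∀ x : X, Max x → dimPt k X x = d + n) ↔ Cyc.HasRelDim f n := by
  letI : X.Over (Spec (CommRingCat.of k)) := ⟨qX⟩
  letI : Y.Over (Spec (CommRingCat.of k)) := ⟨qY⟩
  haveI : LocallyOfFiniteType (X ↘ Spec (CommRingCat.of k)) := ‹LocallyOfFiniteType qX›
  haveI : LocallyOfFiniteType (Y ↘ Spec (CommRingCat.of k)) := ‹LocallyOfFiniteType qY›
  haveI : LocallyOfFiniteType f := by
    haveI : LocallyOfFiniteType (f ≫ qY) := by rw [hf]; infer_instance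
    exact locallyOfFiniteType_of_comp f qY
  haveI : IsLocallyNoetherian X := LocallyOfFiniteType.isLocallyNoetherian qX
  haveI : IsLocallyNoetherian Y := LocallyOfFiniteType.isLocallyNoetherian qY
  have hδ : ∀ x, ∃ j : ℕ,
      (letI := (f.residueFieldMap x).hom.toAlgebra
       Algebra.trdeg (Y.residueField (f x)) (X.residueField x)) = j ∧
      dimPt k X x = dimPt k Y (f x) + j := fun x => by
    obtain ⟨j, hj, he⟩ := CycLib.deltaCompat_fdelta k f qX qY hf x
    refine ⟨j, hj, ?_⟩
    have he' : ((dimPt k X x : ℕ) : ℤ) = (dimPt k Y (f x) : ℕ) + (j : ℕ) := he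
    exact_mod_cast he'
  rw [hasRelDim_iff_trdeg]
  constructor
  · intro h x hx
    obtain ⟨j, hj, he⟩ := hδ x
    obtain ⟨a, ha, ha', -⟩ := coheight_add_dimPt k h x
    obtain ⟨b, hb, hb', -⟩ := coheight_add_dimPt k hY (f x)
    have hab := coheight_eq f hx
    rw [ha, hb] at hab
    have hab' : a = b := by exact_mod_cast hab
    rw [hj]
    congr 1
    omega
  · intro h x hx
    obtain ⟨j, hj, he⟩ := hδ x
    have hj' : j = n := by
      have := h x fun z hz _ => hx z hz
      rw [hj] at this
      exact_mod_cast this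
    rw [he, hY _ (max_image f hx), hj']

end Groth.Agent.FlatOpen.EquiDim
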