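import Groth.Agent.FlatOpen.Scheme
import Groth.Agent.FlatMisc.GenericFreeLoc
import Groth.Agent.QCoh.FiniteType

/-!
# Generic flatness of modules on schemes

* `flatAt_of_flat_localized`, `flatAt_of_freeAt`.
* `exists_open_flat`: generic flatness over an integral base for modules with finite sections.
-/

set_option autoImplicit false
set_option linter.style.haveILetI false

universe u

open CategoryTheory AlgebraicGeometry TopologicalSpace Opposite
open Groth.Agent.AssSch.Stalk
open scoped TensorProduct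

namespace Groth.Agent.FlatOpen.GenericFlat

/-- A localization of a flat localization is flat. -/
theorem flatAt_of_flat_localized {R S : Type u} [CommRing R] [CommRing S] [Algebra R S] {M : Type u}
    [AddCommGroup M] [Module S M] [Module R M] [IsScalarTower R S M] (T : Submonoid S)
    [Module.Flat R (LocalizedModule T M)] (q : Ideal S) [q.IsPrime] (hT : T ≤ q.primeCompl) :
    FlatCA.FlatAt R q M := by
  let P := Localization.AtPrime q
  haveI : Module.Flat S P := IsLocalization.flat P q.primeCompl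
  haveI := FlatMor.FlatAtBC.flat_tensor R S P (LocalizedModule T M)
  have hu : ∀ t : T, IsUnit (algebraMap S P t) := fun t =>
    IsLocalization.map_units P (⟨t, hT t.2⟩ : q.primeCompl)
  exact Module.Flat.of_linearEquiv (((LocalizedModule.equivTensorProduct q.primeCompl M) ≪≫ₗ
    FlatMor.FlatAtBC.tensorLocalizedEquiv T P hu M).restrictScalars R)

/-- Free after inverting `g` gives flatness on `D(g)`. -/
theorem flat_localized_of_freeAt {R S : Type u} [CommRing R] [CommRing S] [Algebra R S] {M : Type u}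
    [AddCommGroup M] [Module S M] [Module R M] [IsScalarTower R S M] {g : R}
    (h : FlatMisc.GenericFree.FreeAt g M) :
    Module.Flat R (LocalizedModule (Submonoid.powers (algebraMap R S g)) M) := by
  haveI : Module.Flat R (LocalizedModule (Submonoid.powers g) M) :=
    h.flat_of_isLocalizedModule (R' := Localization.Away g) (LocalizedModule.mkLinearMap _ M)
  haveI := isLocalizedModule_restrict (Submonoid.powers g) (Submonoid.powers (algebraMap R S g))
    (Algebra.algebraMapSubmonoid_powers g).symm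
    (LocalizedModule.mkLinearMap (Submonoid.powers (algebraMap R S g)) M)
  exact Module.Flat.of_linearEquiv (IsLocalizedModule.iso (Submonoid.powers g)
    ((LocalizedModule.mkLinearMap (Submonoid.powers (algebraMap R S g)) M).restrictScalars R)).symm

theorem flatAt_of_freeAt {R S : Type u} [CommRing R] [CommRing S] [Algebra R S] {M : Type u}
    [AddCommGroup M] [Module S M] [Module R M] [IsScalarTower R S M] {g : R}
    (h : FlatMisc.GenericFree.FreeAt g M) (q : Ideal S) [q.IsPrime] (hq : algebraMap R S g ∉ q) :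
    FlatCA.FlatAt R q M := by
  haveI := flat_localized_of_freeAt (S := S) h
  exact flatAt_of_flat_localized (Submonoid.powers (algebraMap R S g)) q
    (Submonoid.powers_le.2 hq)

variable {X Y : Scheme.{u}} (f : X ⟶ Y)

/-- Generic flatness over an integral base. -/
theorem exists_open_flat [IsIntegral Y] [LocallyOfFiniteType f] [QuasiCompact f] (F : X.Modules)
    [F.IsQuasicoherent]
    (hF : ∀ U : X.Opens, IsAffineOpen U → Module.Finite Γ(X, U) Γ(F, U)) :
    ∃ U : Y.Opens, (U : Set Y).Nonempty ∧ ∀ x : X, f.base x ∈ U → FlatMod.IsFlatOverAt f F x := by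
  classical
  obtain ⟨_, ⟨V, hV, rfl⟩, hyV, -⟩ := Y.isBasis_affineOpens.exists_subset_of_mem_open
    (Set.mem_univ (genericPoint Y)) isOpen_univ
  have : Nonempty V := ⟨⟨_, hyV⟩⟩
  have hpiece : ∀ x : X, x ∈ f ⁻¹ᵁ V → ∃ U : X.Opens, IsAffineOpen U ∧ U ≤ f ⁻¹ᵁ V ∧ x ∈ U := by
    intro x hx
    obtain ⟨_, ⟨U, hU, rfl⟩, hxU, hUV⟩ := X.isBasis_affineOpens.exists_subset_of_mem_open
      (show x ∈ f ⁻¹ᵁ V from hx) (f ⁻¹ᵁ V).isOpen
    exact ⟨U, hU, hUV, hxU⟩
  choose! W hW hWV hxW using hpiece
  obtain ⟨t, ht, hcov⟩ := (f.isCompact_preimage hV.isCompact).elim_nhds_subcover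
    (fun x => (W x : Set X)) fun x hx => (W x).isOpen.mem_nhds (hxW x hx)
  have hdom : IsDomain Γ(Y, V) := IsIntegral.component_integral V
  have hgen : ∀ x ∈ t, ∃ g : Γ(Y, V), g ≠ 0 ∧ ∀ g' : Γ(Y, V), g ∣ g' →
      ∀ (z : X) (_ : z ∈ W x), f.base z ∈ Y.basicOpen g' → FlatMod.IsFlatOverAt f F z := by
    intro x hx
    letI := (f.appLE V (W x) (hWV x (ht x hx))).hom.toAlgebra
    letI : Module Γ(Y, V) Γ(F, W x) := Module.compHom _ (f.appLE V (W x) (hWV x (ht x hx))).hom
    haveI : IsScalarTower Γ(Y, V) Γ(X, W x) Γ(F, W x) :=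
      IsScalarTower.of_algebraMap_smul fun _ _ => rfl
    haveI : Algebra.FiniteType Γ(Y, V) Γ(X, W x) :=
      f.finiteType_appLE hV (hW x (ht x hx)) (hWV x (ht x hx))
    haveI := hF _ (hW x (ht x hx))
    obtain ⟨g, -, hg0, hfree⟩ :=
      FlatMisc.GenericFree.genFree (R := Γ(Y, V)) Γ(X, W x) Γ(F, W x) 1 one_ne_zero
    refine ⟨g, hg0, fun g' hdvd z hz hzg => ?_⟩
    refine (FlatOpen.Scheme.isFlatOverAt_iff f hV (hW x (ht x hx)) (hWV x (ht x hx)) z hz F).2
      (flatAt_of_freeAt (hfree.of_dvd hdvd) _ ?_)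
    have : z ∈ X.basicOpen (f.appLE V (W x) (hWV x (ht x hx)) g') := by
      rw [Scheme.basicOpen_appLE]
      exact ⟨hz, hzg⟩
    exact (mem_basicOpen_iff (hW x (ht x hx)) z hz _).1 this
  choose! g hg0 hg using hgen
  have hG : ∏ x ∈ t, g x ≠ 0 := Finset.prod_ne_zero_iff.2 hg0
  refine ⟨Y.basicOpen (∏ x ∈ t, g x), ?_, fun z hz => ?_⟩
  · rw [Set.nonempty_iff_ne_empty, ne_eq, TopologicalSpace.Opens.coe_eq_empty]
    exact fun h => hG ((basicOpen_eq_bot_iff _).1 h)
  · obtain ⟨x, hxt, hzx⟩ := Set.mem_iUnion₂.1 (hcov (show z ∈ f ⁻¹ᵁ V from Y.basicOpen_le _ hz))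
    exact hg x hxt _ (Finset.dvd_prod_of_mem g hxt) z hzx hz

end Groth.Agent.FlatOpen.GenericFlat
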