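import Groth.Agent.FlatOpen.CMAffine
import Groth.Agent.FlatMisc.FibreDimScheme
import Groth.Agent.S1240
import Groth.Agent.GrpScheme.FlatFib.Scheme

/-!
# The Cohen–Macaulay locus on schemes

* `fibreDimAt_eq_localDim`: fibre dimension on a chart.
* `isOpen_isCMAt_fibreDim`: Cohen–Macaulay points of a given fibre dimension form an open set.
* `exists_flat_qf_affineSpace`: near a Cohen–Macaulay point of dimension `d`, a flat LQF map to
  affine `d`-space.
-/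

set_option autoImplicit false
set_option linter.style.haveILetI false

universe u

open CategoryTheory Limits AlgebraicGeometry Topology

namespace Groth.Agent.FlatOpen.CMLocus

variable {X Y : Scheme.{u}} (f : X ⟶ Y) {V : Y.Opens} (hV : IsAffineOpen V) {U : X.Opens}
  (hU : IsAffineOpen U) (e : U ≤ f ⁻¹ᵁ V) (x : X) (hx : x ∈ U)

include hV in
theorem fibreDimAt_eq_localDim :
    letI := (f.appLE V U e).hom.toAlgebra
    ∀ Q : PrimeSpectrum (((hU.primeIdealOf ⟨x, hx⟩).asIdeal.under Γ(Y, V)).Fiber Γ(X, U)),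
      Q.asIdeal.comap Algebra.TensorProduct.includeRight.toRingHom = (hU.primeIdealOf ⟨x, hx⟩).asIdeal →
        FlatMor.fibreDimAt f x = FlatMor.localDim _ Q := by
  letI := (f.appLE V U e).hom.toAlgebra
  intro Q hQ
  let R := Γ(Y, V)
  let C := Γ(X, U)
  let p : PrimeSpectrum R := PrimeSpectrum.comap (algebraMap R C) (hU.primeIdealOf ⟨x, hx⟩)
  have hcomm : ∀ P : PrimeSpectrum C, f (hU.fromSpec P) =
      hV.fromSpec (PrimeSpectrum.comap (algebraMap R C) P) := fun P =>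
    (congr($(IsAffineOpen.SpecMap_appLE_fromSpec f hV hU e) P)).symm
  have hfx : f x = hV.fromSpec p := by
    rw [← hcomm]
    exact congrArg f (hU.fromSpec_primeIdealOf ⟨x, hx⟩).symm
  let j : ↥(PrimeSpectrum.comap (algebraMap R C) ⁻¹' {p}) → ↥(f ⁻¹' {f x}) := fun P =>
    ⟨hU.fromSpec P.1, by
      show f (hU.fromSpec P.1) = f x
      rw [hcomm, hfx, P.2]⟩
  have hemb := hU.fromSpec.isOpenEmbedding
  have hj : IsOpenEmbedding j := by
    refine ⟨⟨IsInducing.of_comp ((hU.fromSpec.continuous.comp continuous_subtype_val).subtype_mk _)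
      continuous_subtype_val (hemb.isInducing.comp IsInducing.subtypeVal), fun a b hab =>
        Subtype.ext (hemb.injective (congrArg (fun w : ↥(f ⁻¹' {f x}) => w.1) hab))⟩, ?_⟩
    have : Set.range j = Subtype.val ⁻¹' (U : Set X) := by
      ext w
      refine ⟨fun ⟨a, ha⟩ => ha ▸ (hU.range_fromSpec.le ⟨a.1, rfl⟩), fun hw => ?_⟩
      obtain ⟨P, hP⟩ := hU.range_fromSpec.ge (show w.1 ∈ U from hw)
      refine ⟨⟨P, ?_⟩, Subtype.ext hP⟩
      show PrimeSpectrum.comap (algebraMap R C) P = p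
      apply hV.fromSpec.isOpenEmbedding.injective
      exact (hcomm P).symm.trans ((congrArg f hP).trans ((show f w.1 = f x from w.2).trans hfx))
    rw [this]
    exact U.2.preimage continuous_subtype_val
  let h := PrimeSpectrum.preimageHomeomorphFiber R C p
  have hsym : ((h.symm Q).1 : PrimeSpectrum C) = hU.primeIdealOf ⟨x, hx⟩ := PrimeSpectrum.ext hQ
  refine (Groth.Agent.FlatMisc.FibreDimScheme.fibreDimAt_eq f x).trans ((congrArg _ ?_).trans
    (Groth.Agent.S1240.localDim_openEmbedding (hj.comp h.symm.isOpenEmbedding) Q).symm)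
  apply Subtype.ext
  show x = hU.fromSpec (h.symm Q).1
  exact (hU.fromSpec_primeIdealOf ⟨x, hx⟩).symm.trans (congrArg hU.fromSpec hsym.symm)

include hV in
theorem hasFibDim_iff (n : ℕ) :
    letI := (f.appLE V U e).hom.toAlgebra
    Groth.Agent.RelDim.HasFibDim Γ(Y, V) Γ(X, U) (hU.primeIdealOf ⟨x, hx⟩) n ↔
      FlatMor.fibreDimAt f x = n := by
  letI := (f.appLE V U e).hom.toAlgebra
  constructor
  · intro h
    obtain ⟨Q, hQ⟩ := Groth.Agent.RelDim.exists_over'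
      ((hU.primeIdealOf ⟨x, hx⟩).asIdeal.under Γ(Y, V)) (hU.primeIdealOf ⟨x, hx⟩).asIdeal
    rw [fibreDimAt_eq_localDim f hV hU e x hx Q hQ]
    exact h Q hQ
  · intro h Q hQ
    rw [← fibreDimAt_eq_localDim f hV hU e x hx Q hQ]
    exact h

/-- Cohen–Macaulay points of fibre dimension `n` form an open set. -/
theorem isOpen_isCMAt_fibreDim [LocallyOfFinitePresentation f] (n : ℕ) :
    IsOpen {x : X | MoreMor.IsCMAt f x ∧ FlatMor.fibreDimAt f x = n} := by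
  rw [isOpen_iff_forall_mem_open]
  rintro x ⟨hcm, hn⟩
  obtain ⟨_, ⟨V, hV, rfl⟩, hy, -⟩ := Y.isBasis_affineOpens.exists_subset_of_mem_open
    (Set.mem_univ (f x)) isOpen_univ
  obtain ⟨_, ⟨U, hU, rfl⟩, hx, e⟩ := X.isBasis_affineOpens.exists_subset_of_mem_open
    (show x ∈ f ⁻¹ᵁ V from hy) (f ⁻¹ᵁ V).isOpen
  replace hV : IsAffineOpen V := hV
  replace hU : IsAffineOpen U := hU
  replace e : U ≤ f ⁻¹ᵁ V := e
  letI := (f.appLE V U e).hom.toAlgebra
  haveI : Algebra.FinitePresentation Γ(Y, V) Γ(X, U) := f.finitePresentation_appLE hV hU e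
  refine ⟨hU.fromSpec '' {q | Groth.Agent.RelDim.IsCMPoint Γ(Y, V) Γ(X, U) q ∧
      Groth.Agent.RelDim.HasFibDim Γ(Y, V) Γ(X, U) q n}, ?_, hU.fromSpec.isOpenEmbedding.isOpenMap _
      (Groth.Agent.RelDim.isOpen_setOf_isCMPoint_hasFibDim n), hU.primeIdealOf ⟨x, hx⟩,
      ⟨(CMAffine.isCMAt_iff_chart f hV hU e x hx).mp hcm, (hasFibDim_iff f hV hU e x hx n).mpr hn⟩,
      hU.fromSpec_primeIdealOf ⟨x, hx⟩⟩
  rintro _ ⟨q, ⟨h1, h2⟩, rfl⟩
  have hqU : hU.fromSpec q ∈ U := hU.range_fromSpec.le ⟨q, rfl⟩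
  have hq : hU.primeIdealOf ⟨_, hqU⟩ = q :=
    hU.fromSpec.isOpenEmbedding.injective (hU.fromSpec_primeIdealOf ⟨_, hqU⟩)
  exact ⟨(CMAffine.isCMAt_iff_chart f hV hU e _ hqU).mpr (by rw [hq]; exact h1),
    (hasFibDim_iff f hV hU e _ hqU n).mp (by rw [hq]; exact h2)⟩

theorem exists_fibreDimAt_eq [LocallyOfFinitePresentation f] :
    ∃ n : ℕ, FlatMor.fibreDimAt f x = n := by
  obtain ⟨_, ⟨V, hV, rfl⟩, hy, -⟩ := Y.isBasis_affineOpens.exists_subset_of_mem_open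
    (Set.mem_univ (f x)) isOpen_univ
  obtain ⟨_, ⟨U, hU, rfl⟩, hx, e⟩ := X.isBasis_affineOpens.exists_subset_of_mem_open
    (show x ∈ f ⁻¹ᵁ V from hy) (f ⁻¹ᵁ V).isOpen
  replace hV : IsAffineOpen V := hV
  replace hU : IsAffineOpen U := hU
  replace e : U ≤ f ⁻¹ᵁ V := e
  letI := (f.appLE V U e).hom.toAlgebra
  haveI : Algebra.FinitePresentation Γ(Y, V) Γ(X, U) := f.finitePresentation_appLE hV hU e
  obtain ⟨n, hn⟩ := Groth.Agent.RelDim.exists_hasFibDim (R := Γ(Y, V)) (hU.primeIdealOf ⟨x, hx⟩)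
  exact ⟨n, (hasFibDim_iff f hV hU e x hx n).mp hn⟩

theorem exists_flat_qf_affineSpace [LocallyOfFinitePresentation f] (d : ℕ)
    (h : MoreMor.IsCMAt f x) (hd : FlatMor.fibreDimAt f x = d) :
    ∃ (W : X.Opens) (g : (W : Scheme.{u}) ⟶ 𝔸(ULift.{u} (Fin d); Y)), x ∈ W ∧
      g ≫ (𝔸(ULift.{u} (Fin d); Y) ↘ Y) = W.ι ≫ f ∧ Flat g ∧ LocallyQuasiFinite g := by
  obtain ⟨_, ⟨V, hV, rfl⟩, hy, -⟩ := Y.isBasis_affineOpens.exists_subset_of_mem_open
    (Set.mem_univ (f x)) isOpen_univ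
  obtain ⟨_, ⟨U, hU, rfl⟩, hx, e⟩ := X.isBasis_affineOpens.exists_subset_of_mem_open
    (show x ∈ f ⁻¹ᵁ V from hy) (f ⁻¹ᵁ V).isOpen
  replace hV : IsAffineOpen V := hV
  replace hU : IsAffineOpen U := hU
  replace e : U ≤ f ⁻¹ᵁ V := e
  obtain ⟨W, hxW, g, hg, hq, hfl⟩ := CMAffine.exists_of_isCMAt_dim f hV x h e hU hx d
    ((hasFibDim_iff f hV hU e x hx d).mpr hd)
  haveI : LocallyOfFinitePresentation (g ≫ (𝔸(ULift.{u} (Fin d); Y) ↘ Y)) := by
    rw [hg]; infer_instance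
  haveI : LocallyOfFinitePresentation g :=
    GrpScheme.FlatFib.locallyOfFinitePresentation_of_comp g (𝔸(ULift.{u} (Fin d); Y) ↘ Y)
  let W₁ : (W : Scheme.{u}).Opens := ⟨_, Scheme.isOpen_stalkMap_flat g⟩
  let i := (W.ι.isoImage W₁).inv ≫ W₁.ι
  refine ⟨W.ι ''ᵁ W₁, i ≫ g, ⟨⟨x, hxW⟩, hfl, rfl⟩, ?_, ?_, inferInstance⟩
  · rw [Category.assoc, hg]
    exact (Category.assoc _ _ _).trans ((W.ι.isoImage_inv_ι_assoc W₁ f).trans rfl)
  · refine Flat.of_stalkMap _ fun z => ?_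
    rw [CMAffine.stalkMap_flat_comp_iff]
    exact ((W.ι.isoImage W₁).inv z).2

end Groth.Agent.FlatOpen.CMLocus
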