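import Mathlib

/-!
# Base change of presented modules over polynomial rings

For an `R₀`-algebra `R` and a submodule `Z₀ ≤ R₀[x]^r`, `ext R Z₀ ≤ R[x]^r` is the submodule spanned
by the image of `Z₀` and `Quot R Z₀ = R[x]^r ⧸ ext R Z₀` is the base change of `R₀[x]^r ⧸ Z₀`.
-/

set_option autoImplicit false
set_option linter.style.haveILetI false

universe u

open TensorProduct Function

namespace Groth.Agent.FlatOpen

/-- The free module `R[x₁..xₙ]^r`. -/
abbrev Vec (n r : ℕ) (R : Type u) [CommRing R] := Fin r → MvPolynomial (Fin n) R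

variable {n r : ℕ} {R₀ : Type u} [CommRing R₀] (R : Type u) [CommRing R] [Algebra R₀ R]

/-- Map coefficients. -/
noncomputable def mapVec : Vec n r R₀ →ₗ[R₀] Vec n r R :=
  LinearMap.pi fun i => (MvPolynomial.mapAlgHom (Algebra.ofId R₀ R)).toLinearMap ∘ₗ LinearMap.proj i

@[simp] lemma mapVec_apply (v : Vec n r R₀) (i : Fin r) :
    mapVec R v i = MvPolynomial.map (algebraMap R₀ R) (v i) := rfl

lemma mapVec_smul (p : MvPolynomial (Fin n) R₀) (v : Vec n r R₀) :
    mapVec R (p • v) = MvPolynomial.map (algebraMap R₀ R) p • mapVec R v := by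
  funext i
  simp [map_mul]

lemma mapVec_trans (R₁ : Type u) [CommRing R₁] [Algebra R₀ R₁] [Algebra R₁ R]
    [IsScalarTower R₀ R₁ R] (v : Vec n r R₀) :
    mapVec (R₀ := R₁) R (mapVec R₁ v) = mapVec R v := by
  funext i
  simp [MvPolynomial.map_map, ← IsScalarTower.algebraMap_eq]

lemma mapVec_injective (h : Injective (algebraMap R₀ R)) :
    Injective (mapVec R : Vec n r R₀ →ₗ[R₀] Vec n r R) := fun v w hvw =>
  funext fun i => MvPolynomial.map_injective _ h (congrFun hvw i)

/-- The submodule generated by the image of `Z₀`. -/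
noncomputable def ext (Z₀ : Submodule (MvPolynomial (Fin n) R₀) (Vec n r R₀)) :
    Submodule (MvPolynomial (Fin n) R) (Vec n r R) :=
  Submodule.span _ (mapVec R '' (Z₀ : Set (Vec n r R₀)))

/-- The base change of `R₀[x]^r ⧸ Z₀`. -/
abbrev Quot (Z₀ : Submodule (MvPolynomial (Fin n) R₀) (Vec n r R₀)) := Vec n r R ⧸ ext R Z₀

variable (Z₀ : Submodule (MvPolynomial (Fin n) R₀) (Vec n r R₀))

lemma mapVec_mem_ext {v : Vec n r R₀} (hv : v ∈ Z₀) : mapVec R v ∈ ext R Z₀ :=
  Submodule.subset_span ⟨v, hv, rfl⟩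

lemma ext_mono {Z₁ Z₂ : Submodule (MvPolynomial (Fin n) R₀) (Vec n r R₀)} (h : Z₁ ≤ Z₂) :
    ext R Z₁ ≤ ext R Z₂ :=
  Submodule.span_mono (Set.image_mono h)

lemma ext_span (s : Set (Vec n r R₀)) :
    ext R (Submodule.span (MvPolynomial (Fin n) R₀) s) = Submodule.span _ (mapVec R '' s) := by
  refine le_antisymm (Submodule.span_le.2 ?_)
    (Submodule.span_mono (Set.image_mono Submodule.subset_span))
  rintro - ⟨v, hv, rfl⟩
  induction hv using Submodule.span_induction with
  | mem v hv => exact Submodule.subset_span ⟨v, hv, rfl⟩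
  | zero => rw [map_zero]; exact zero_mem _
  | add a b _ _ ha hb => rw [map_add]; exact add_mem ha hb
  | smul p a _ ha => rw [mapVec_smul]; exact Submodule.smul_mem _ _ ha

lemma ext_ext (R₁ : Type u) [CommRing R₁] [Algebra R₀ R₁] [Algebra R₁ R] [IsScalarTower R₀ R₁ R] :
    ext (R₀ := R₁) R (ext R₁ Z₀) = ext R Z₀ := by
  show ext (R₀ := R₁) R (Submodule.span _ _) = _
  rw [ext_span, Set.image_image]
  simp only [mapVec_trans R R₁]
  rfl

lemma ext_eq_span_R :
    (ext R Z₀).restrictScalars R = Submodule.span R (mapVec R '' (Z₀ : Set (Vec n r R₀))) := by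
  refine le_antisymm ?_ (Submodule.span_le.2 Submodule.subset_span)
  intro x hx
  change x ∈ ext R Z₀ at hx
  induction hx using Submodule.span_induction with
  | mem v hv => exact Submodule.subset_span hv
  | zero => exact zero_mem _
  | add a b _ _ ha hb => exact add_mem ha hb
  | smul p a _ ha =>
    induction p using MvPolynomial.induction_on generalizing a with
    | C c =>
      rw [← MvPolynomial.algebraMap_eq, algebraMap_smul]
      exact Submodule.smul_mem _ _ ha
    | add p q hp hq => rw [add_smul]; exact add_mem (hp a ‹_› ha) (hq a ‹_› ha)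
    | mul_X p i hp =>
      rw [mul_smul]
      have hX : ∀ b ∈ Submodule.span R (mapVec R '' (Z₀ : Set (Vec n r R₀))),
          (MvPolynomial.X i : MvPolynomial (Fin n) R) • b ∈
            Submodule.span R (mapVec R '' (Z₀ : Set (Vec n r R₀))) := by
        intro b hb
        induction hb using Submodule.span_induction with
        | mem v hv =>
          obtain ⟨w, hw, rfl⟩ := hv
          refine Submodule.subset_span ⟨(MvPolynomial.X i : MvPolynomial (Fin n) R₀) • w,
            Z₀.smul_mem _ hw, ?_⟩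
          rw [mapVec_smul, MvPolynomial.map_X]
        | zero => rw [smul_zero]; exact zero_mem _
        | add a b _ _ ha hb => rw [smul_add]; exact add_mem ha hb
        | smul c a _ ha => rw [smul_comm]; exact Submodule.smul_mem _ _ ha
      exact hp _ (Submodule.smul_mem _ _ ‹_›) (hX a ha)

section Tensor

/-- `R ⊗ R₀[x]^r = R[x]^r`. -/
noncomputable def vecEquiv : R ⊗[R₀] Vec n r R₀ ≃ₗ[R] Vec n r R :=
  (TensorProduct.piRight R₀ R R (fun _ : Fin r => MvPolynomial (Fin n) R₀)).trans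
    (LinearEquiv.piCongrRight fun _ => (MvPolynomial.algebraTensorAlgEquiv R₀ R).toLinearEquiv)

@[simp] lemma vecEquiv_tmul (a : R) (v : Vec n r R₀) :
    vecEquiv R (a ⊗ₜ[R₀] v) = a • mapVec R v := by
  funext i
  simp [vecEquiv, Algebra.smul_def]

lemma vecEquiv_range_baseChange :
    LinearMap.range ((vecEquiv R).toLinearMap ∘ₗ (Z₀.subtype.restrictScalars R₀).baseChange R) =
      (ext R Z₀).restrictScalars R := by
  rw [ext_eq_span_R]
  apply le_antisymm
  · rintro - ⟨w, rfl⟩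
    induction w with
    | zero => rw [map_zero]; exact zero_mem _
    | tmul a z =>
      simp only [LinearMap.comp_apply, LinearMap.baseChange_tmul, LinearEquiv.coe_coe, vecEquiv_tmul]
      exact Submodule.smul_mem _ _ (Submodule.subset_span ⟨_, z.2, rfl⟩)
    | add a b ha hb => rw [map_add]; exact add_mem ha hb
  · rw [Submodule.span_le]
    rintro - ⟨v, hv, rfl⟩
    exact ⟨1 ⊗ₜ ⟨v, hv⟩, by simp⟩

/-- The comparison `R ⊗ (R₀[x]^r ⧸ Z₀) → R[x]^r ⧸ ext R Z₀`. -/
noncomputable def quotEquiv : R ⊗[R₀] (Vec n r R₀ ⧸ Z₀) ≃ₗ[R] Quot R Z₀ := by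
  let π : R ⊗[R₀] Vec n r R₀ →ₗ[R] R ⊗[R₀] (Vec n r R₀ ⧸ Z₀) :=
    (Z₀.mkQ.restrictScalars R₀).baseChange R
  let ρ : R ⊗[R₀] Vec n r R₀ →ₗ[R] Quot R Z₀ :=
    (ext R Z₀).mkQ.restrictScalars R ∘ₗ (vecEquiv R).toLinearMap
  have hπ : Surjective π := LinearMap.lTensor_surjective R Z₀.mkQ_surjective
  have hρ : Surjective ρ := (ext R Z₀).mkQ_surjective.comp (vecEquiv R).surjective
  have hker : LinearMap.ker π = LinearMap.ker ρ := by
    have hex : Exact ((Z₀.subtype.restrictScalars R₀).baseChange R) π :=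
      lTensor_exact R (f := Z₀.subtype.restrictScalars R₀) (g := Z₀.mkQ.restrictScalars R₀)
        (LinearMap.exact_subtype_mkQ Z₀) Z₀.mkQ_surjective
    ext w
    rw [LinearMap.mem_ker, LinearMap.mem_ker, hex w]
    simp only [ρ, LinearMap.comp_apply, LinearEquiv.coe_coe, LinearMap.coe_restrictScalars,
      Submodule.mkQ_apply, Submodule.Quotient.mk_eq_zero]
    rw [← Submodule.restrictScalars_mem R, ← vecEquiv_range_baseChange R Z₀]
    constructor
    · rintro ⟨z, rfl⟩
      exact ⟨z, rfl⟩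
    · rintro ⟨z, hz⟩
      exact ⟨z, (vecEquiv R).injective hz⟩
  exact ((π.quotKerEquivOfSurjective hπ).symm.trans (Submodule.quotEquivOfEq _ _ hker)).trans
    (ρ.quotKerEquivOfSurjective hρ)

lemma quotEquiv_tmul_mk (a : R) (v : Vec n r R₀) :
    quotEquiv R Z₀ (a ⊗ₜ[R₀] (Submodule.Quotient.mk v)) =
      a • Submodule.Quotient.mk (mapVec R v) := by
  have h : ((Z₀.mkQ.restrictScalars R₀).baseChange R).quotKerEquivOfSurjective
      (LinearMap.lTensor_surjective R Z₀.mkQ_surjective) (Submodule.Quotient.mk (a ⊗ₜ v)) =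
      a ⊗ₜ[R₀] Submodule.Quotient.mk v := rfl
  simp only [quotEquiv, LinearEquiv.trans_apply]
  rw [← h, LinearEquiv.symm_apply_apply]
  show (ext R Z₀).mkQ (vecEquiv R (a ⊗ₜ[R₀] v)) = _
  rw [vecEquiv_tmul, LinearMap.map_smul_of_tower]
  rfl

end Tensor

section BaseChange

/-- `R₁[x]^r ⧸ ext R₁ Z₀ → R[x]^r ⧸ ext R Z₀` is a base change along `R₁[x] → R[x]`. -/
theorem exists_isBaseChange_quot' (R₁ : Type u) [CommRing R₁] [Algebra R₀ R₁] [Algebra R₁ R]
    [IsScalarTower R₀ R₁ R] :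
    letI := MvPolynomial.algebraMvPolynomial (σ := Fin n) (R := R₁) (S := R)
    letI : Module (MvPolynomial (Fin n) R₁) (Quot R Z₀) :=
      Module.compHom _ (algebraMap (MvPolynomial (Fin n) R₁) (MvPolynomial (Fin n) R))
    haveI : IsScalarTower (MvPolynomial (Fin n) R₁) (MvPolynomial (Fin n) R) (Quot R Z₀) :=
      IsScalarTower.of_algebraMap_smul fun _ _ => rfl
    ∃ f : Quot R₁ Z₀ →ₗ[MvPolynomial (Fin n) R₁] Quot R Z₀,
      ∃ _ : IsBaseChange (MvPolynomial (Fin n) R) f,
        ∀ v, f (Submodule.Quotient.mk v) = Submodule.Quotient.mk (mapVec (R₀ := R₁) R v) := by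
  classical
  letI := MvPolynomial.algebraMvPolynomial (σ := Fin n) (R := R₁) (S := R)
  letI : Module (MvPolynomial (Fin n) R₁) (Quot R Z₀) :=
    Module.compHom _ (algebraMap (MvPolynomial (Fin n) R₁) (MvPolynomial (Fin n) R))
  haveI : IsScalarTower (MvPolynomial (Fin n) R₁) (MvPolynomial (Fin n) R) (Quot R Z₀) :=
    IsScalarTower.of_algebraMap_smul fun _ _ => rfl
  let P₁ := MvPolynomial (Fin n) R₁
  let P := MvPolynomial (Fin n) R
  let f0 : Vec n r R₁ →ₗ[P₁] Quot R Z₀ :=
    { toFun := fun v => Submodule.Quotient.mk (mapVec (R₀ := R₁) R v)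
      map_add' := fun v w => by rw [map_add, Submodule.Quotient.mk_add]
      map_smul' := fun p v => by
        rw [mapVec_smul, Submodule.Quotient.mk_smul]; rfl }
  have hf0 : ext R₁ Z₀ ≤ LinearMap.ker f0 := by
    rw [ext, Submodule.span_le]
    rintro - ⟨v, hv, rfl⟩
    refine (Submodule.Quotient.mk_eq_zero _).2 ?_
    rw [mapVec_trans]
    exact mapVec_mem_ext R Z₀ hv
  let f : Quot R₁ Z₀ →ₗ[P₁] Quot R Z₀ := (ext R₁ Z₀).liftQ f0 hf0
  refine ⟨f, ?_⟩
  let e : Fin r → P ⊗[P₁] Quot R₁ Z₀ := fun i =>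
    (1 : P) ⊗ₜ[P₁] (Submodule.Quotient.mk (Pi.single i 1))
  let g0 : Vec n r R →ₗ[P] P ⊗[P₁] Quot R₁ Z₀ :=
    ∑ i : Fin r, (LinearMap.proj i).smulRight (e i)
  have hg0 : ∀ v : Vec n r R₁,
      g0 (mapVec (R₀ := R₁) R v) = (1 : P) ⊗ₜ[P₁] Submodule.Quotient.mk v := by
    intro v
    conv_rhs => rw [show v = ∑ i, (v i) • Pi.single i (1 : P₁) from by
      funext j; simp [Finset.sum_apply, Pi.single_apply]]
    simp only [g0, e, LinearMap.sum_apply, LinearMap.smulRight_apply, LinearMap.proj_apply,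
      mapVec_apply, ← Submodule.mkQ_apply, map_sum, map_smul, TensorProduct.tmul_sum,
      TensorProduct.tmul_smul]
    refine Finset.sum_congr rfl fun i _ => ?_
    exact (algebraMap_smul P (v i) _)
  have hle : ext R Z₀ ≤ LinearMap.ker g0 := by
    rw [ext, Submodule.span_le]
    rintro - ⟨v, hv, rfl⟩
    rw [SetLike.mem_coe, LinearMap.mem_ker, ← mapVec_trans R R₁, hg0,
      (Submodule.Quotient.mk_eq_zero _).2 (mapVec_mem_ext R₁ Z₀ hv), TensorProduct.tmul_zero]
  let g : Quot R Z₀ →ₗ[P] P ⊗[P₁] Quot R₁ Z₀ := (ext R Z₀).liftQ g0 hle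
  have hfg : f.liftBaseChange P ∘ₗ g = LinearMap.id := by
    refine Submodule.linearMap_qext _ ?_
    refine LinearMap.pi_ext' fun i => LinearMap.ext_ring ?_
    simp only [LinearMap.comp_apply, LinearMap.id_coe, id_eq, LinearMap.single_apply,
      Submodule.mkQ_apply, g, Submodule.liftQ_apply]
    have h1 : mapVec (R₀ := R₁) R (Pi.single i 1) = Pi.single i (1 : P) := by
      funext j
      by_cases hj : j = i
      · subst hj; simp [P]
      · simp [hj]
    rw [← h1, hg0, LinearMap.liftBaseChange_tmul, one_smul]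
    rfl
  have hgf : g ∘ₗ f.liftBaseChange P = LinearMap.id := by
    refine TensorProduct.AlgebraTensorModule.curry_injective ?_
    refine LinearMap.ext_ring ?_
    refine Submodule.linearMap_qext _ ?_
    refine LinearMap.ext fun v => ?_
    show g (f.liftBaseChange P ((1 : P) ⊗ₜ[P₁] Submodule.Quotient.mk v)) =
      (1 : P) ⊗ₜ[P₁] Submodule.Quotient.mk v
    rw [LinearMap.liftBaseChange_tmul, one_smul]
    exact hg0 v
  let E : P ⊗[P₁] Quot R₁ Z₀ ≃ₗ[P] Quot R Z₀ := LinearEquiv.ofLinearMap (f.liftBaseChange P) g hfg hgf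
  refine ⟨?_, fun v => rfl⟩
  refine IsBaseChange.of_equiv E fun x => ?_
  show f.liftBaseChange P ((1 : P) ⊗ₜ[P₁] x) = f x
  rw [LinearMap.liftBaseChange_tmul, one_smul]

/-- `R₁[x]^r ⧸ ext R₁ Z₀ → R[x]^r ⧸ ext R Z₀` is a base change along `R₁[x] → R[x]`. -/
theorem exists_isBaseChange_quot (R₁ : Type u) [CommRing R₁] [Algebra R₀ R₁] [Algebra R₁ R]
    [IsScalarTower R₀ R₁ R] :
    letI := MvPolynomial.algebraMvPolynomial (σ := Fin n) (R := R₁) (S := R)
    letI : Module (MvPolynomial (Fin n) R₁) (Quot R Z₀) :=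
      Module.compHom _ (algebraMap (MvPolynomial (Fin n) R₁) (MvPolynomial (Fin n) R))
    haveI : IsScalarTower (MvPolynomial (Fin n) R₁) (MvPolynomial (Fin n) R) (Quot R Z₀) :=
      IsScalarTower.of_algebraMap_smul fun _ _ => rfl
    ∃ f : Quot R₁ Z₀ →ₗ[MvPolynomial (Fin n) R₁] Quot R Z₀,
      IsBaseChange (MvPolynomial (Fin n) R) f := by
  letI := MvPolynomial.algebraMvPolynomial (σ := Fin n) (R := R₁) (S := R)
  letI : Module (MvPolynomial (Fin n) R₁) (Quot R Z₀) :=
    Module.compHom _ (algebraMap (MvPolynomial (Fin n) R₁) (MvPolynomial (Fin n) R))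
  haveI : IsScalarTower (MvPolynomial (Fin n) R₁) (MvPolynomial (Fin n) R) (Quot R Z₀) :=
    IsScalarTower.of_algebraMap_smul fun _ _ => rfl
  obtain ⟨f, hf, -⟩ := exists_isBaseChange_quot' R Z₀ R₁
  exact ⟨f, hf⟩

end BaseChange

end Groth.Agent.FlatOpen
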