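import Groth.Agent.FlatOpen.GenFree
import Groth.Agent.FlatOpen.Presented

/-!
# Generic freeness over an arbitrary domain

* `exists_free_lattice`: a submodule of `R[x]^r` agrees, up to `f`-torsion, with a finitely generated
  one having free quotient after inverting `f`.
* `exists_genFree`: generic freeness with finite presentations (Stacks 051R).
-/

set_option autoImplicit false
set_option linter.style.haveILetI false

universe u

open TensorProduct Function

namespace Groth.Agent.FlatOpen

section

variable {R : Type u} [CommRing R]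

/-- A surjection with `f`-torsion kernel is bijective after inverting `f`. -/
theorem bijective_baseChange_of_torsion (f : R) {M N : Type u} [AddCommGroup M] [Module R M]
    [AddCommGroup N] [Module R N] (π : M →ₗ[R] N) (hπ : Surjective π)
    (h : ∀ m, π m = 0 → ∃ k : ℕ, f ^ k • m = 0) :
    Bijective (π.baseChange (Localization.Away f)) := by
  refine ⟨?_, LinearMap.lTensor_surjective _ hπ⟩
  rw [injective_iff_map_eq_zero]
  intro x hx
  obtain ⟨y, rfl⟩ := (lTensor_exact (Localization.Away f) π.exact_subtype_ker_map hπ x).1 hx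
  clear hx
  induction y with
  | zero => exact map_zero _
  | tmul a m =>
    obtain ⟨k, hk⟩ := h m m.2
    obtain ⟨v, hv⟩ := (IsLocalization.Away.algebraMap_isUnit (S := Localization.Away f) f).pow k
      |>.exists_left_inv
    rw [LinearMap.lTensor_tmul, Submodule.subtype_apply,
      show a = f ^ k • (a * v) from by
        rw [Algebra.smul_def, map_pow, mul_comm _ (a * v), mul_assoc, hv, mul_one],
      smul_tmul, hk, tmul_zero]
  | add u v hu hv => rw [map_add, hu, hv, add_zero]

variable {n r : ℕ}

theorem eq_zero_of_smul_eq_zero {A X : Type u} [CommRing A] [IsDomain A] [AddCommGroup X]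
    [Module A X] [Module.Free A X] {a : A} {x : X} (ha : a ≠ 0) (h : a • x = 0) : x = 0 := by
  let b := Module.Free.chooseBasis A X
  apply b.repr.injective
  ext i
  have := congrArg (fun z => b.repr z i) h
  simp only [map_smul, Finsupp.smul_apply, map_zero, Finsupp.zero_apply, smul_eq_mul] at this
  simpa using (mul_eq_zero.1 this).resolve_left ha

/-- Elements of a field span come from the submodule up to a denominator. -/
theorem exists_smul_eq_mapVec [IsDomain R] (L : Submodule (MvPolynomial (Fin n) R) (Vec n r R))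
    {x : Vec n r (FractionRing R)} (hx : x ∈ ext (FractionRing R) L) :
    ∃ c : R, c ≠ 0 ∧ ∃ w ∈ L, c • x = mapVec (FractionRing R) w := by
  rw [← Submodule.restrictScalars_mem (FractionRing R), ext_eq_span_R] at hx
  induction hx using Submodule.span_induction with
  | mem x hx =>
    obtain ⟨w, hw, rfl⟩ := hx
    exact ⟨1, one_ne_zero, w, hw, one_smul _ _⟩
  | zero => exact ⟨1, one_ne_zero, 0, zero_mem _, by simp⟩
  | add x y _ _ hx hy =>
    obtain ⟨c, hc, w, hw, hcw⟩ := hx
    obtain ⟨d, hd, v, hv, hdv⟩ := hy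
    refine ⟨c * d, mul_ne_zero hc hd, d • w + c • v,
      add_mem (L.smul_of_tower_mem d hw) (L.smul_of_tower_mem c hv), ?_⟩
    rw [map_add, map_smul, map_smul, ← hcw, ← hdv, smul_add, smul_smul, smul_smul, mul_comm d c]
  | smul a x _ hx =>
    obtain ⟨c, hc, w, hw, hcw⟩ := hx
    obtain ⟨⟨b, s⟩, hbs⟩ := IsLocalization.surj (nonZeroDivisors R) a
    refine ⟨c * s, mul_ne_zero hc (nonZeroDivisors.ne_zero s.2), b • w, L.smul_of_tower_mem b hw, ?_⟩
    rw [map_smul, ← hcw, ← algebraMap_smul (FractionRing R) b, ← algebraMap_smul (FractionRing R) c,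
      ← algebraMap_smul (FractionRing R) (c * (s : R)), smul_smul, smul_smul, map_mul, ← hbs]
    ring_nf

/-- Generic freeness of a presented module from a Noetherian domain of definition. -/
theorem exists_free_model {R₀ : Type u} [CommRing R₀] [IsDomain R₀] [IsNoetherianRing R₀]
    [Algebra R₀ R] (Z₀ : Submodule (MvPolynomial (Fin n) R₀) (Vec n r R₀)) :
    ∃ f₀ : R₀, f₀ ≠ 0 ∧ ∀ g : R, Module.Free (Localization.Away (algebraMap R₀ R f₀ * g))
      (Localization.Away (algebraMap R₀ R f₀ * g) ⊗[R] Quot R Z₀) := by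
  obtain ⟨f₀, hf₀, hfree⟩ := isGenFree_of_finiteType R₀ (MvPolynomial (Fin n) R₀) (Vec n r R₀ ⧸ Z₀)
  refine ⟨f₀, hf₀, fun g => ?_⟩
  let F := algebraMap R₀ R f₀ * g
  let A := Localization.Away F
  have hunit : IsUnit (algebraMap R₀ A f₀) := by
    rw [IsScalarTower.algebraMap_apply R₀ R A]
    exact isUnit_of_dvd_unit (map_dvd _ (dvd_mul_right (algebraMap R₀ R f₀) g))
      (IsLocalization.Away.algebraMap_isUnit (S := A) F)
  letI : Algebra (Localization.Away f₀) A :=
    (IsLocalization.Away.lift (S := Localization.Away f₀) f₀ hunit).toAlgebra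
  haveI : IsScalarTower R₀ (Localization.Away f₀) A :=
    IsScalarTower.of_algebraMap_eq fun a => (IsLocalization.Away.lift_eq f₀ hunit a).symm
  exact Module.Free.of_equiv (((AlgebraTensorModule.cancelBaseChange R₀ (Localization.Away f₀) A A
      (Vec n r R₀ ⧸ Z₀)).trans (AlgebraTensorModule.cancelBaseChange R₀ R A A
      (Vec n r R₀ ⧸ Z₀)).symm).trans
    (AlgebraTensorModule.congr (LinearEquiv.refl A A) (quotEquiv R Z₀)))

/-- The key lemma. -/
theorem exists_free_lattice [IsDomain R] (Z : Submodule (MvPolynomial (Fin n) R) (Vec n r R)) :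
    ∃ (G : Finset (Vec n r R)) (f : R), f ≠ 0 ∧ (G : Set (Vec n r R)) ⊆ Z ∧
      ∀ g : R, g ≠ 0 →
        Module.Free (Localization.Away (f * g)) (Localization.Away (f * g) ⊗[R]
          (Vec n r R ⧸ Submodule.span (MvPolynomial (Fin n) R) (G : Set (Vec n r R)))) ∧
        ∀ v ∈ Z, ∃ k : ℕ, (f * g) ^ k • v ∈ Submodule.span (MvPolynomial (Fin n) R) (G : Set (Vec n r R)) := by
  classical
  let K := FractionRing R
  obtain ⟨G', hG', hspan⟩ := (Submodule.fg_span_iff_fg_span_finset_subset
    (R := MvPolynomial (Fin n) K) (mapVec K '' (Z : Set (Vec n r R)))).1 (IsNoetherian.noetherian _)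
  obtain ⟨G, hG, hGG'⟩ := Finset.subset_set_image_iff.1 hG'
  let L := Submodule.span (MvPolynomial (Fin n) R) (G : Set (Vec n r R))
  have hLK : ext K Z = ext K L := by
    rw [ext_span, ext, hspan, ← hGG', Finset.coe_image]
  let c : Finset R := G.biUnion fun v => Finset.univ.biUnion fun i => (v i).coeffs
  let R₀ := Algebra.adjoin ℤ (c : Set R)
  haveI : IsNoetherianRing R₀ := isNoetherianRing_of_fg ⟨c, rfl⟩
  have hlift : ∀ v ∈ G, ∃ v₀ : Vec n r R₀, mapVec R v₀ = v := by
    intro v hv
    have : ∀ i, ∃ w : MvPolynomial (Fin n) R₀, MvPolynomial.map (algebraMap R₀ R) w = v i :=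
      fun i => MvPolynomial.mem_range_map_iff_coeffs_subset.2 fun x hx =>
        ⟨⟨x, Algebra.subset_adjoin (Finset.mem_biUnion.2
          ⟨v, hv, Finset.mem_biUnion.2 ⟨i, Finset.mem_univ i, hx⟩⟩)⟩, rfl⟩
    choose w hw using this
    exact ⟨w, funext hw⟩
  choose! v₀ hv₀ using hlift
  let Z₀ : Submodule (MvPolynomial (Fin n) R₀) (Vec n r R₀) :=
    Submodule.span _ (v₀ '' (G : Set (Vec n r R)))
  have hZ : ext R Z₀ = L := by
    rw [ext_span, Set.image_image]
    exact congrArg _ ((Set.image_congr hv₀).trans (Set.image_id' _))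
  obtain ⟨f₀, hf₀, hfree⟩ := exists_free_model (R := R) Z₀
  refine ⟨G, (f₀ : R), fun h => hf₀ (Subtype.ext h), hG, fun g hg => ?_⟩
  let W := Vec n r R ⧸ L
  let F := (f₀ : R) * g
  let A := Localization.Away F
  have hW : Module.Free A (A ⊗[R] W) := by
    have h := hfree g
    unfold Quot at h
    rw [hZ] at h
    exact h
  haveI := hW
  refine ⟨hW, fun v hv => ?_⟩
  obtain ⟨d, hd, w, hw, hdw⟩ := exists_smul_eq_mapVec L (x := mapVec K v)
    (hLK ▸ mapVec_mem_ext K Z hv)
  have hdv : d • (Submodule.Quotient.mk v : W) = 0 := by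
    rw [← Submodule.Quotient.mk_smul, Submodule.Quotient.mk_eq_zero]
    rw [← map_smul] at hdw
    rw [mapVec_injective (R₀ := R) K (IsFractionRing.injective R K) hdw]
    exact hw
  have hF : F ≠ 0 := mul_ne_zero (fun h => hf₀ (Subtype.ext h)) hg
  haveI : IsDomain A :=
    IsLocalization.isDomain_localization (powers_le_nonZeroDivisors_of_noZeroDivisors hF)
  have h0 : (1 : A) ⊗ₜ[R] (Submodule.Quotient.mk v : W) = 0 := by
    have h1 : algebraMap R A d • ((1 : A) ⊗ₜ[R] (Submodule.Quotient.mk v : W)) = 0 := by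
      rw [algebraMap_smul, ← tmul_smul, hdv, tmul_zero]
    have hdA : algebraMap R A d ≠ 0 := fun h => hd
      (IsLocalization.injective A (powers_le_nonZeroDivisors_of_noZeroDivisors hF)
        (h.trans (map_zero _).symm))
    exact eq_zero_of_smul_eq_zero hdA h1
  obtain ⟨⟨-, k, rfl⟩, hk⟩ := (IsLocalizedModule.eq_zero_iff (Submonoid.powers F)
    (TensorProduct.mk R A W 1)).1 h0
  exact ⟨k, (Submodule.Quotient.mk_eq_zero _).1 hk⟩

end

/-- Freeness passes along a surjection with `f`-torsion kernel. -/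
theorem free_of_torsion_ker {R : Type u} [CommRing R] (f : R) {W N : Type u} [AddCommGroup W]
    [Module R W] [AddCommGroup N] [Module R N] (q : W →ₗ[R] N) (hq : Surjective q)
    (h : ∀ w, q w = 0 → ∃ k : ℕ, f ^ k • w = 0)
    (hW : Module.Free (Localization.Away f) (Localization.Away f ⊗[R] W)) :
    Module.Free (Localization.Away f) (Localization.Away f ⊗[R] N) :=
  Module.Free.of_equiv (LinearEquiv.ofBijective _ (bijective_baseChange_of_torsion f q hq h))

/-- The same for a quotient by a submodule over an algebra. -/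
theorem free_of_quotient {R P : Type u} [CommRing R] [CommRing P] [Algebra R P] (f : R)
    {V N : Type u} [AddCommGroup V] [Module R V] [Module P V] [IsScalarTower R P V]
    [AddCommGroup N] [Module R N] [Module P N] [IsScalarTower R P N]
    {L : Submodule P V} (q : V →ₗ[P] N) (hq : Surjective q) (hL : L ≤ LinearMap.ker q)
    (hker : ∀ v ∈ LinearMap.ker q, ∃ k : ℕ, f ^ k • v ∈ L)
    (hW : Module.Free (Localization.Away f) (Localization.Away f ⊗[R] (V ⧸ L))) :
    Module.Free (Localization.Away f) (Localization.Away f ⊗[R] N) := by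
  refine free_of_torsion_ker f ((L.liftQ q hL).restrictScalars R)
    (fun x => ?_) (fun x hx => ?_) hW
  · obtain ⟨v, rfl⟩ := hq x
    exact ⟨Submodule.Quotient.mk v, rfl⟩
  · obtain ⟨v, rfl⟩ := L.mkQ_surjective x
    obtain ⟨k, hk⟩ := hker v hx
    exact ⟨k, by rw [← LinearMap.map_smul_of_tower]; exact (Submodule.Quotient.mk_eq_zero _).2 hk⟩

/-- Finite presentation of the algebra after inverting `f`. -/
theorem finitePresentation_away {R P S : Type u} [CommRing R] [CommRing P] [Algebra R P]
    [Algebra.FinitePresentation R P] [CommRing S] [Algebra R S] (f : R)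
    (π : P →ₐ[R] S) (hπ : Surjective π)
    (I : Ideal P) (hI : I.FG) (hle : I ≤ RingHom.ker π)
    (hker : ∀ v ∈ RingHom.ker π, ∃ k : ℕ, f ^ k • v ∈ I) :
    Algebra.FinitePresentation (Localization.Away f) (Localization.Away f ⊗[R] S) := by
  let A := Localization.Away f
  let Φ : A ⊗[R] P →ₐ[A] A ⊗[R] S := Algebra.TensorProduct.map (AlgHom.id A A) π
  have hΦs : Surjective Φ := by
    intro x
    induction x with
    | zero => exact ⟨0, map_zero Φ⟩
    | tmul a v =>
      obtain ⟨w, rfl⟩ := hπ v
      exact ⟨a ⊗ₜ w, Algebra.TensorProduct.map_tmul _ _ a w⟩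
    | add u v hu hv =>
      obtain ⟨a, rfl⟩ := hu
      obtain ⟨b, rfl⟩ := hv
      exact ⟨a + b, map_add Φ a b⟩
  refine Algebra.FinitePresentation.of_surjective (f := Φ) hΦs ?_
  have hmap : RingHom.ker Φ.toRingHom =
      I.map (Algebra.TensorProduct.includeRight : P →ₐ[R] A ⊗[R] P).toRingHom := by
    refine le_antisymm ?_ (Ideal.map_le_iff_le_comap.2 fun i hi => ?_)
    · intro x hx
      have hc : ∀ z, (π.toLinearMap).lTensor A z = Φ z := by
        intro z
        induction z with
        | zero => rw [map_zero, map_zero]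
        | tmul a v => simp [Φ]
        | add u v hu hv => rw [map_add, map_add, hu, hv]
      have hx' : (π.toLinearMap).lTensor A x = 0 := (hc x).trans hx
      obtain ⟨y, rfl⟩ := (lTensor_exact A (LinearMap.exact_subtype_ker_map π.toLinearMap) hπ x).1 hx'
      clear hx hx'
      induction y with
      | zero => rw [map_zero]; exact zero_mem _
      | tmul a i =>
        obtain ⟨k, hk⟩ := hker i i.2
        obtain ⟨u, hu⟩ := (IsLocalization.Away.algebraMap_isUnit (S := A) f).pow k |>.exists_left_inv
        rw [LinearMap.lTensor_tmul, Submodule.subtype_apply,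
          show a = f ^ k • (a * u) from by
            rw [Algebra.smul_def, map_pow, mul_comm _ (a * u), mul_assoc, hu, mul_one],
          smul_tmul]
        rw [show (a * u) ⊗ₜ[R] (f ^ k • (i : P)) =
            ((a * u) ⊗ₜ[R] (1 : P)) * ((1 : A) ⊗ₜ[R] (f ^ k • (i : P))) from by
          rw [Algebra.TensorProduct.tmul_mul_tmul, mul_one, one_mul]]
        exact Ideal.mul_mem_left _ _ (Ideal.mem_map_of_mem _ hk)
      | add p q hp hq => rw [map_add]; exact add_mem hp hq
    · rw [Ideal.mem_comap, RingHom.mem_ker]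
      show Φ ((1 : A) ⊗ₜ[R] i) = 0
      rw [Algebra.TensorProduct.map_tmul, show π i = 0 from hle hi, tmul_zero]
  rw [hmap]
  exact hI.map _

/-- A surjection of modules with `s`-torsion kernel from a finitely presented module. -/
theorem finitePresentation_localized {S : Type u} [CommRing S] (s : S) {W M : Type u} [AddCommGroup W]
    [Module S W] [Module.FinitePresentation S W] [AddCommGroup M] [Module S M]
    (q : W →ₗ[S] M) (hq : Surjective q) (h : ∀ w, q w = 0 → ∃ k : ℕ, s ^ k • w = 0) :
    Module.FinitePresentation (Localization.Away s) (LocalizedModule (Submonoid.powers s) M) := by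
  have hb := bijective_baseChange_of_torsion s q hq h
  let e : Localization.Away s ⊗[S] W ≃ₗ[Localization.Away s] Localization.Away s ⊗[S] M :=
    LinearEquiv.ofBijective _ hb
  exact Module.finitePresentation_of_surjective
    (e.trans (LocalizedModule.equivTensorProduct (Submonoid.powers s) M).symm).toLinearMap
    (LinearEquiv.surjective _) (by rw [LinearEquiv.ker]; exact Submodule.fg_bot)

/-- Generic freeness (Stacks 051R). -/
theorem exists_genFree (R S M : Type u) [CommRing R] [IsDomain R] [CommRing S] [Algebra R S]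
    [Algebra.FiniteType R S] [AddCommGroup M] [Module S M] [Module R M] [IsScalarTower R S M]
    [Module.Finite S M] :
    ∃ f : R, f ≠ 0 ∧ Module.Free (Localization.Away f) (Localization.Away f ⊗[R] M) ∧
      Module.Free (Localization.Away f) (Localization.Away f ⊗[R] S) ∧
      Algebra.FinitePresentation (Localization.Away f) (Localization.Away f ⊗[R] S) ∧
      Module.FinitePresentation (Localization.Away (algebraMap R S f))
        (LocalizedModule (Submonoid.powers (algebraMap R S f)) M) := by
  classical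
  obtain ⟨n, π, hπ⟩ := Algebra.FiniteType.iff_quotient_mvPolynomial''.1
    (inferInstance : Algebra.FiniteType R S)
  let P := MvPolynomial (Fin n) R
  letI : Algebra P S := π.toRingHom.toAlgebra
  haveI : IsScalarTower R P S := IsScalarTower.of_algebraMap_eq fun a => (π.commutes a).symm
  letI : Module P M := Module.compHom M π.toRingHom
  haveI : IsScalarTower P S M := IsScalarTower.of_algebraMap_smul fun _ _ => rfl
  haveI : IsScalarTower R P M := IsScalarTower.of_algebraMap_smul fun a m => by
    show π (algebraMap R P a) • m = a • m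
    rw [π.commutes, algebraMap_smul]
  obtain ⟨r, qS, hqS⟩ := Module.Finite.exists_fin' S M
  let ν : Vec n r R →ₗ[P] (Fin r → S) :=
    LinearMap.pi fun i => (Algebra.linearMap P S) ∘ₗ LinearMap.proj i
  have hν : Surjective ν := fun v =>
    ⟨fun i => (hπ (v i)).choose, funext fun i => (hπ (v i)).choose_spec⟩
  let qP : Vec n r R →ₗ[P] M := qS.restrictScalars P ∘ₗ ν
  have hqP : Surjective qP := hqS.comp hν
  let ξ : Vec n 1 R →ₗ[P] P := LinearMap.proj 0
  have hξ : Surjective ξ := fun a => ⟨fun _ => a, rfl⟩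
  let σ : Vec n 1 R →ₗ[P] S := Algebra.linearMap P S ∘ₗ ξ
  have hσ : Surjective σ := (show Surjective (Algebra.linearMap P S) from hπ).comp hξ
  obtain ⟨G₁, f₁, hf₁, hG₁, H₁⟩ := exists_free_lattice (LinearMap.ker qP)
  obtain ⟨G₂, f₂, hf₂, hG₂, H₂⟩ := exists_free_lattice (LinearMap.ker σ)
  obtain ⟨hW₁, ht₁⟩ := H₁ f₂ hf₂
  obtain ⟨hW₂, ht₂⟩ := H₂ f₁ hf₁
  have hcomm : f₂ * f₁ = f₁ * f₂ := mul_comm _ _
  rw [hcomm] at hW₂ ht₂
  refine ⟨f₁ * f₂, mul_ne_zero hf₁ hf₂,
    free_of_quotient _ qP hqP (Submodule.span_le.2 hG₁) ht₁ hW₁,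
    free_of_quotient _ σ hσ (Submodule.span_le.2 hG₂) ht₂ hW₂, ?_, ?_⟩
  · let L₂ := Submodule.span P (G₂ : Set (Vec n 1 R))
    refine finitePresentation_away _ π hπ (L₂.map ξ) ?_ ?_ fun v hv => ?_
    · exact Submodule.FG.map _ ⟨G₂, rfl⟩
    · intro x hx
      obtain ⟨v, hv, rfl⟩ := hx
      exact (Submodule.span_le.2 hG₂ : L₂ ≤ LinearMap.ker σ) hv
    · obtain ⟨w, rfl⟩ := hξ v
      obtain ⟨k, hk⟩ := ht₂ w hv
      exact ⟨k, ⟨_, hk, LinearMap.map_smul_of_tower _ _ _⟩⟩
  · let LS : Submodule S (Fin r → S) := Submodule.span S (ν '' (G₁ : Set (Vec n r R)))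
    have hLS : LS ≤ LinearMap.ker qS := by
      rw [Submodule.span_le]
      rintro - ⟨v, hv, rfl⟩
      exact hG₁ hv
    haveI : Module.FinitePresentation S ((Fin r → S) ⧸ LS) :=
      Module.finitePresentation_of_surjective LS.mkQ LS.mkQ_surjective (by
        rw [Submodule.ker_mkQ]
        exact Submodule.fg_span (Set.Finite.image _ G₁.finite_toSet))
    refine finitePresentation_localized _ (LS.liftQ qS hLS)
      (fun x => by obtain ⟨v, rfl⟩ := hqS x; exact ⟨Submodule.Quotient.mk v, rfl⟩) fun w hw => ?_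
    obtain ⟨v', rfl⟩ := LS.mkQ_surjective w
    obtain ⟨v, rfl⟩ := hν v'
    obtain ⟨k, hk⟩ := ht₁ v hw
    refine ⟨k, ?_⟩
    rw [← map_smul, Submodule.mkQ_apply, Submodule.Quotient.mk_eq_zero, ← map_pow, algebraMap_smul,
      ← LinearMap.map_smul_of_tower]
    generalize (f₁ * f₂) ^ k • v = w at hk
    induction hk using Submodule.span_induction with
    | mem w hw => exact Submodule.subset_span ⟨w, hw, rfl⟩
    | zero => rw [map_zero]; exact zero_mem _
    | add p q _ _ hp hq => rw [map_add]; exact add_mem hp hq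
    | smul c p _ hp => rw [map_smul]; exact LS.smul_of_tower_mem c hp

end Groth.Agent.FlatOpen
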