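import Groth.Agent.FlatOpen.Slice
import Mathlib.RingTheory.Regular.RegularSequence
import Mathlib.RingTheory.IsTensorProduct
import Mathlib.LinearAlgebra.TensorProduct.RightExactness

/-!
# Slicing by a sequence regular on the fibre

* `flatAt_of_linearEquiv`: `FlatAt` along a linear equivalence.
* `exists_slice_seq`: a sequence regular on the fibre at `Q` is, near `Q`, regular with flat quotients.
* `isWeaklyRegular_baseChange`: such a sequence stays regular after any base change.
-/

set_option autoImplicit false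
set_option linter.style.haveILetI false

universe u

open TensorProduct Function RingTheory.Sequence

namespace Groth.Agent.FlatOpen

variable {R S : Type u} [CommRing R] [CommRing S] [Algebra R S]

theorem flatAt_of_linearEquiv {M N : Type u} [AddCommGroup M] [Module S M] [Module R M] [IsScalarTower R S M]
    [AddCommGroup N] [Module S N] [Module R N] [IsScalarTower R S N] (Q : Ideal S) [Q.IsPrime]
    (e : M ≃ₗ[S] N) (h : FlatCA.FlatAt R Q M) : FlatCA.FlatAt R Q N := by
  haveI : Module.Flat R (LocalizedModule Q.primeCompl M) := h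
  let φ : M →ₗ[S] LocalizedModule Q.primeCompl N :=
    (LocalizedModule.mkLinearMap Q.primeCompl N).comp e.toLinearMap
  exact Module.Flat.of_linearEquiv
    ((IsLocalizedModule.iso Q.primeCompl φ).restrictScalars R).symm

/-- An element killed near each prime of `D(g)` is killed by a power of `g`. -/
theorem exists_pow_smul_of_pointwise {M : Type u} [AddCommGroup M] [Module S M] (g : S) (m : M)
    (h : ∀ P : PrimeSpectrum S, g ∉ P.asIdeal → ∃ s ∉ P.asIdeal, s • m = 0) :
    ∃ n : ℕ, g ^ n • m = 0 := by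
  let A : Ideal S := LinearMap.ker (LinearMap.toSpanSingleton S M m)
  have hgA : g ∈ A.radical := by
    rw [Ideal.radical_eq_sInf, Ideal.mem_sInf]
    rintro P ⟨hAP, hP⟩
    by_contra hgP
    obtain ⟨s, hs, hsm⟩ := h ⟨P, hP⟩ hgP
    exact hs (hAP hsm)
  obtain ⟨N, hN⟩ := hgA
  exact ⟨N, hN⟩

/-- EGA IV 11.3.8 for a sequence. -/
theorem exists_slice_seq [Algebra.FinitePresentation R S] (Q : Ideal S) [Q.IsPrime]
    (hflat : FlatCA.FlatAt R Q S) (hs : List S)
    (hreg : ∀ (k : ℕ) (hk : k < hs.length) (m : S),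
      hs[k] * m ∈ (Q.comap (algebraMap R S)).map (algebraMap R S) ⊔ Ideal.ofList (hs.take k) →
      ∃ s ∉ Q, s * m ∈ (Q.comap (algebraMap R S)).map (algebraMap R S) ⊔ Ideal.ofList (hs.take k)) :
    ∃ g ∉ Q, ∀ (S' : Type u) [CommRing S'] [Algebra S S'] [Algebra R S'] [IsScalarTower R S S']
      [IsLocalization.Away g S'],
      IsWeaklyRegular S' (hs.map (algebraMap S S')) ∧
        ∀ k, k ≤ hs.length →
          Module.Flat R (S' ⧸ Ideal.ofList ((hs.map (algebraMap S S')).take k)) := by
  let I := (Q.comap (algebraMap R S)).map (algebraMap R S)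
  let M : ℕ → Type u := fun k => S ⧸ Ideal.ofList (hs.take k)
  have hfp : ∀ k, Module.FinitePresentation S (M k) := fun k =>
    Module.finitePresentation_of_surjective (Ideal.ofList (hs.take k)).mkQ
      (Submodule.mkQ_surjective _) (by
        rw [Submodule.ker_mkQ]
        exact Submodule.fg_span (List.finite_toSet _))
  let u : ∀ k, k < hs.length → (M k →ₗ[S] M k) := fun k hk => LinearMap.lsmul S (M k) hs[k]
  have hcok : ∀ k (hk : k < hs.length), Nonempty ((M k ⧸ LinearMap.range (u k hk)) ≃ₗ[S] M (k + 1)) := by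
    intro k hk
    let π : S →ₗ[S] M k ⧸ LinearMap.range (u k hk) :=
      (LinearMap.range (u k hk)).mkQ.comp (Ideal.ofList (hs.take k)).mkQ
    have hπ : Surjective π := (Submodule.mkQ_surjective _).comp (Submodule.mkQ_surjective _)
    have hker : LinearMap.ker π = Ideal.ofList (hs.take (k + 1)) := by
      ext c
      rw [List.take_add_one, List.getElem?_eq_getElem hk, Option.toList_some, Ideal.ofList_append,
        Ideal.ofList_singleton, LinearMap.mem_ker, LinearMap.comp_apply, Submodule.mkQ_apply,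
        Submodule.Quotient.mk_eq_zero, LinearMap.mem_range, Submodule.mem_sup]
      constructor
      · rintro ⟨m, hm⟩
        obtain ⟨m, rfl⟩ := Submodule.mkQ_surjective _ m
        refine ⟨c - hs[k] * m, (Submodule.Quotient.eq _).1 hm.symm, hs[k] * m,
          Ideal.mem_span_singleton'.2 ⟨m, mul_comm _ _⟩, sub_add_cancel _ _⟩
      · rintro ⟨a, ha, b, hb, rfl⟩
        obtain ⟨m, rfl⟩ := Ideal.mem_span_singleton'.1 hb
        refine ⟨Submodule.mkQ _ m, (Submodule.Quotient.eq _).2 ?_⟩
        have : hs[k] • m - (a + m * hs[k]) = -a := by rw [smul_eq_mul]; ring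
        rw [this]
        exact neg_mem ha
    exact ⟨(π.quotKerEquivOfSurjective hπ).symm.trans (Submodule.quotEquivOfEq _ _ hker)⟩
  have hfl : ∀ k, k ≤ hs.length → FlatCA.FlatAt R Q (M k) := by
    intro k
    induction k with
    | zero =>
      intro _
      exact flatAt_of_linearEquiv Q ((Submodule.quotEquivOfEqBot _ Ideal.ofList_nil).symm) hflat
    | succ k ih =>
      intro hk
      obtain ⟨ε⟩ := hcok k hk
      haveI := hfp k
      refine flatAt_of_linearEquiv Q ε (injective_coker_flat_of_fibEq R S (u k hk) Q (ih (Nat.le_of_lt hk))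
        fun m hm => ?_).1
      obtain ⟨m, rfl⟩ := Submodule.mkQ_surjective _ m
      have hI : ∀ c : S, (Ideal.ofList (hs.take k)).mkQ c ∈ I • (⊤ : Submodule S (M k)) ↔
          c ∈ I ⊔ Ideal.ofList (hs.take k) := fun c => by
        rw [← Submodule.mem_comap, show (⊤ : Submodule S (M k)) =
          (⊤ : Submodule S S).map (Ideal.ofList (hs.take k)).mkQ from by
            rw [Submodule.map_top, Submodule.range_mkQ],
          ← Submodule.map_smul'', Submodule.comap_map_eq, Submodule.ker_mkQ, smul_eq_mul,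
          ← Ideal.one_eq_top, mul_one]
      obtain ⟨s, hsQ, hsm⟩ := hreg k hk m ((hI _).1 (by exact hm))
      exact ⟨s, hsQ, (hI _).2 hsm⟩
  let O : Fin hs.length → Set (PrimeSpectrum S) := fun k =>
    {P : PrimeSpectrum S | FlatCA.FlatAt R P.asIdeal (M k ⧸ LinearMap.range (u k k.2)) ∧
      ∀ m : M k, u k k.2 m = 0 → ∃ s ∉ P.asIdeal, s • m = 0}
  have hopen : IsOpen ({P : PrimeSpectrum S | FlatCA.FlatAt R P.asIdeal S} ∩ ⋂ k, O k) :=
    (isOpen_flatLocus R S S).inter (isOpen_iInter_of_finite fun k => by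
      haveI := hfp k
      exact isOpen_injective_coker_flat R S (u k k.2))
  have hmem : (⟨Q, inferInstance⟩ : PrimeSpectrum S) ∈
      {P : PrimeSpectrum S | FlatCA.FlatAt R P.asIdeal S} ∩ ⋂ k, O k := by
    refine ⟨hflat, Set.mem_iInter.2 fun k => ?_⟩
    haveI := hfp k
    refine injective_coker_flat_of_fibEq R S (u k k.2) Q (hfl k (Nat.le_of_lt k.2)) fun m hm => ?_
    obtain ⟨m, rfl⟩ := Submodule.mkQ_surjective _ m
    have hI : ∀ c : S, (Ideal.ofList (hs.take k)).mkQ c ∈ I • (⊤ : Submodule S (M k)) ↔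
        c ∈ I ⊔ Ideal.ofList (hs.take k) := fun c => by
      rw [← Submodule.mem_comap, show (⊤ : Submodule S (M k)) =
        (⊤ : Submodule S S).map (Ideal.ofList (hs.take k)).mkQ from by
          rw [Submodule.map_top, Submodule.range_mkQ],
        ← Submodule.map_smul'', Submodule.comap_map_eq, Submodule.ker_mkQ, smul_eq_mul,
        ← Ideal.one_eq_top, mul_one]
    obtain ⟨s, hsQ, hsm⟩ := hreg k k.2 m ((hI _).1 (by exact hm))
    exact ⟨s, hsQ, (hI _).2 hsm⟩
  obtain ⟨-, ⟨_, ⟨g, rfl⟩, rfl⟩, hgQ, hg⟩ :=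
    PrimeSpectrum.isBasis_basic_opens.exists_subset_of_mem_open hmem hopen
  refine ⟨g, hgQ, fun S' _ _ _ _ _ => ?_⟩
  haveI : IsLocalizedModule (Submonoid.powers g) (Algebra.linearMap S S') :=
    (isLocalizedModule_iff_isLocalization' _ _).2 inferInstance
  have heq : ∀ k, (Ideal.ofList (hs.take k)).localized' S' (Submonoid.powers g) (Algebra.linearMap S S') =
      Ideal.ofList ((hs.map (algebraMap S S')).take k) := fun k => by
    rw [← List.map_take, Ideal.localized'_eq_map, Ideal.map_ofList]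
  let φ : ∀ k, M k →ₗ[S] S' ⧸ Ideal.ofList ((hs.map (algebraMap S S')).take k) := fun k =>
    ((Submodule.quotEquivOfEq _ _ (heq k)).restrictScalars S).toLinearMap.comp
      (Submodule.toLocalizedQuotient' S' (Submonoid.powers g) (Algebra.linearMap S S')
        (Ideal.ofList (hs.take k)))
  haveI : ∀ k, IsLocalizedModule (Submonoid.powers g) (φ k) := fun k =>
    IsLocalizedModule.of_linearEquiv _ _ _
  refine ⟨⟨fun k hk => ?_⟩, fun k hk => ?_⟩
  · rw [List.length_map] at hk
    intro a b hab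
    let T := S' ⧸ Ideal.ofList ((hs.map (algebraMap S S')).take k)
    have key : ∀ z : T, algebraMap S S' hs[k] • z = 0 → z = 0 := by
      intro z hz
      obtain ⟨⟨m, t⟩, ht⟩ := IsLocalizedModule.surj (Submonoid.powers g) (φ k) z
      have h0 : φ k (hs[k] • m) = 0 := by
        rw [map_smul, ← ht, smul_comm, ← algebraMap_smul S' hs[k] z, hz, smul_zero]
      obtain ⟨⟨t', j, rfl⟩, hj⟩ := (IsLocalizedModule.eq_zero_iff (Submonoid.powers g) (φ k)).1 h0
      obtain ⟨N, hN⟩ := exists_pow_smul_of_pointwise g (g ^ j • m) fun P hP =>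
        (Set.mem_iInter.1 (hg (show P ∈ ↑(PrimeSpectrum.basicOpen g) from hP)).2 ⟨k, hk⟩).2 _
          (by show hs[k] • g ^ j • m = 0
              rw [smul_comm]; exact hj)
      have h1 : φ k m = 0 := (IsLocalizedModule.eq_zero_iff (Submonoid.powers g) (φ k)).2
        ⟨⟨g ^ (N + j), N + j, rfl⟩, by
          show g ^ (N + j) • m = 0
          rw [pow_add, mul_smul]; exact hN⟩
      rw [← ht] at h1
      exact ((Module.End.isUnit_iff _).1 (IsLocalizedModule.map_units (φ k) t)).1 (by simpa [Submonoid.smul_def] using h1)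
    have hsub : ∀ z, z ∈ (Ideal.ofList ((hs.map (algebraMap S S')).take k) • ⊤ : Submodule S' S') ↔
        z ∈ Ideal.ofList ((hs.map (algebraMap S S')).take k) := fun z => by
      rw [smul_eq_mul, ← Ideal.one_eq_top, mul_one]
    obtain ⟨a, rfl⟩ := Submodule.mkQ_surjective _ a
    obtain ⟨b, rfl⟩ := Submodule.mkQ_surjective _ b
    refine (Submodule.Quotient.eq _).2 ((hsub _).2 ((Submodule.Quotient.mk_eq_zero _).1
      (key (Submodule.Quotient.mk (a - b)) ?_)))
    refine (Submodule.Quotient.mk_eq_zero _).2 ((hsub _).1 ?_)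
    show algebraMap S S' hs[k] • (a - b) ∈ Ideal.ofList ((hs.map (algebraMap S S')).take k) • (⊤ : Submodule S' S')
    rw [smul_sub]
    refine (Submodule.Quotient.eq _).1 ?_
    have h2 := hab
    simp only [List.getElem_map] at h2
    exact h2
  · refine flat_of_flatAt_basicOpen (R := R) g (φ k) fun P hP hgP => ?_
    have hP' := hg (show (⟨P, hP⟩ : PrimeSpectrum S) ∈ ↑(PrimeSpectrum.basicOpen g) from hgP)
    rcases k with _ | k
    · exact flatAt_of_linearEquiv P ((Submodule.quotEquivOfEqBot _ Ideal.ofList_nil).symm) hP'.1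
    · obtain ⟨ε⟩ := hcok k hk
      exact flatAt_of_linearEquiv P ε (Set.mem_iInter.1 hP'.2 ⟨k, hk⟩).1

theorem mem_of_includeRight_mul_mem (A : Type u) [CommRing A] [Algebra R A] (K : Ideal S) (c : S)
    (hinj : ∀ m : S, c * m ∈ K → m ∈ K) [Module.Flat R (S ⧸ (K ⊔ Ideal.span {c}))] (z : A ⊗[R] S)
    (hz : (1 : A) ⊗ₜ[R] c * z ∈ K.map (Algebra.TensorProduct.includeRight : S →ₐ[R] A ⊗[R] S)) :
    z ∈ K.map (Algebra.TensorProduct.includeRight : S →ₐ[R] A ⊗[R] S) := by
  let ψ : S →ₗ[R] S ⧸ K := (Ideal.Quotient.mkₐ R K).toLinearMap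
  let h : S ⧸ K →ₗ[R] S ⧸ K := LinearMap.mulLeft R (Ideal.Quotient.mk K c)
  let π : S ⧸ K →ₗ[R] S ⧸ (K ⊔ Ideal.span {c}) :=
    (Ideal.Quotient.factorₐ R (show K ≤ K ⊔ Ideal.span {c} from le_sup_left)).toLinearMap
  have hπ : Surjective π := fun y => by
    obtain ⟨y, rfl⟩ := Ideal.Quotient.mk_surjective y
    exact ⟨Ideal.Quotient.mk K y, rfl⟩
  have hex : Exact h π := fun y => by
    obtain ⟨y, rfl⟩ := Ideal.Quotient.mk_surjective y
    show Ideal.Quotient.mk (K ⊔ Ideal.span {c}) y = 0 ↔ _
    rw [Ideal.Quotient.eq_zero_iff_mem, Submodule.mem_sup]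
    constructor
    · rintro ⟨a, ha, b, hb, rfl⟩
      obtain ⟨m, rfl⟩ := Ideal.mem_span_singleton'.1 hb
      refine ⟨Ideal.Quotient.mk K m, ?_⟩
      show Ideal.Quotient.mk K c * Ideal.Quotient.mk K m = _
      rw [map_add, Ideal.Quotient.eq_zero_iff_mem.2 ha, zero_add, ← map_mul, mul_comm]
    · rintro ⟨m, hm⟩
      obtain ⟨m, rfl⟩ := Ideal.Quotient.mk_surjective m
      replace hm : Ideal.Quotient.mk K (c * m) = Ideal.Quotient.mk K y := (map_mul _ _ _).trans hm
      refine ⟨y - c * m, Ideal.Quotient.eq.1 hm.symm, c * m,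
        Ideal.mem_span_singleton'.2 ⟨m, mul_comm _ _⟩, sub_add_cancel _ _⟩
  have hh : Injective h := by
    rw [injective_iff_map_eq_zero]
    intro m hm
    obtain ⟨m, rfl⟩ := Ideal.Quotient.mk_surjective m
    replace hm : Ideal.Quotient.mk K (c * m) = 0 := (map_mul _ _ _).trans hm
    exact Ideal.Quotient.eq_zero_iff_mem.2 (hinj m (Ideal.Quotient.eq_zero_iff_mem.1 hm))
  have hT : Injective (h.lTensor A) := LocFlat.lTensor_injective_of_flat_coker h π hex hπ hh A
  have hker : RingHom.ker (Algebra.TensorProduct.map (AlgHom.id R A) (Ideal.Quotient.mkₐ R K)) =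
      K.map (Algebra.TensorProduct.includeRight : S →ₐ[R] A ⊗[R] S) := by
    rw [Algebra.TensorProduct.lTensor_ker _ (Ideal.Quotient.mkₐ_surjective R K),
      show RingHom.ker (Ideal.Quotient.mkₐ R K) = K from Ideal.mk_ker]
  have hmul : ∀ w, h.lTensor A (ψ.lTensor A w) = ψ.lTensor A ((1 : A) ⊗ₜ[R] c * w) := fun w => by
    induction w with
    | zero => simp only [mul_zero, map_zero]
    | add x y hx hy => simp only [map_add, mul_add, hx, hy]
    | tmul a m => simp [ψ, h, Algebra.TensorProduct.tmul_mul_tmul]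
  rw [← hker, RingHom.mem_ker] at hz ⊢
  change ψ.lTensor A ((1 : A) ⊗ₜ[R] c * z) = 0 at hz
  rw [← hmul] at hz
  exact hT (hz.trans (map_zero _).symm)

/-- A regular sequence with flat quotients stays regular after base change. -/
theorem isWeaklyRegular_baseChange {A D : Type u} [CommRing A] [Algebra R A] [CommRing D]
    [Algebra R D] [Algebra A D] [Algebra S D] [IsScalarTower R A D] [IsScalarTower R S D]
    [Algebra.IsPushout R A S D] (hs : List S) (hreg : IsWeaklyRegular S hs)
    (hflat : ∀ k, k ≤ hs.length → Module.Flat R (S ⧸ Ideal.ofList (hs.take k))) :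
    IsWeaklyRegular D (hs.map (algebraMap S D)) := by
  let e : A ⊗[R] S ≃ₐ[A] D := Algebra.IsPushout.equiv R A S D
  have he : ∀ c, e ((1 : A) ⊗ₜ[R] c) = algebraMap S D c := fun c => by
    simp [e, Algebra.IsPushout.equiv_tmul]
  suffices hT : IsWeaklyRegular (A ⊗[R] S)
      (hs.map (Algebra.TensorProduct.includeRight : S →ₐ[R] A ⊗[R] S)) by
    refine (e.toAddEquiv.isWeaklyRegular_congr ?_).1 hT
    rw [List.forall₂_map_left_iff, List.forall₂_map_right_iff, List.forall₂_same]
    intro c _ z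
    show e ((1 : A) ⊗ₜ[R] c * z) = algebraMap S D c * e z
    rw [map_mul, he]
  have hsub : ∀ {T : Type u} [CommRing T] (J : Ideal T), (J • ⊤ : Submodule T T) = J := fun J => by
    rw [smul_eq_mul, ← Ideal.one_eq_top, mul_one]
  refine ⟨fun k hk => ?_⟩
  rw [List.length_map] at hk
  intro a b hab
  obtain ⟨a, rfl⟩ := Submodule.mkQ_surjective _ a
  obtain ⟨b, rfl⟩ := Submodule.mkQ_surjective _ b
  refine (Submodule.Quotient.eq _).2 ((hsub _).ge ?_)
  have hab' := (hsub _).le ((Submodule.Quotient.eq _).1 hab)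
  simp only [List.getElem_map, smul_eq_mul, ← mul_sub] at hab'
  have hK : Ideal.ofList ((hs.map (Algebra.TensorProduct.includeRight : S →ₐ[R] A ⊗[R] S)).take k) =
      (Ideal.ofList (hs.take k)).map (Algebra.TensorProduct.includeRight : S →ₐ[R] A ⊗[R] S) := by
    rw [← List.map_take]
    exact (Ideal.map_ofList (Algebra.TensorProduct.includeRight : S →ₐ[R] A ⊗[R] S).toRingHom _).symm
  rw [hK] at hab' ⊢
  haveI : Module.Flat R (S ⧸ (Ideal.ofList (hs.take k) ⊔ Ideal.span {hs[k]})) := by
    haveI := hflat (k + 1) hk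
    exact Module.Flat.of_linearEquiv (((Submodule.quotEquivOfEq _ _ (show
      Ideal.ofList (hs.take k) ⊔ Ideal.span {hs[k]} = Ideal.ofList (hs.take (k + 1)) by
        rw [List.take_add_one, List.getElem?_eq_getElem hk, Option.toList_some, Ideal.ofList_append,
          Ideal.ofList_singleton])) : _ ≃ₗ[S] _).restrictScalars R)
  refine mem_of_includeRight_mul_mem A _ hs[k] (fun m hm => ?_) (a - b) hab'
  have h0 := hreg.regular_mod_prev k hk
  have h1 := h0 (a₁ := Submodule.Quotient.mk m) (a₂ := 0) (by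
    show hs[k] • Submodule.Quotient.mk m = hs[k] • 0
    rw [smul_zero, ← Submodule.Quotient.mk_smul, Submodule.Quotient.mk_eq_zero, hsub]
    exact hm)
  rwa [Submodule.Quotient.mk_eq_zero, hsub] at h1

end Groth.Agent.FlatOpen
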