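import Groth.Agent.FlatOpen.FibreCrit

/-!
# The fibrewise criterion of flatness (EGA IV 11.3.10)

* `exists_ring_model`: an fp algebra is a base change of a finite type algebra over a Noetherian ring.
* `fibre_flat_criterion`: `B`, `C` fp, `M` fp over `C`, `M_Q` flat over `R` and flat on the fibre ⟹
  `M` is flat over `B` at `Q`.
* `flat_base_of_fibre`: then `B_q` is flat over `R` if `M_Q ≠ 0`.
-/

set_option autoImplicit false
set_option linter.style.haveILetI false

universe u

open TensorProduct Function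

attribute [local instance] Algebra.TensorProduct.rightAlgebra

namespace Groth.Agent.FlatOpen

set_option maxHeartbeats 1000000 in
/-- A quotient of a polynomial ring is a pushout of its model. -/
theorem exists_pushout_of_presentation (R₀ R B : Type u) [CommRing R₀] [CommRing R] [CommRing B]
    [Algebra R₀ R] [Algebra R B] [Algebra R₀ B] [IsScalarTower R₀ R B] {m : ℕ}
    (π : MvPolynomial (Fin m) R →ₐ[R] B) (hπ : Surjective π)
    (J₀ : Ideal (MvPolynomial (Fin m) R₀))
    (hJ : J₀.map (MvPolynomial.map (algebraMap R₀ R)) = RingHom.ker π.toRingHom) :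
    ∃ (B₀ : Type u) (_ : CommRing B₀) (_ : Algebra R₀ B₀) (_ : Algebra B₀ B)
      (_ : IsScalarTower R₀ B₀ B), Algebra.FiniteType R₀ B₀ ∧ Algebra.IsPushout R₀ R B₀ B ∧
        ∀ w, π (MvPolynomial.map (algebraMap R₀ R) w) ∈ Set.range (algebraMap B₀ B) := by
  let P₀ := MvPolynomial (Fin m) R₀
  let P := MvPolynomial (Fin m) R
  letI := MvPolynomial.algebraMvPolynomial (σ := Fin m) (R := R₀) (S := R)
  let ψ := MvPolynomial.map (σ := Fin m) (algebraMap R₀ R)
  letI : Algebra P B := π.toRingHom.toAlgebra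
  letI : Algebra P₀ B := (π.toRingHom.comp ψ).toAlgebra
  haveI : IsScalarTower P₀ P B := IsScalarTower.of_algebraMap_eq' rfl
  haveI : IsScalarTower R P B := IsScalarTower.of_algebraMap_eq fun a => (π.commutes a).symm
  haveI : IsScalarTower R₀ P B := IsScalarTower.of_algebraMap_eq fun a => by
    rw [IsScalarTower.algebraMap_apply R₀ R P, ← IsScalarTower.algebraMap_apply R P B]
    exact IsScalarTower.algebraMap_apply R₀ R B a
  have hker : J₀ ≤ RingHom.ker (π.toRingHom.comp ψ) := by
    rw [← RingHom.comap_ker, ← Ideal.map_le_iff_le_comap]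
    exact hJ.le
  let B₀ := P₀ ⧸ J₀
  letI : Algebra B₀ B := RingHom.toAlgebra (R := P₀ ⧸ J₀) (Ideal.Quotient.lift J₀ (π.toRingHom.comp ψ) hker)
  haveI : IsScalarTower P₀ B₀ B :=
    IsScalarTower.of_algebraMap_eq (R := P₀) (S := P₀ ⧸ J₀) (A := B) fun _ => rfl
  haveI : IsScalarTower R₀ P₀ B := IsScalarTower.of_algebraMap_eq fun a => by
    show algebraMap R₀ B a = π (ψ (MvPolynomial.C a))
    rw [MvPolynomial.map_C, ← MvPolynomial.algebraMap_eq, π.commutes]
    exact IsScalarTower.algebraMap_apply R₀ R B a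
  haveI : IsScalarTower R₀ B₀ B :=
    IsScalarTower.of_algebraMap_eq (R := R₀) (S := P₀ ⧸ J₀) (A := B) fun a =>
      (IsScalarTower.algebraMap_apply R₀ P₀ B a).trans rfl
  haveI : Algebra.IsPushout P₀ P B₀ B := by
    haveI : Algebra.IsPushout P₀ P B₀ (P ⊗[P₀] B₀) := inferInstance
    let e : P ⊗[P₀] B₀ ≃ₐ[P] B :=
      (Algebra.TensorProduct.quotIdealMapEquivTensorQuot P J₀).symm.trans
        ((Ideal.quotientEquivAlgOfEq P (hJ.trans (by ext; rfl))).trans
          (Ideal.quotientKerAlgEquivOfSurjective (f := Algebra.ofId P B) hπ))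
    refine Algebra.IsPushout.of_equiv (S' := P ⊗[P₀] B₀) e (RingHom.ext fun x => ?_)
    obtain ⟨x, rfl⟩ := Ideal.Quotient.mk_surjective x
    show e ((1 : P) ⊗ₜ[P₀] (Ideal.Quotient.mk J₀ x : P₀ ⧸ J₀)) = π (ψ x)
    rw [show ((1 : P) ⊗ₜ[P₀] (Ideal.Quotient.mk J₀ x : P₀ ⧸ J₀)) = algebraMap P (P ⊗[P₀] (P₀ ⧸ J₀)) (ψ x) from
      (Algebra.TensorProduct.algebraMap_apply' (R := P₀) (A := P) (B := P₀ ⧸ J₀) x).symm.trans
        (IsScalarTower.algebraMap_apply P₀ P (P ⊗[P₀] (P₀ ⧸ J₀)) x), AlgEquiv.commutes]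
    rfl
  haveI : Algebra.IsPushout R₀ P₀ R P := Algebra.IsPushout.symm inferInstance
  haveI : Algebra.IsPushout P₀ B₀ P B := Algebra.IsPushout.symm inferInstance
  haveI : Algebra.IsPushout R₀ B₀ R B :=
    (Algebra.IsPushout.comp_iff R₀ P₀ R P (T := B₀) (T' := B)).2 inferInstance
  exact ⟨B₀, inferInstance, inferInstance, inferInstance, inferInstance, inferInstance,
    Algebra.IsPushout.symm inferInstance, fun w => ⟨Ideal.Quotient.mk J₀ w, rfl⟩⟩

/-- An fp algebra is a base change of a finite type algebra over a Noetherian ring, which hits a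
given finite set. -/
theorem exists_ring_model (R B : Type u) [CommRing R] [CommRing B] [Algebra R B]
    [Algebra.FinitePresentation R B] (c : Finset B) :
    ∃ (R₀ : Subalgebra ℤ R) (B₀ : Type u) (_ : CommRing B₀) (_ : Algebra R₀ B₀) (_ : Algebra B₀ B)
      (_ : IsScalarTower R₀ B₀ B),
      R₀.FG ∧ Algebra.FiniteType R₀ B₀ ∧ Algebra.IsPushout R₀ R B₀ B ∧
        ∀ x ∈ c, x ∈ Set.range (algebraMap B₀ B) := by
  classical
  obtain ⟨m, π, hπ, F, hF⟩ := (inferInstance : Algebra.FinitePresentation R B).out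
  choose l hl using fun x : B => hπ x
  let co : Finset R := (F.biUnion fun v => v.coeffs) ∪ c.biUnion fun x => (l x).coeffs
  let R₀ := Algebra.adjoin ℤ (co : Set R)
  let P₀ := MvPolynomial (Fin m) R₀
  let P := MvPolynomial (Fin m) R
  letI := MvPolynomial.algebraMvPolynomial (σ := Fin m) (R := R₀) (S := R)
  let ψ := MvPolynomial.map (σ := Fin m) (algebraMap R₀ R)
  have hlift : ∀ v : P, (∀ x ∈ v.coeffs, x ∈ co) → v ∈ Set.range ψ := fun v hv =>
    MvPolynomial.mem_range_map_iff_coeffs_subset.2 fun x hx =>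
      ⟨⟨x, Algebra.subset_adjoin (hv x hx)⟩, rfl⟩
  choose! v₀ hv₀ using fun v (hv : v ∈ F) => hlift v fun x hx =>
    Finset.mem_union_left _ (Finset.mem_biUnion.2 ⟨v, hv, hx⟩)
  let J₀ : Ideal P₀ := Ideal.span (v₀ '' (F : Set P))
  have hJ : J₀.map (algebraMap P₀ P) = RingHom.ker π.toRingHom := by
    rw [Ideal.map_span, Set.image_image, ← hF]
    exact congrArg _ ((Set.image_congr hv₀).trans (Set.image_id' _))
  obtain ⟨B₀, i₁, i₂, i₃, i₄, hft, hpo, hrange⟩ := exists_pushout_of_presentation R₀ R B π hπ J₀ hJ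
  refine ⟨R₀, B₀, i₁, i₂, i₃, i₄, ⟨co, rfl⟩, hft, hpo, fun x hx => ?_⟩
  obtain ⟨w, hw⟩ := hlift (l x) fun y hy =>
    Finset.mem_union_right _ (Finset.mem_biUnion.2 ⟨x, hx, hy⟩)
  obtain ⟨z, hz⟩ := hrange w
  exact ⟨z, hz.trans (show π (ψ w) = x by rw [hw, hl])⟩

/-- EGA IV 11.3.10. -/
theorem fibre_flat_criterion (R B C : Type u) [CommRing R] [CommRing B] [CommRing C] [Algebra R B]
    [Algebra B C] [Algebra R C] [IsScalarTower R B C] [Algebra.FinitePresentation R B]
    [Algebra.FinitePresentation B C] (M : Type u) [AddCommGroup M] [Module C M] [Module B M]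
    [Module R M] [IsScalarTower B C M] [IsScalarTower R C M] [IsScalarTower R B M]
    [Module.FinitePresentation C M] (Q : Ideal C) [Q.IsPrime] (hflat : FlatCA.FlatAt R Q M)
    (I : Ideal B) (hI : I = (Q.comap (algebraMap R C)).map (algebraMap R B))
    (hfib : Module.Flat (B ⧸ I) ((B ⧸ I) ⊗[B] LocalizedModule Q.primeCompl M)) :
    FlatCA.FlatAt B Q M := by
  classical
  obtain ⟨n, π, hπ, hker⟩ := (inferInstance : Algebra.FinitePresentation B C).out
  let P := MvPolynomial (Fin n) B
  letI : Algebra P C := π.toRingHom.toAlgebra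
  haveI : IsScalarTower B P C := IsScalarTower.of_algebraMap_eq fun a => (π.commutes a).symm
  haveI : Module.FinitePresentation P C :=
    Module.finitePresentation_of_surjective (Algebra.linearMap P C) hπ (by
      rw [show LinearMap.ker (Algebra.linearMap P C) = RingHom.ker π.toRingHom from by ext x; rfl]
      exact hker)
  letI : Module P M := Module.compHom M π.toRingHom
  haveI : IsScalarTower P C M := IsScalarTower.of_algebraMap_smul fun _ _ => rfl
  haveI : IsScalarTower B P M := IsScalarTower.of_algebraMap_smul fun a m => by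
    show π (algebraMap B P a) • m = a • m
    rw [π.commutes, algebraMap_smul]
  haveI : Module.FinitePresentation P M := Module.FinitePresentation.trans P M C
  obtain ⟨r, L, e, G, hG⟩ := Module.FinitePresentation.exists_fin P M
  obtain ⟨R₀, B₀, _, _, _, _, hR₀, _, _, hc⟩ :=
    exists_ring_model R B (G.biUnion fun v => Finset.univ.biUnion fun i => (v i).coeffs)
  haveI : IsNoetherianRing R₀ := isNoetherianRing_of_fg hR₀
  have hlift : ∀ v ∈ G, ∃ v₀ : Vec n r B₀, mapVec B v₀ = v := by
    intro v hv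
    have : ∀ i, ∃ w : MvPolynomial (Fin n) B₀, MvPolynomial.map (algebraMap B₀ B) w = v i :=
      fun i => MvPolynomial.mem_range_map_iff_coeffs_subset.2 fun x hx =>
        hc x (Finset.mem_biUnion.2 ⟨v, hv, Finset.mem_biUnion.2 ⟨i, Finset.mem_univ i, hx⟩⟩)
    choose w hw using this
    exact ⟨w, funext hw⟩
  choose! v₀ hv₀ using hlift
  let Z₀ : Submodule (MvPolynomial (Fin n) B₀) (Vec n r B₀) :=
    Submodule.span _ (v₀ '' (G : Set (Vec n r B)))
  have hZ : ext B Z₀ = L := by
    rw [ext_span, Set.image_image, ← hG]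
    exact congrArg _ ((Set.image_congr hv₀).trans (Set.image_id' _))
  let E : Quot B Z₀ ≃ₗ[P] M := (Submodule.quotEquivOfEq _ _ hZ).trans e.symm
  let q := Q.comap π.toRingHom
  -- flatness over `R`
  haveI : IsScalarTower R P C := IsScalarTower.of_algebraMap_eq fun a => by
    rw [IsScalarTower.algebraMap_apply R B P, ← IsScalarTower.algebraMap_apply B P C,
      ← IsScalarTower.algebraMap_apply R B C]
  haveI : IsScalarTower R P M := IsScalarTower.to₁₂₄ R P C M
  have hflat' : FlatCA.FlatAt R q (Quot B Z₀) :=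
    (flatAt_comap_iff R C (π.restrictScalars R) hπ (E.restrictScalars R) (fun c x => E.map_smul c x) Q).2 hflat
  have hqp : q.comap (algebraMap R P) = Q.comap (algebraMap R C) := by
    ext x
    show π (algebraMap R P x) ∈ Q ↔ _
    rw [IsScalarTower.algebraMap_apply R B P, π.commutes, ← IsScalarTower.algebraMap_apply]
    rfl
  -- the localizations agree
  let T := q.primeCompl
  have hT : Q.primeCompl = Algebra.algebraMapSubmonoid C T := by
    ext x
    constructor
    · intro hx
      obtain ⟨y, rfl⟩ := hπ x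
      exact ⟨y, hx, rfl⟩
    · rintro ⟨y, hy, rfl⟩
      exact hy
  haveI := isLocalizedModule_restrict T Q.primeCompl hT (LocalizedModule.mkLinearMap Q.primeCompl M)
  let g : Quot B Z₀ →ₗ[P] LocalizedModule Q.primeCompl M :=
    (LocalizedModule.mkLinearMap Q.primeCompl M).restrictScalars P ∘ₗ E.toLinearMap
  haveI : IsLocalizedModule T g := IsLocalizedModule.of_linearEquiv_right T _ E
  let J : LocalizedModule T (Quot B Z₀) ≃ₗ[B] LocalizedModule Q.primeCompl M :=
    (IsLocalizedModule.iso T g).restrictScalars B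
  refine (flatAt_comap_iff B C π hπ (E.restrictScalars B) (fun c x => E.map_smul c x) Q).1
    (presented_fibre_crit (R₀ := R₀) Z₀ q hflat' I (by rw [hI, hqp]) fun QD _ hQD =>
      (flatAt_quotient_iff Z₀ q I QD hQD).2 ?_)
  haveI := hfib
  exact Module.Flat.of_linearEquiv
    (AlgebraTensorModule.congr (LinearEquiv.refl (B ⧸ I) (B ⧸ I)) J)

/-- EGA IV 11.3.10, last part: the base is flat over `R` where the module does not vanish. -/
theorem flat_base_of_fibre (R B C : Type u) [CommRing R] [CommRing B] [CommRing C] [Algebra R B]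
    [Algebra B C] [Algebra R C] [IsScalarTower R B C] (M : Type u) [AddCommGroup M] [Module C M]
    [Module B M] [Module R M] [IsScalarTower B C M] [IsScalarTower R C M] [IsScalarTower R B M]
    [Module.Finite C M] (Q : Ideal C) [Q.IsPrime] [Nontrivial (LocalizedModule Q.primeCompl M)]
    (hflat : FlatCA.FlatAt R Q M) (hB : FlatCA.FlatAt B Q M) :
    Module.Flat R (Localization.AtPrime (Q.comap (algebraMap B C))) := by
  let Bq := Localization.AtPrime (Q.comap (algebraMap B C))
  let CQ := Localization.AtPrime Q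
  let MQ := LocalizedModule Q.primeCompl M
  let φ := Localization.localRingHom (Q.comap (algebraMap B C)) Q (algebraMap B C) rfl
  letI : Algebra Bq CQ := φ.toAlgebra
  haveI : IsLocalHom (algebraMap Bq CQ) :=
    Localization.isLocalHom_localRingHom (Q.comap (algebraMap B C)) Q (algebraMap B C) rfl
  letI : Module Bq MQ := Module.compHom MQ φ
  haveI : IsScalarTower Bq CQ MQ := IsScalarTower.of_algebraMap_smul fun _ _ => rfl
  haveI : IsScalarTower B Bq MQ := IsScalarTower.of_algebraMap_smul fun b z => by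
    show φ (algebraMap B Bq b) • z = b • z
    rw [Localization.localRingHom_to_map, algebraMap_smul, algebraMap_smul]
  haveI : IsScalarTower R Bq MQ := IsScalarTower.of_algebraMap_smul fun a z => by
    rw [IsScalarTower.algebraMap_apply R B Bq, algebraMap_smul, algebraMap_smul]
  haveI : Module.Flat B MQ := hB
  haveI : Module.Flat R MQ := hflat
  haveI : Module.Flat Bq MQ :=
    (Module.flat_iff_of_isLocalization Bq (Q.comap (algebraMap B C)).primeCompl MQ).mpr inferInstance
  haveI : Module.FaithfullyFlat Bq MQ := LocFlat.faithfullyFlat_of_local (S' := CQ) MQ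
  exact LocFlat.flat_of_faithfullyFlat_tower (S := Bq) MQ

end Groth.Agent.FlatOpen
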