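import Groth.Agent.EtStruct.BaseChangeDescentScheme
import Groth.Agent.FlatMor.FibreStalk
import Groth.Agent.UnramFib.Field
import Mathlib.AlgebraicGeometry.Morphisms.SmoothFiber

/-!
# Smoothness at a point: flat with smooth fibre

* `formallySmooth_of_closedFibre`: essentially fp, flat, smooth closed fibre ⇒ smooth.
* `formallySmooth_fibre_iff`: the fibre's stalk map against `κ(s) → O_{X,x}/𝔪_s O_{X,x}`.
* `Scheme.formallySmooth_stalkMap_iff_fibre`: the pointwise criterion (EGA IV 17.5.1).
-/

set_option autoImplicit false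
set_option linter.style.haveILetI false

universe u

open CategoryTheory Limits AlgebraicGeometry IsLocalRing
open scoped TensorProduct

namespace Groth.Agent.FlatOpen.SmoothAt

/-- The map on closed fibres. -/
abbrev closedMap {A B : Type u} [CommRing A] [CommRing B] [IsLocalRing A] (φ : A →+* B) :
    A ⧸ maximalIdeal A →+* B ⧸ (maximalIdeal A).map φ :=
  Ideal.quotientMap _ φ Ideal.le_comap_map

theorem closedMap_formallySmooth_iff {A B : Type u} [CommRing A] [CommRing B] [IsLocalRing A]
    [Algebra A B] : (closedMap (algebraMap A B)).FormallySmooth ↔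
      Algebra.FormallySmooth (ResidueField A) (ResidueField A ⊗[A] B) := by
  have h : closedMap (algebraMap A B) =
      algebraMap (A ⧸ maximalIdeal A) (B ⧸ (maximalIdeal A).map (algebraMap A B)) :=
    RingHom.ext fun x => by
      obtain ⟨x, rfl⟩ := Ideal.Quotient.mk_surjective x
      rfl
  rw [h, RingHom.formallySmooth_algebraMap]
  exact (Algebra.FormallySmooth.iff_of_equiv (R := A ⧸ maximalIdeal A)
    (A := B ⧸ (maximalIdeal A).map (algebraMap A B)) (B := (A ⧸ maximalIdeal A) ⊗[A] B)
    (Algebra.TensorProduct.quotIdealMapEquivQuotTensor B (maximalIdeal A))).trans Iff.rfl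

/-- Essentially fp, flat, smooth closed fibre ⇒ smooth. -/
theorem formallySmooth_of_closedFibre {R C A B : Type u} [CommRing R] [CommRing C] [CommRing A]
    [CommRing B] [Algebra R C] [Algebra.FinitePresentation R C] [Algebra R A] [Algebra C B]
    [Algebra R B] [Algebra A B] [IsScalarTower R A B] [IsScalarTower R C B]
    (p : Ideal R) [p.IsPrime] [IsLocalization.AtPrime A p]
    (q : Ideal C) [q.IsPrime] [IsLocalization.AtPrime B q] [IsLocalRing A] [IsLocalRing B]
    [IsLocalHom (algebraMap A B)] [Module.Flat A B]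
    (h : (closedMap (algebraMap A B)).FormallySmooth) : Algebra.FormallySmooth A B := by
  haveI := closedMap_formallySmooth_iff.mp h
  let M₀ := Algebra.algebraMapSubmonoid C p.primeCompl
  let P := Localization M₀
  have hM₀ : M₀ ≤ q.primeCompl := by
    rintro _ ⟨r, hr, rfl⟩ hq
    have h1 : IsUnit (algebraMap R B r) := by
      rw [IsScalarTower.algebraMap_apply R A B]
      exact (IsLocalization.map_units A (⟨r, hr⟩ : p.primeCompl)).map _
    rw [IsScalarTower.algebraMap_apply R C B] at h1
    exact ((IsLocalization.AtPrime.isUnit_to_map_iff B q _).mp h1) hq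
  let π : P →ₐ[C] B := IsLocalization.liftAlgHom (M := M₀) (f := Algebra.ofId C B) fun y =>
    IsLocalization.map_units B (⟨y, hM₀ y.2⟩ : q.primeCompl)
  letI : Algebra P B := π.toRingHom.toAlgebra
  haveI : IsScalarTower C P B := IsScalarTower.of_algebraMap_eq fun c => (π.commutes c).symm
  let ι : A →+* P := IsLocalization.lift (M := p.primeCompl) (g := algebraMap R P) fun y => by
    rw [IsScalarTower.algebraMap_apply R C P]
    exact IsLocalization.map_units P (⟨_, ⟨y, y.2, rfl⟩⟩ : M₀)
  letI : Algebra A P := ι.toAlgebra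
  haveI : IsScalarTower R A P := IsScalarTower.of_algebraMap_eq fun r =>
    (IsLocalization.lift_eq _ r).symm
  haveI : IsScalarTower A P B := IsScalarTower.of_algebraMap_eq' (by
    apply IsLocalization.ringHom_ext p.primeCompl
    rw [← IsScalarTower.algebraMap_eq, RingHom.comp_assoc, ← IsScalarTower.algebraMap_eq,
      IsScalarTower.algebraMap_eq R C P, ← RingHom.comp_assoc, ← IsScalarTower.algebraMap_eq,
      ← IsScalarTower.algebraMap_eq])
  haveI : IsLocalization (Algebra.algebraMapSubmonoid P q.primeCompl) B :=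
    .isLocalization_of_submonoid_le _ _ M₀ _ hM₀
  haveI : Algebra.FinitePresentation A P := by
    have : Algebra.IsPushout R A C P :=
      .symm <| Algebra.isPushout_of_isLocalization p.primeCompl _ _ _
    exact .equiv (Algebra.IsPushout.equiv R A C P)
  exact Algebra.FormallySmooth.of_formallySmooth_residueField_tensor (R := A) (S := B) (P := P)
    (Algebra.algebraMapSubmonoid P q.primeCompl)

/-- The stalk map of the fibre over `κ(s)` is the closed fibre of the stalk map. -/
theorem formallySmooth_fibre_iff {X S : Scheme.{u}} (f : X ⟶ S) (s : S) (y : f.fiber s) :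
    ((f.fiberToSpecResidueField s).stalkMap y).hom.FormallySmooth ↔
      (closedMap (f.stalkMap (f.fiberι s y)).hom).FormallySmooth := by
  let q := f.fiberToSpecResidueField s
  let p := f.fiberι s
  let g := S.fromSpecResidueField s
  have hsq : p ≫ f = q ≫ g := pullback.condition
  have he : g (q y) = f (p y) := by
    rw [← Scheme.Hom.comp_apply, ← Scheme.Hom.comp_apply, hsq]
  let a := S.presheaf.stalkSpecializes (specializes_of_eq he) ≫ g.stalkMap (q y)
  have ha : Function.Surjective a.hom :=
    (g.stalkMap_surjective (q y)).comp (ConcreteCategory.bijective_of_isIso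
      (S.presheaf.stalkCongr (Inseparable.of_eq he.symm)).hom).2
  have hak : RingHom.ker a.hom = maximalIdeal (S.presheaf.stalk (f (p y))) := by
    haveI : DiscreteTopology (Spec (S.residueField s)) := inferInstance
    have hF := Groth.Agent.UnramFib.isField_stalk_of_discrete (Spec (S.residueField s)) (q y)
    letI := hF.toField
    exact IsLocalRing.eq_maximalIdeal (RingHom.ker_isMaximal_of_surjective a.hom ha)
  let b := p.stalkMap y
  have hb : Function.Surjective b.hom := p.stalkMap_surjective y
  have hbk := Groth.Agent.FlatMor.FibreStalk.ker_stalkMap_fiberι f s y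
  have hcomm : a ≫ q.stalkMap y = f.stalkMap (p y) ≫ b := by
    rw [Category.assoc, ← Scheme.Hom.stalkMap_comp, ← Scheme.Hom.stalkMap_comp,
      Scheme.Hom.stalkMap_congr_hom _ _ hsq y]
    rfl
  let ea := (Ideal.quotEquivOfEq hak.symm).trans (RingHom.quotientKerEquivOfSurjective ha)
  let eb := (Ideal.quotEquivOfEq hbk.symm).trans (RingHom.quotientKerEquivOfSurjective hb)
  have key : (q.stalkMap y).hom.comp ea.toRingHom =
      eb.toRingHom.comp (closedMap (f.stalkMap (p y)).hom) := by
    refine RingHom.ext fun v => ?_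
    obtain ⟨v, rfl⟩ := Ideal.Quotient.mk_surjective v
    exact RingHom.congr_fun (congrArg CommRingCat.Hom.hom hcomm) v
  have hR := RingHom.FormallySmooth.respectsIso
  constructor
  · intro h
    have h1 := hR.2 _ ea h
    rw [key] at h1
    have h2 := hR.1 _ eb.symm h1
    rwa [← RingHom.comp_assoc, RingEquiv.toRingHom_eq_coe, RingEquiv.toRingHom_eq_coe,
      RingEquiv.symm_comp, RingHom.id_comp] at h2
  · intro h
    have h1 := hR.1 _ eb h
    rw [← key] at h1
    have h2 := hR.2 _ ea.symm h1
    rwa [RingHom.comp_assoc, RingEquiv.toRingHom_eq_coe, RingEquiv.toRingHom_eq_coe,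
      RingEquiv.comp_symm, RingHom.comp_id] at h2

/-- EGA IV 17.5.1, pointwise. -/
theorem formallySmooth_stalkMap_iff_fibre {X S : Scheme.{u}} (f : X ⟶ S)
    [LocallyOfFinitePresentation f] (s : S) (y : f.fiber s) :
    (f.stalkMap (f.fiberι s y)).hom.FormallySmooth ↔
      (f.stalkMap (f.fiberι s y)).hom.Flat ∧
        ((f.fiberToSpecResidueField s).stalkMap y).hom.FormallySmooth := by
  rw [formallySmooth_fibre_iff]
  generalize f.fiberι s y = x
  constructor
  · intro h
    refine ⟨?_, ?_⟩
    · obtain ⟨W, hxW, hW⟩ := (Groth.Agent.EtStruct.smooth_nhd_iff f x).mpr h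
      exact (Groth.Agent.EtStruct.stalkMap_ι_comp_iff f RingHom.Flat.respectsIso W ⟨x, hxW⟩).mp
        (Flat.stalkMap _ _)
    · algebraize [(f.stalkMap x).hom]
      exact closedMap_formallySmooth_iff.mpr inferInstance
  · rintro ⟨hflat, hfib⟩
    obtain ⟨U, hU, V, hV, e, hx⟩ := Groth.Agent.EtStruct.exists_chart f x
    letI : Algebra Γ(S, U) Γ(X, V) := (f.appLE U V e).hom.toAlgebra
    haveI : Algebra.FinitePresentation Γ(S, U) Γ(X, V) := f.finitePresentation_appLE hU hV e
    let A := S.presheaf.stalk (f x)
    let B := X.presheaf.stalk x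
    letI : Algebra Γ(S, U) A := S.presheaf.algebra_section_stalk ⟨f x, e hx⟩
    letI : Algebra Γ(X, V) B := X.presheaf.algebra_section_stalk ⟨x, hx⟩
    haveI : IsLocalization.AtPrime A (hU.primeIdealOf ⟨f x, e hx⟩).asIdeal :=
      hU.isLocalization_stalk ⟨f x, e hx⟩
    haveI : IsLocalization.AtPrime B (hV.primeIdealOf ⟨x, hx⟩).asIdeal :=
      hV.isLocalization_stalk ⟨x, hx⟩
    letI : Algebra A B := (f.stalkMap x).hom.toAlgebra
    letI : Algebra Γ(S, U) B :=
      ((algebraMap Γ(X, V) B).comp (algebraMap Γ(S, U) Γ(X, V))).toAlgebra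
    haveI : IsScalarTower Γ(S, U) Γ(X, V) B := IsScalarTower.of_algebraMap_eq fun _ => rfl
    haveI : IsScalarTower Γ(S, U) A B := IsScalarTower.of_algebraMap_eq fun a => by
      show X.presheaf.germ V x hx (f.appLE U V e a) =
        (f.stalkMap x).hom (S.presheaf.germ U (f x) (e hx) a)
      exact ((f.germ_stalkMap_apply U x (e hx) a).trans
        (TopCat.Presheaf.germ_res_apply X.presheaf (homOfLE e) x hx (f.app U a)).symm).symm
    haveI : IsLocalHom (algebraMap A B) := (inferInstance : IsLocalHom (f.stalkMap x).hom)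
    haveI : Module.Flat A B := hflat
    exact formallySmooth_of_closedFibre (hU.primeIdealOf ⟨f x, e hx⟩).asIdeal
      (hV.primeIdealOf ⟨x, hx⟩).asIdeal (A := A) (B := B) hfib

end Groth.Agent.FlatOpen.SmoothAt
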