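import Groth.Agent.FlatOpen.MapOpen
import Groth.Agent.LocFlat.Fibre

/-!
# The fibrewise criterion of flatness, finitely presented case (EGA IV 11.3.10)

`B` a base change of a finite type algebra `B₀` over a Noetherian `R₀`, `M = B[x]^r/ext Z₀` flat over
`R` at `Q`, flat on the fibre over `B/pB`: then `M` is flat over `B` at `Q`.
-/

set_option autoImplicit false
set_option linter.style.haveILetI false
set_option linter.unusedSectionVars false

universe u

open TensorProduct Function

attribute [local instance] Algebra.TensorProduct.rightAlgebra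

namespace Groth.Agent.FlatOpen

/-- Flatness transported along an equivalence linear over a ring surjecting to the base. -/
theorem flat_of_linearEquiv_of_surjective {B D L N : Type u} [CommRing B] [CommRing D] [Algebra B D]
    [AddCommGroup L] [Module B L] [Module D L] [IsScalarTower B D L] [AddCommGroup N] [Module B N]
    [Module D N] [IsScalarTower B D N] (h : Surjective (algebraMap B D)) [Module.Flat D L]
    (e : L ≃ₗ[B] N) : Module.Flat D N :=
  Module.Flat.of_linearEquiv (e.extendScalarsOfSurjective h).symm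

variable {R₀ B₀ : Type u} [CommRing R₀] [CommRing B₀] [Algebra R₀ B₀] {n r : ℕ}
  (Z₀ : Submodule (MvPolynomial (Fin n) B₀) (Vec n r B₀))

/-- A presented module over `B[x]` is presented over a polynomial ring over `R`, compatibly with
base change. -/
theorem exists_polynomial_model [Algebra.FiniteType R₀ B₀] [IsNoetherianRing R₀] :
    ∃ (m s : ℕ) (W₀ : Submodule (MvPolynomial (Fin m) R₀) (Vec m s R₀))
      (g : Fin m → MvPolynomial (Fin n) B₀),
      ∀ (R B : Type u) [CommRing R] [CommRing B] [Algebra R₀ R] [Algebra R B] [Algebra B₀ B]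
        [Algebra R₀ B] [IsScalarTower R₀ R B] [IsScalarTower R₀ B₀ B] [Algebra.IsPushout R₀ R B₀ B],
        Surjective (MvPolynomial.aeval (fun i => MvPolynomial.map (algebraMap B₀ B) (g i)) :
          MvPolynomial (Fin m) R →ₐ[R] MvPolynomial (Fin n) B) ∧
        ∃ E : Quot R W₀ ≃ₗ[R] Quot B Z₀, ∀ c v, E (c • v) =
          (MvPolynomial.aeval (fun i => MvPolynomial.map (algebraMap B₀ B) (g i)) :
            MvPolynomial (Fin m) R →ₐ[R] MvPolynomial (Fin n) B) c • E v := by
  classical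
  haveI : Algebra.FiniteType R₀ (MvPolynomial (Fin n) B₀) :=
    Algebra.FiniteType.trans (S := B₀) ‹_› inferInstance
  obtain ⟨m, π₀, hπ₀⟩ := Algebra.FiniteType.iff_quotient_mvPolynomial''.1
    (inferInstance : Algebra.FiniteType R₀ (MvPolynomial (Fin n) B₀))
  let P₀ := MvPolynomial (Fin m) R₀
  letI : Algebra P₀ (MvPolynomial (Fin n) B₀) := π₀.toRingHom.toAlgebra
  letI : Module P₀ (Vec n r B₀ ⧸ Z₀) := Module.compHom _ π₀.toRingHom
  haveI : IsScalarTower P₀ (MvPolynomial (Fin n) B₀) (Vec n r B₀ ⧸ Z₀) :=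
    IsScalarTower.of_algebraMap_smul fun _ _ => rfl
  haveI : IsScalarTower R₀ P₀ (Vec n r B₀ ⧸ Z₀) := IsScalarTower.of_algebraMap_smul fun a z => by
    show π₀ (algebraMap R₀ P₀ a) • z = a • z
    rw [π₀.commutes, algebraMap_smul]
  haveI : Module.Finite P₀ (MvPolynomial (Fin n) B₀) :=
    Module.Finite.of_surjective (Algebra.linearMap P₀ (MvPolynomial (Fin n) B₀)) hπ₀
  haveI : Module.Finite P₀ (Vec n r B₀ ⧸ Z₀) := Module.Finite.trans (MvPolynomial (Fin n) B₀) _
  haveI : Module.FinitePresentation P₀ (Vec n r B₀ ⧸ Z₀) :=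
    Module.finitePresentation_of_finite P₀ _
  obtain ⟨s, W₀, e, -⟩ := Module.FinitePresentation.exists_fin P₀ (Vec n r B₀ ⧸ Z₀)
  refine ⟨m, s, W₀, fun i => π₀ (MvPolynomial.X i), fun R B _ _ _ _ _ _ _ _ _ => ?_⟩
  let π : MvPolynomial (Fin m) R →ₐ[R] MvPolynomial (Fin n) B :=
    MvPolynomial.aeval (fun i => MvPolynomial.map (algebraMap B₀ B) (π₀ (MvPolynomial.X i)))
  have hπmap : ∀ c₀, π (MvPolynomial.map (algebraMap R₀ R) c₀) =
      MvPolynomial.map (algebraMap B₀ B) (π₀ c₀) := by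
    intro c₀
    induction c₀ using MvPolynomial.induction_on with
    | C a =>
      rw [MvPolynomial.map_C, show π₀ (MvPolynomial.C a) = algebraMap R₀ _ a from π₀.commutes a,
        ← MvPolynomial.algebraMap_eq, π.commutes, IsScalarTower.algebraMap_apply R₀ B₀ (MvPolynomial (Fin n) B₀),
        MvPolynomial.algebraMap_eq, MvPolynomial.map_C, ← IsScalarTower.algebraMap_apply R₀ B₀ B,
        IsScalarTower.algebraMap_apply R₀ R B]
      rw [IsScalarTower.algebraMap_apply R B (MvPolynomial (Fin n) B), MvPolynomial.algebraMap_eq]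
    | add p q hp hq => simp only [map_add, hp, hq]
    | mul_X p i hp => simp only [map_mul, hp, MvPolynomial.map_X, π, MvPolynomial.aeval_X]
  refine ⟨?_, ?_⟩
  · rw [← AlgHom.range_eq_top, eq_top_iff]
    have hC : ∀ b : B, MvPolynomial.C b ∈ π.range := by
      intro b
      obtain ⟨z, rfl⟩ := (Algebra.IsPushout.equiv R₀ R B₀ B).surjective b
      induction z with
      | zero => rw [map_zero, map_zero]; exact zero_mem _
      | tmul a b₀ =>
        rw [Algebra.IsPushout.equiv_tmul, map_mul]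
        refine mul_mem ⟨MvPolynomial.C a, ?_⟩ ?_
        · exact (π.commutes a).trans (IsScalarTower.algebraMap_apply R B _ a)
        · obtain ⟨c₀, hc₀⟩ := hπ₀ (MvPolynomial.C b₀)
          exact ⟨MvPolynomial.map (algebraMap R₀ R) c₀, (hπmap c₀).trans
            (by rw [hc₀, MvPolynomial.map_C])⟩
      | add u v hu hv => rw [map_add, map_add]; exact add_mem hu hv
    intro y hy
    clear hy
    induction y using MvPolynomial.induction_on with
    | C b => exact hC b
    | add p q hp hq => exact add_mem hp hq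
    | mul_X p i hp =>
      obtain ⟨c₀, hc₀⟩ := hπ₀ (MvPolynomial.X i)
      exact mul_mem hp ⟨MvPolynomial.map (algebraMap R₀ R) c₀, (hπmap c₀).trans
        (by rw [hc₀, MvPolynomial.map_X])⟩
  · let e₀ := e.restrictScalars R₀
    let E : Quot R W₀ ≃ₗ[R] Quot B Z₀ :=
      (quotEquiv R W₀).symm.trans ((AlgebraTensorModule.congr (LinearEquiv.refl R R) e₀.symm).trans
        ((Algebra.IsPushout.cancelBaseChange R₀ R B₀ B (Vec n r B₀ ⧸ Z₀)).symm.trans
          ((quotEquiv B Z₀).restrictScalars R)))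
    have hEmk : ∀ (v : Vec m s R₀) (w : Vec n r B₀),
        e (Submodule.Quotient.mk w) = Submodule.Quotient.mk v →
        E (Submodule.Quotient.mk (mapVec R v)) = Submodule.Quotient.mk (mapVec B w) := by
      intro v w hvw
      have h1 : (quotEquiv R W₀).symm (Submodule.Quotient.mk (mapVec R v)) =
          (1 : R) ⊗ₜ[R₀] (Submodule.Quotient.mk v) := by
        rw [LinearEquiv.symm_apply_eq, quotEquiv_tmul_mk, one_smul]
      simp only [E, LinearEquiv.trans_apply, h1, AlgebraTensorModule.congr_tmul, LinearEquiv.refl_apply,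
        ← hvw, e₀, LinearEquiv.restrictScalars_symm_apply, LinearEquiv.restrictScalars_apply,
        LinearEquiv.symm_apply_apply, Algebra.IsPushout.cancelBaseChange_symm_tmul, map_one,
        quotEquiv_tmul_mk, one_smul]
    refine ⟨E, fun c x => ?_⟩
    show E (c • x) = π c • E x
    obtain ⟨z, rfl⟩ := (quotEquiv R W₀).surjective x
    induction z with
    | zero => simp only [map_zero, smul_zero]
    | add u v hu hv => simp only [map_add, smul_add, hu, hv]
    | tmul a z =>
      obtain ⟨v, rfl⟩ := W₀.mkQ_surjective z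
      rw [Submodule.mkQ_apply, quotEquiv_tmul_mk]
      obtain ⟨w, hw⟩ := Submodule.mkQ_surjective Z₀ (e.symm (Submodule.Quotient.mk v))
      rw [Submodule.mkQ_apply, eq_comm, LinearEquiv.symm_apply_eq, eq_comm] at hw
      induction c using MvPolynomial.induction_on' with
      | add p q hp hq => simp only [add_smul, map_add, hp, hq]
      | monomial d b =>
        have hd : (MvPolynomial.monomial d b : MvPolynomial (Fin m) R) =
            b • MvPolynomial.map (algebraMap R₀ R) (MvPolynomial.monomial d 1) := by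
          rw [MvPolynomial.map_monomial, map_one, MvPolynomial.smul_monomial, smul_eq_mul, mul_one]
        have hw' : e (Submodule.Quotient.mk (π₀ (MvPolynomial.monomial d 1) • w)) =
            Submodule.Quotient.mk (MvPolynomial.monomial d (1 : R₀) • v) := by
          rw [Submodule.Quotient.mk_smul, Submodule.Quotient.mk_smul, ← hw]
          exact e.map_smul (MvPolynomial.monomial d (1 : R₀)) _
        have h1 : (b • MvPolynomial.map (algebraMap R₀ R) (MvPolynomial.monomial d (1 : R₀))) •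
            (a • Submodule.Quotient.mk (mapVec R v) : Quot R W₀) =
            b • a • Submodule.Quotient.mk (mapVec R (MvPolynomial.monomial d (1 : R₀) • v)) := by
          rw [smul_assoc, smul_comm (MvPolynomial.map _ _) a, mapVec_smul, Submodule.Quotient.mk_smul]
        rw [hd, h1, E.map_smul, E.map_smul, hEmk _ _ hw', E.map_smul, hEmk v w hw, mapVec_smul,
          Submodule.Quotient.mk_smul, show π (b • _) = b • π _ from map_smul π b _, hπmap, smul_assoc,
          smul_comm (MvPolynomial.map _ _) a]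

variable {R B : Type u} [CommRing R] [CommRing B] [Algebra R₀ R] [Algebra R B] [Algebra B₀ B]
  [Algebra R₀ B] [IsScalarTower R₀ R B] [IsScalarTower R₀ B₀ B] [Algebra.IsPushout R₀ R B₀ B]

/-- Descent of flatness over `R` of a module presented over `B`. -/
theorem exists_flatAt_descend [Algebra.FiniteType R₀ B₀] [IsNoetherianRing R₀]
    (Q : Ideal (MvPolynomial (Fin n) B)) [Q.IsPrime] (h : FlatCA.FlatAt R Q (Quot B Z₀)) :
    ∃ R₁ : Subalgebra R₀ R, R₁.FG ∧
      ∀ (B₁ : Type u) [CommRing B₁] [Algebra R₁ B₁] [Algebra B₀ B₁] [Algebra R₀ B₁]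
        [IsScalarTower R₀ R₁ B₁] [IsScalarTower R₀ B₀ B₁] [Algebra.IsPushout R₀ R₁ B₀ B₁]
        [Algebra B₁ B] [IsScalarTower R₁ B₁ B] [IsScalarTower B₀ B₁ B],
        FlatCA.FlatAt R₁ (Q.comap (MvPolynomial.map (algebraMap B₁ B))) (Quot B₁ Z₀) := by
  obtain ⟨m, s, W₀, g, hg⟩ := exists_polynomial_model (R₀ := R₀) Z₀
  obtain ⟨hπ, E, hE⟩ := hg R B
  obtain ⟨R₁, hR₁, hflat⟩ := exists_model_flat W₀ R _ ((flatAt_comap_iff R _ _ hπ E hE Q).2 h)
  refine ⟨R₁, hR₁, fun B₁ _ _ _ _ _ _ _ _ _ _ => ?_⟩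
  obtain ⟨hπ₁, E₁, hE₁⟩ := hg R₁ B₁
  refine (flatAt_comap_iff R₁ _ _ hπ₁ E₁ hE₁ _).1 (flatAt_congr ?_ hflat)
  rw [Ideal.comap_comap, Ideal.comap_comap]
  congr 1
  refine MvPolynomial.ringHom_ext (fun a => ?_) fun i => ?_
  · simp [MvPolynomial.algebraMap_apply, ← IsScalarTower.algebraMap_apply]
    exact IsScalarTower.algebraMap_apply R₁ R B a
  · simp only [RingHom.comp_apply, AlgHom.toRingHom_eq_coe, RingHom.coe_coe, MvPolynomial.map_X,
      MvPolynomial.aeval_X, MvPolynomial.map_map, ← IsScalarTower.algebraMap_eq]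

set_option maxHeartbeats 2000000 in
/-- The fibre module of a localization. -/
theorem flatAt_quotient_iff (Q : Ideal (MvPolynomial (Fin n) B)) [Q.IsPrime] (I : Ideal B)
    (QD : Ideal (MvPolynomial (Fin n) (B ⧸ I))) [QD.IsPrime]
    (hQD : QD.comap (MvPolynomial.map (Ideal.Quotient.mk I)) = Q) :
    FlatCA.FlatAt (B ⧸ I) QD (Quot (B ⧸ I) Z₀) ↔
      Module.Flat (B ⧸ I) ((B ⧸ I) ⊗[B] LocalizedModule Q.primeCompl (Quot B Z₀)) := by
  classical
  let A := MvPolynomial (Fin n) B
  let D := B ⧸ I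
  let AD := MvPolynomial (Fin n) D
  let MQ := LocalizedModule Q.primeCompl (Quot B Z₀)
  letI := MvPolynomial.algebraMvPolynomial (σ := Fin n) (R := B) (S := D)
  letI : Module A (Quot D Z₀) := Module.compHom _ (algebraMap A AD)
  haveI : IsScalarTower A AD (Quot D Z₀) := IsScalarTower.of_algebraMap_smul fun _ _ => rfl
  obtain ⟨f, hf⟩ := exists_isBaseChange_quot D Z₀ B
  let T := Q.primeCompl
  have hsurj : Surjective (algebraMap A AD) :=
    MvPolynomial.map_surjective _ Ideal.Quotient.mk_surjective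
  have hT : QD.primeCompl = Algebra.algebraMapSubmonoid AD T := by
    ext x
    constructor
    · intro hx
      obtain ⟨y, rfl⟩ := hsurj x
      exact ⟨y, fun hy => hx (by rw [← hQD] at hy; exact hy), rfl⟩
    · rintro ⟨y, hy, rfl⟩ hmem
      refine hy ?_
      rw [← hQD]
      exact hmem
  haveI := isLocalizedModule_restrict T QD.primeCompl hT
    (LocalizedModule.mkLinearMap QD.primeCompl (Quot D Z₀))
  let g₂ : AD ⊗[A] Quot B Z₀ →ₗ[A] LocalizedModule QD.primeCompl (Quot D Z₀) :=
    (LocalizedModule.mkLinearMap QD.primeCompl (Quot D Z₀)).restrictScalars A ∘ₗ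
      (hf.equiv.restrictScalars A).toLinearMap
  haveI : IsLocalizedModule T g₂ :=
    IsLocalizedModule.of_linearEquiv_right T _ (hf.equiv.restrictScalars A)
  let g₁ : AD ⊗[A] Quot B Z₀ →ₗ[A] AD ⊗[A] MQ := (LocalizedModule.mkLinearMap T _).lTensor AD
  haveI : IsLocalizedModule T g₁ := by
    have : IsLocalizedModule T
        (AlgebraTensorModule.rTensor A AD (LocalizedModule.mkLinearMap T (Quot B Z₀))) := inferInstance
    have e : g₁ = (TensorProduct.comm A MQ AD).toLinearMap ∘ₗ
        AlgebraTensorModule.rTensor A AD (LocalizedModule.mkLinearMap T (Quot B Z₀)) ∘ₗ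
          (TensorProduct.comm A AD _).toLinearMap := by
      ext; simp [g₁]; rfl
    rw [e]
    infer_instance
  let iso := IsLocalizedModule.linearEquiv T g₂ g₁
  let e := (iso.restrictScalars B).trans
    ((Algebra.IsPushout.cancelBaseChange B D A AD MQ).restrictScalars B)
  constructor
  · intro hD
    haveI : Module.Flat D (LocalizedModule QD.primeCompl (Quot D Z₀)) := hD
    exact flat_of_linearEquiv_of_surjective (D := D) Ideal.Quotient.mk_surjective e
  · intro hD
    haveI := hD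
    exact flat_of_linearEquiv_of_surjective (D := D) Ideal.Quotient.mk_surjective e.symm

set_option maxHeartbeats 2000000 in
/-- The Noetherian case. -/
theorem noetherian_fibre_crit [IsNoetherianRing B] (Q : Ideal (MvPolynomial (Fin n) B)) [Q.IsPrime]
    (hflat : FlatCA.FlatAt R Q (Quot B Z₀)) (I : Ideal B)
    (hI : I = (Q.comap (algebraMap R (MvPolynomial (Fin n) B))).map (algebraMap R B))
    (QD : Ideal (MvPolynomial (Fin n) (B ⧸ I))) [QD.IsPrime]
    (hQD : QD.comap (MvPolynomial.map (Ideal.Quotient.mk I)) = Q)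
    (hD : FlatCA.FlatAt (B ⧸ I) QD (Quot (B ⧸ I) Z₀)) : FlatCA.FlatAt B Q (Quot B Z₀) := by
  classical
  let A := MvPolynomial (Fin n) B
  haveI : Module.Flat R (LocalizedModule Q.primeCompl (Quot B Z₀)) := hflat
  let Sq := Localization.AtPrime Q
  let MQ := LocalizedModule Q.primeCompl (Quot B Z₀)
  haveI : Module.Finite Sq MQ := inferInstance
  refine LocFlat.flat_criterion (S := Sq) MQ I ?_ ?_ ?_
  · rw [IsLocalRing.jacobson_eq_maximalIdeal ⊥ bot_ne_top, hI, Ideal.map_map,
      ← IsScalarTower.algebraMap_eq, IsScalarTower.algebraMap_eq R A Sq, ← Ideal.map_map,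
      ← Localization.AtPrime.map_eq_maximalIdeal]
    exact Ideal.map_mono Ideal.map_comap_le
  · rw [hI]
    exact LocFlat.rTensor_map_injective _ MQ
  · exact (flatAt_quotient_iff Z₀ Q I QD hQD).1 hD

set_option maxHeartbeats 2000000 in
/-- The descent to a Noetherian stage. -/
theorem fibre_crit_of_model {R₁ B₁ : Type u} [CommRing R₁] [CommRing B₁] [Algebra R₁ R]
    [Algebra R₁ B₁] [Algebra B₀ B₁] [Algebra B₁ B] [Algebra R₁ B] [IsScalarTower R₁ R B]
    [IsScalarTower R₁ B₁ B] [IsScalarTower B₀ B₁ B] [IsNoetherianRing B₁]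
    [Algebra.IsPushout R₁ R B₁ B] (Q : Ideal (MvPolynomial (Fin n) B)) [Q.IsPrime]
    (hflat₁' : FlatCA.FlatAt R₁ (Q.comap (MvPolynomial.map (algebraMap B₁ B))) (Quot B₁ Z₀))
    (I : Ideal B) (hI : I = (Q.comap (algebraMap R (MvPolynomial (Fin n) B))).map (algebraMap R B))
    (hD : ∀ (QD : Ideal (MvPolynomial (Fin n) (B ⧸ I))) [QD.IsPrime],
      QD.comap (MvPolynomial.map (Ideal.Quotient.mk I)) = Q →
        FlatCA.FlatAt (B ⧸ I) QD (Quot (B ⧸ I) Z₀)) : FlatCA.FlatAt B Q (Quot B Z₀) := by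
  classical
  let A := MvPolynomial (Fin n) B
  let ψ := MvPolynomial.map (σ := Fin n) (algebraMap B₁ B)
  let Q₁ := Q.comap ψ
  let p := Q.comap (algebraMap R A)
  let p₁ := Q₁.comap (algebraMap R₁ (MvPolynomial (Fin n) B₁))
  have hp₁ : p.comap (algebraMap R₁ R) = p₁ := by
    simp only [p, p₁, Q₁, Ideal.comap_comap]
    congr 1
    refine RingHom.ext fun x => ?_
    simp only [RingHom.comp_apply, ψ]
    rw [IsScalarTower.algebraMap_apply R₁ B₁ (MvPolynomial (Fin n) B₁), MvPolynomial.algebraMap_eq,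
      MvPolynomial.map_C, IsScalarTower.algebraMap_apply R B A, MvPolynomial.algebraMap_eq,
      ← IsScalarTower.algebraMap_apply R₁ B₁ B, ← IsScalarTower.algebraMap_apply R₁ R B]
  -- the fibre field
  let k := FractionRing (R ⧸ p)
  let Bk := k ⊗[R] B
  let Ak := MvPolynomial (Fin n) Bk
  letI := MvPolynomial.algebraMvPolynomial (σ := Fin n) (R := B) (S := Bk)
  letI : Algebra B₀ Bk := ((algebraMap B Bk).comp (algebraMap B₀ B)).toAlgebra
  haveI : IsScalarTower B₀ B Bk := IsScalarTower.of_algebraMap_eq' rfl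
  haveI : IsScalarTower R A Ak := IsScalarTower.of_algebraMap_eq fun x => by
    rw [IsScalarTower.algebraMap_apply R B A, IsScalarTower.algebraMap_apply R Bk Ak,
      MvPolynomial.algebraMap_eq, MvPolynomial.algebraMap_eq, MvPolynomial.algebraMap_def,
      MvPolynomial.map_C, ← IsScalarTower.algebraMap_apply R B Bk]
  haveI : Algebra.IsPushout R B k Bk := Algebra.IsPushout.symm inferInstance
  letI : Algebra B₁ Bk := ((algebraMap B Bk).comp (algebraMap B₁ B)).toAlgebra
  haveI : IsScalarTower B₁ B Bk := IsScalarTower.of_algebraMap_eq' rfl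
  haveI : IsScalarTower R₁ R Bk := IsScalarTower.of_algebraMap_eq (R := R₁) (S := R) (A := Bk) fun x => by
    rw [IsScalarTower.algebraMap_apply R₁ k Bk, IsScalarTower.algebraMap_apply R₁ R k]
    exact (IsScalarTower.algebraMap_apply R k Bk (algebraMap R₁ R x)).symm
  haveI : IsScalarTower R₁ B₁ Bk := IsScalarTower.of_algebraMap_eq fun x => by
    rw [IsScalarTower.algebraMap_apply B₁ B Bk, ← IsScalarTower.algebraMap_apply R₁ B₁ B,
      IsScalarTower.algebraMap_apply R₁ R B, ← IsScalarTower.algebraMap_apply R B Bk,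
      ← IsScalarTower.algebraMap_apply R₁ R Bk]
  haveI : Algebra.IsPushout R A k Ak :=
    (Algebra.IsPushout.comp_iff R B k Bk (T := A) (T' := Ak)).2 inferInstance
  have hker : RingHom.ker (algebraMap R k) = p := by
    rw [IsScalarTower.algebraMap_eq R (R ⧸ p) k, ← RingHom.comap_ker,
      (RingHom.injective_iff_ker_eq_bot _).1 (IsFractionRing.injective (R ⧸ p) k),
      ← RingHom.ker_eq_comap_bot]
    exact Ideal.mk_ker
  obtain ⟨Qk, hQk, hQkA, hQkk⟩ := FlatMor.FlatAtBC.exists_prime_of_pushout (S := A) (R' := k) (S' := Ak)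
    p Q (⊥ : Ideal k) rfl (by rw [← RingHom.ker_eq_comap_bot, hker])
  -- flat on the fibre field
  have hIk : I ≤ RingHom.ker (algebraMap B Bk) := by
    rw [hI, Ideal.map_le_iff_le_comap]
    intro x hx
    rw [Ideal.mem_comap, RingHom.mem_ker, ← IsScalarTower.algebraMap_apply R B Bk,
      IsScalarTower.algebraMap_apply R k Bk, show algebraMap R k x = 0 from hker.ge hx, map_zero]
  letI : Algebra (B ⧸ I) Bk := (Ideal.Quotient.lift I (algebraMap B Bk) hIk).toAlgebra
  haveI : IsScalarTower B (B ⧸ I) Bk := IsScalarTower.of_algebraMap_eq' rfl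
  haveI : IsScalarTower B₀ (B ⧸ I) Bk := IsScalarTower.of_algebraMap_eq fun x => by
    rw [IsScalarTower.algebraMap_apply B₀ B (B ⧸ I), ← IsScalarTower.algebraMap_apply B (B ⧸ I) Bk,
      ← IsScalarTower.algebraMap_apply B₀ B Bk]
  let QD := Qk.comap (MvPolynomial.map (σ := Fin n) (algebraMap (B ⧸ I) Bk))
  have hk : FlatCA.FlatAt Bk Qk (Quot Bk Z₀) := by
    refine flatAt_quot_of_tower Z₀ Bk (B ⧸ I) Qk (hD QD ?_)
    rw [← hQkA, Ideal.comap_comap]
    congr 1
    refine MvPolynomial.ringHom_ext (fun a => ?_) fun i => ?_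
    · show MvPolynomial.map _ (MvPolynomial.map _ (MvPolynomial.C a)) =
        MvPolynomial.map (algebraMap B Bk) (MvPolynomial.C a)
      rw [MvPolynomial.map_C, MvPolynomial.map_C, MvPolynomial.map_C]
      rfl
    · show MvPolynomial.map _ (MvPolynomial.map _ (MvPolynomial.X i)) =
        MvPolynomial.map (algebraMap B Bk) (MvPolynomial.X i)
      rw [MvPolynomial.map_X, MvPolynomial.map_X, MvPolynomial.map_X]
  -- descend to `B₁/p₁B₁`
  let I₁ := p₁.map (algebraMap R₁ B₁)
  let D₀ := R₁ ⧸ p₁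
  let D₁ := B₁ ⧸ I₁
  letI : Algebra D₀ D₁ := RingHom.toAlgebra (R := R₁ ⧸ p₁) (S := B₁ ⧸ I₁)
    (Ideal.quotientMap I₁ (algebraMap R₁ B₁) Ideal.le_comap_map)
  haveI : IsScalarTower R₁ D₀ D₁ := IsScalarTower.of_algebraMap_eq fun _ => rfl
  haveI : Algebra.IsPushout R₁ B₁ D₀ D₁ := by
    haveI : Algebra.IsPushout R₁ B₁ D₀ (B₁ ⊗[R₁] D₀) := inferInstance
    refine Algebra.IsPushout.of_equiv (S' := B₁ ⊗[R₁] D₀)
      (Algebra.TensorProduct.quotIdealMapEquivTensorQuot B₁ p₁).symm (RingHom.ext fun x => ?_)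
    obtain ⟨x, rfl⟩ := Ideal.Quotient.mk_surjective x
    apply (Algebra.TensorProduct.quotIdealMapEquivTensorQuot B₁ p₁).injective
    simp [RingHom.algebraMap_toAlgebra, D₀, D₁]
    rw [IsScalarTower.algebraMap_apply R₁ B₁ (B₁ ⧸ I₁), AlgEquiv.commutes,
      ← IsScalarTower.algebraMap_apply]
    exact (Algebra.TensorProduct.algebraMap_apply' x).symm
  haveI : Algebra.IsPushout R₁ D₀ B₁ D₁ := Algebra.IsPushout.symm inferInstance
  have hp₁k : ∀ x ∈ p₁, algebraMap R₁ k x = 0 := fun x hx => by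
    rw [IsScalarTower.algebraMap_apply R₁ R k]
    exact hker.ge (hp₁.ge hx)
  letI : Algebra D₀ k := (Ideal.Quotient.lift p₁ (algebraMap R₁ k) hp₁k).toAlgebra
  haveI : IsScalarTower R₁ D₀ k := IsScalarTower.of_algebraMap_eq' rfl
  haveI : IsScalarTower B₀ B₁ Bk := IsScalarTower.of_algebraMap_eq fun x => by
    rw [IsScalarTower.algebraMap_apply B₁ B Bk, ← IsScalarTower.algebraMap_apply B₀ B₁ B,
      ← IsScalarTower.algebraMap_apply B₀ B Bk]
  have hI₁k : I₁ ≤ RingHom.ker (algebraMap B₁ Bk) := by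
    rw [Ideal.map_le_iff_le_comap]
    intro x hx
    rw [Ideal.mem_comap, RingHom.mem_ker, ← IsScalarTower.algebraMap_apply R₁ B₁ Bk,
      IsScalarTower.algebraMap_apply R₁ k Bk, hp₁k x hx, map_zero]
  letI : Algebra D₁ Bk := (Ideal.Quotient.lift I₁ (algebraMap B₁ Bk) hI₁k).toAlgebra
  haveI : IsScalarTower B₁ D₁ Bk := IsScalarTower.of_algebraMap_eq' rfl
  haveI : IsScalarTower B₀ D₁ Bk := IsScalarTower.of_algebraMap_eq fun x => by
    rw [IsScalarTower.algebraMap_apply B₀ B₁ D₁, ← IsScalarTower.algebraMap_apply B₁ D₁ Bk,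
      ← IsScalarTower.algebraMap_apply B₀ B₁ Bk]
  haveI : IsScalarTower R₁ D₀ Bk := IsScalarTower.to₁₂₄ R₁ D₀ k Bk
  haveI : IsScalarTower D₀ D₁ Bk := IsScalarTower.of_algebraMap_eq' (Ideal.Quotient.ringHom_ext (by
    ext x
    show algebraMap k Bk (algebraMap R₁ k x) = algebraMap B₁ Bk (algebraMap R₁ B₁ x)
    rw [← IsScalarTower.algebraMap_apply, ← IsScalarTower.algebraMap_apply]))
  haveI : Algebra.IsPushout R k B Bk := inferInstance
  haveI : IsScalarTower R₁ B Bk := IsScalarTower.of_algebraMap_eq (R := R₁) (S := B) (A := Bk) fun x => by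
    rw [IsScalarTower.algebraMap_apply R₁ B₁ B, ← IsScalarTower.algebraMap_apply B₁ B Bk,
      ← IsScalarTower.algebraMap_apply R₁ B₁ Bk]
  haveI : IsScalarTower R₁ D₁ Bk := IsScalarTower.of_algebraMap_eq (R := R₁) (S := D₁) (A := Bk) fun x => by
    rw [IsScalarTower.algebraMap_apply R₁ B₁ D₁, ← IsScalarTower.algebraMap_apply B₁ D₁ Bk,
      ← IsScalarTower.algebraMap_apply R₁ B₁ Bk]
  haveI : Algebra.IsPushout R₁ k B₁ Bk :=
    (Algebra.IsPushout.comp_iff R₁ R B₁ B (T := k) (T' := Bk)).2 inferInstance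
  haveI : Algebra.IsPushout D₀ k D₁ Bk :=
    (Algebra.IsPushout.comp_iff R₁ D₀ B₁ D₁ (T := k) (T' := Bk)).1 inferInstance
  have hD₀k : Injective (algebraMap D₀ k) := by
    rw [injective_iff_map_eq_zero]
    intro x hx
    obtain ⟨x, rfl⟩ := Ideal.Quotient.mk_surjective x
    rw [Ideal.Quotient.eq_zero_iff_mem, ← hp₁, Ideal.mem_comap, ← hker, RingHom.mem_ker,
      ← IsScalarTower.algebraMap_apply R₁ R k]
    exact hx
  haveI : Module.Flat D₀ k := by
    letI : Algebra (FractionRing D₀) k := (IsFractionRing.lift (A := D₀) hD₀k).toAlgebra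
    haveI : IsScalarTower D₀ (FractionRing D₀) k := IsScalarTower.of_algebraMap_eq fun x =>
      (IsFractionRing.lift_algebraMap hD₀k x).symm
    haveI : Module.Flat D₀ (FractionRing D₀) := IsLocalization.flat _ (nonZeroDivisors D₀)
    haveI : Module.Free (FractionRing D₀) k := Module.Free.of_divisionRing _ _
    haveI : Module.Flat (FractionRing D₀) k := Module.Flat.of_free
    exact Module.Flat.trans D₀ (FractionRing D₀) k
  haveI : Module.Flat D₁ Bk := Module.Flat.isBaseChange D₀ D₁ k Bk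
    (f := (IsScalarTower.toAlgHom D₀ k Bk).toLinearMap) (Algebra.IsPushout.symm inferInstance).out
  let qk := Qk.comap (algebraMap Bk Ak)
  haveI : Module.Flat Bk (Localization.AtPrime qk) := IsLocalization.flat _ qk.primeCompl
  have hflat₁ : Module.Flat D₁ (Localization.AtPrime qk) := Module.Flat.trans D₁ Bk _
  letI := MvPolynomial.algebraMvPolynomial (σ := Fin n) (R := D₁) (S := Bk)
  letI : Module (MvPolynomial (Fin n) D₁) (Quot Bk Z₀) :=
    Module.compHom _ (algebraMap (MvPolynomial (Fin n) D₁) Ak)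
  haveI : IsScalarTower (MvPolynomial (Fin n) D₁) Ak (Quot Bk Z₀) :=
    IsScalarTower.of_algebraMap_smul fun _ _ => rfl
  obtain ⟨g, hg⟩ := exists_isBaseChange_quot Bk Z₀ D₁
  let QD₁ := Qk.comap (algebraMap (MvPolynomial (Fin n) D₁) Ak)
  have hD₁ : FlatCA.FlatAt D₁ QD₁ (Quot D₁ Z₀) :=
    FlatMor.FlatAtBC.flatAt_of_descent g hg QD₁ Qk rfl qk rfl hflat₁ hk
  -- conclude
  refine flatAt_quot_of_tower Z₀ B B₁ Q ?_
  refine noetherian_fibre_crit (R := R₁) Z₀ Q₁ hflat₁' I₁ rfl QD₁ ?_ hD₁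
  have hψ : Qk.comap ((algebraMap A Ak).comp ψ) = Q₁ := by rw [← Ideal.comap_comap, hQkA]
  rw [← hψ, Ideal.comap_comap]
  congr 1
  refine MvPolynomial.ringHom_ext (fun a => ?_) fun i => ?_
  · show MvPolynomial.map (algebraMap D₁ Bk) (MvPolynomial.map (Ideal.Quotient.mk I₁) (MvPolynomial.C a)) =
      MvPolynomial.map (algebraMap B Bk) (MvPolynomial.map (algebraMap B₁ B) (MvPolynomial.C a))
    simp only [MvPolynomial.map_C]
    rfl
  · show MvPolynomial.map (algebraMap D₁ Bk) (MvPolynomial.map (Ideal.Quotient.mk I₁) (MvPolynomial.X i)) =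
      MvPolynomial.map (algebraMap B Bk) (MvPolynomial.map (algebraMap B₁ B) (MvPolynomial.X i))
    simp only [MvPolynomial.map_X]

/-- EGA IV 11.3.10 for a presented module. -/
theorem presented_fibre_crit [Algebra.FiniteType R₀ B₀] [IsNoetherianRing R₀]
    (Q : Ideal (MvPolynomial (Fin n) B)) [Q.IsPrime] (hflat : FlatCA.FlatAt R Q (Quot B Z₀))
    (I : Ideal B) (hI : I = (Q.comap (algebraMap R (MvPolynomial (Fin n) B))).map (algebraMap R B))
    (hD : ∀ (QD : Ideal (MvPolynomial (Fin n) (B ⧸ I))) [QD.IsPrime],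
      QD.comap (MvPolynomial.map (Ideal.Quotient.mk I)) = Q →
        FlatCA.FlatAt (B ⧸ I) QD (Quot (B ⧸ I) Z₀)) : FlatCA.FlatAt B Q (Quot B Z₀) := by
  classical
  obtain ⟨R₁, hR₁, hdesc⟩ := exists_flatAt_descend (R₀ := R₀) Z₀ Q hflat
  haveI : IsNoetherianRing R₁ := isNoetherianRing_of_fg hR₁
  let B₁ := R₁ ⊗[R₀] B₀
  letI : Algebra B₁ B := (Algebra.TensorProduct.lift (IsScalarTower.toAlgHom R₀ R₁ B)
    (IsScalarTower.toAlgHom R₀ B₀ B) fun _ _ => Commute.all _ _).toRingHom.toAlgebra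
  haveI : IsScalarTower R₁ B₁ B := IsScalarTower.of_algebraMap_eq (R := R₁) (S := B₁) (A := B) fun x => by
    show algebraMap R₁ B x = Algebra.TensorProduct.lift _ _ _ (x ⊗ₜ[R₀] (1 : B₀))
    rw [Algebra.TensorProduct.lift_tmul, map_one, mul_one]
    rfl
  haveI : IsScalarTower B₀ B₁ B := IsScalarTower.of_algebraMap_eq (R := B₀) (S := B₁) (A := B) fun x => by
    show algebraMap B₀ B x = Algebra.TensorProduct.lift _ _ _ ((1 : R₁) ⊗ₜ[R₀] x)
    rw [Algebra.TensorProduct.lift_tmul, map_one, one_mul]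
    rfl
  haveI : IsScalarTower R₀ B₁ B := IsScalarTower.to₁₃₄ R₀ R₁ B₁ B
  haveI : IsNoetherianRing B₁ := Algebra.FiniteType.isNoetherianRing R₁ B₁
  haveI : Algebra.IsPushout R₁ R B₁ B :=
    (Algebra.IsPushout.comp_iff R₀ R₁ B₀ B₁ (T := R) (T' := B)).1 inferInstance
  exact fibre_crit_of_model Z₀ Q (hdesc B₁) I hI hD

end Groth.Agent.FlatOpen
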