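import Groth.Agent.FlatOpen.FibreScheme
import Groth.Agent.FlatOpen.FibreCrit
import Groth.Agent.FlatMor.FreeFibre
import Groth.Agent.FDesc.BaseChangeStalk

/-!
# The fibre condition descends along a base change

* `quotientMap_stalk_flat`: `O_{X,x}/𝔪_s → O_{X',x'}/𝔪_{s'}` is flat local.
* `flat_fibre_of_baseChange`: flatness of the pulled back module over `Y'` gives the fibre
  condition downstairs.
-/

set_option autoImplicit false
set_option linter.style.haveILetI false

universe u

open CategoryTheory Limits AlgebraicGeometry IsLocalRing Function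
open scoped TensorProduct

namespace Groth.Agent.FlatOpen.RelLocus

/-- Flatness over a base descends along a faithfully flat extension of the acting ring. -/
theorem flat_of_extension {a E B N : Type u} [CommRing a] [CommRing E] [CommRing B] [Algebra a E]
    [Algebra E B] [Algebra a B] [IsScalarTower a E B] [Module.FaithfullyFlat E B]
    [AddCommGroup N] [Module E N] [Module a N] [IsScalarTower a E N]
    (h : Module.Flat a (B ⊗[E] N)) : Module.Flat a N := by
  rw [Module.Flat.iff_lTensor_preserves_injective_linearMap]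
  intro P Q _ _ _ _ α hα
  let u : N ⊗[a] P →ₗ[E] N ⊗[a] Q := TensorProduct.AlgebraTensorModule.lTensor E N α
  have hc : ∀ z, u.lTensor B
      ((TensorProduct.AlgebraTensorModule.assoc a E E B N P).toLinearMap z) =
        TensorProduct.AlgebraTensorModule.assoc a E E B N Q
          (α.lTensor (B ⊗[E] N) z) := by
    intro z
    induction z with
    | zero => simp only [map_zero]
    | add x y hx hy => simp only [map_add, hx, hy]
    | tmul w p =>
      induction w with
      | zero => simp only [TensorProduct.zero_tmul, map_zero]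
      | add x y hx hy => simp only [TensorProduct.add_tmul, map_add, hx, hy]
      | tmul b n => simp [u]
  have hu : Injective (u.lTensor B) := by
    intro z w hzw
    obtain ⟨z, rfl⟩ := (TensorProduct.AlgebraTensorModule.assoc a E E B N P).surjective z
    obtain ⟨w, rfl⟩ := (TensorProduct.AlgebraTensorModule.assoc a E E B N P).surjective w
    have := (hc z).symm.trans (hzw.trans (hc w))
    rw [Module.Flat.lTensor_preserves_injective_linearMap α hα
      ((TensorProduct.AlgebraTensorModule.assoc a E E B N Q).injective this)]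
  exact (Module.FaithfullyFlat.lTensor_injective_iff_injective E B u).mp hu

/-- The stalk map of the projection, on closed fibres over the base. -/
theorem quotientMap_stalk_flat {X S X' S' : Scheme.{u}} {f : X ⟶ S} {g : S' ⟶ S} {f' : X' ⟶ S'}
    {p : X' ⟶ X} (hc : IsPullback p f' f g) (x' : X') (x : X) (hx : p x' = x) :
    let φ := X.presheaf.stalkSpecializes (specializes_of_eq hx) ≫ p.stalkMap x'
    let J := (maximalIdeal (S.presheaf.stalk (f x))).map (f.stalkMap x).hom
    let J' := (maximalIdeal (S'.presheaf.stalk (f' x'))).map (f'.stalkMap x').hom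
    ∃ h : J ≤ J'.comap φ.hom, (Ideal.quotientMap J' φ.hom h).Flat := by
  subst hx
  have key : ∀ (s' : S') (y' : f'.fiber s') (z : X') (_ : f'.fiberι s' y' = z),
      ∃ h : (maximalIdeal (S.presheaf.stalk (f (p z)))).map (f.stalkMap (p z)).hom ≤
        ((maximalIdeal (S'.presheaf.stalk (f' z))).map (f'.stalkMap z).hom).comap (p.stalkMap z).hom,
      (Ideal.quotientMap _ (p.stalkMap z).hom h).Flat := by
    rintro s' y' _ rfl
    obtain ⟨E, iE, φ₀, σ, hs, hk, hfl, -, heq⟩ :=
      Groth.Agent.FlatMor.FreeFibre.exists_fibre_stalk_map hc s' y'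
    let b := ((f'.fiberι s').stalkMap y').hom
    have hb : Surjective b := (f'.fiberι s').stalkMap_surjective y'
    have hbk := Groth.Agent.FlatMor.FibreStalk.ker_stalkMap_fiberι f' s' y'
    have hle : (maximalIdeal (S.presheaf.stalk (f (p (f'.fiberι s' y'))))).map
        (f.stalkMap (p (f'.fiberι s' y'))).hom ≤
        ((maximalIdeal (S'.presheaf.stalk (f' (f'.fiberι s' y')))).map
          (f'.stalkMap (f'.fiberι s' y')).hom).comap (p.stalkMap (f'.fiberι s' y')).hom := by
      intro v hv
      rw [← hbk, Ideal.mem_comap, RingHom.mem_ker]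
      have := RingHom.congr_fun heq v
      rw [RingHom.comp_apply, RingHom.mem_ker.mp (hk.ge hv), map_zero] at this
      exact this.symm
    refine ⟨hle, ?_⟩
    let ea := (Ideal.quotEquivOfEq hk.symm).trans (RingHom.quotientKerEquivOfSurjective hs)
    let eb := (Ideal.quotEquivOfEq hbk.symm).trans (RingHom.quotientKerEquivOfSurjective hb)
    have hkey : σ.comp ea.toRingHom = eb.toRingHom.comp (Ideal.quotientMap _ _ hle) := by
      refine RingHom.ext fun v => ?_
      obtain ⟨v, rfl⟩ := Ideal.Quotient.mk_surjective v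
      exact RingHom.congr_fun heq v
    rw [← RingHom.Flat.comp_iff_of_bijective_left (g := eb.toRingHom) eb.bijective, ← hkey,
      RingHom.Flat.comp_iff_of_bijective_right ea.bijective]
    exact hfl
  simpa using key _ (f'.asFiber x') x' (f'.fiberι_asFiber x')

/-- The fibre condition from flatness after a base change. -/
theorem flat_fibre_of_baseChange {X Y S X' Y' S' : Scheme.{u}} (f : X ⟶ Y) (g : Y ⟶ S)
    (F : X.Modules) {h : S' ⟶ S} {gY : Y' ⟶ Y} {g' : Y' ⟶ S'} (hY : IsPullback gY g' g h)
    {gX : X' ⟶ X} {f' : X' ⟶ Y'} (hX : IsPullback gX (f' ≫ g') (f ≫ g) h)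
    (w : gX ≫ f = f' ≫ gY) (x' : X')
    (hflat : FlatMod.IsFlatOverAt f' ((Scheme.Modules.pullback gX).obj F) x') :
    letI := FlatMod.moduleStalkOver f F (gX x')
    Module.Flat (↑(Y.presheaf.stalk (f (gX x'))) ⧸ Ideal.map (g.stalkMap (f (gX x'))).hom (maximalIdeal ↑(S.presheaf.stalk (g (f (gX x'))))))
      (↑(F.presheaf.stalk (gX x')) ⧸ (Ideal.map (g.stalkMap (f (gX x'))).hom (maximalIdeal ↑(S.presheaf.stalk (g (f (gX x'))))) •
        (⊤ : Submodule ↑(Y.presheaf.stalk (f (gX x'))) ↑(F.presheaf.stalk (gX x'))))) := by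
  have he : gY (f' x') = f (gX x') := by
    rw [← Scheme.Hom.comp_apply, ← Scheme.Hom.comp_apply, w]
  let A := Y.presheaf.stalk (f (gX x'))
  let A' := Y'.presheaf.stalk (f' x')
  let C := X.presheaf.stalk (gX x')
  let C' := X'.presheaf.stalk x'
  let M := F.presheaf.stalk (gX x')
  let F' := ((Scheme.Modules.pullback gX).obj F).presheaf.stalk x'
  let J : Ideal A := (maximalIdeal (S.presheaf.stalk (g (f (gX x'))))).map (g.stalkMap (f (gX x'))).hom
  let J' : Ideal A' := (maximalIdeal (S'.presheaf.stalk (g' (f' x')))).map (g'.stalkMap (f' x')).hom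
  let φ := Y.presheaf.stalkSpecializes (specializes_of_eq he) ≫ gY.stalkMap (f' x')
  obtain ⟨hJ, hfa⟩ := quotientMap_stalk_flat hY (f' x') (f (gX x')) he
  obtain ⟨hI, hfe⟩ := quotientMap_stalk_flat hX x' (gX x') rfl
  simp only [TopCat.Presheaf.stalkSpecializes_refl, Category.id_comp] at hI hfe
  letI : Algebra A C := (f.stalkMap (gX x')).hom.toAlgebra
  letI : Algebra A' C' := (f'.stalkMap x').hom.toAlgebra
  letI : Algebra A A' := φ.hom.toAlgebra
  letI : Algebra C C' := (gX.stalkMap x').hom.toAlgebra
  letI : Algebra A C' := ((gX.stalkMap x').hom.comp (f.stalkMap (gX x')).hom).toAlgebra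
  haveI : IsScalarTower A C C' := IsScalarTower.of_algebraMap_eq fun _ => rfl
  haveI : IsScalarTower A A' C' := by
    refine IsScalarTower.of_algebraMap_eq' (congrArg CommRingCat.Hom.hom
      (?_ : f.stalkMap (gX x') ≫ gX.stalkMap x' = φ ≫ f'.stalkMap x'))
    rw [← Scheme.Hom.stalkMap_comp, Scheme.Hom.stalkMap_congr_hom _ _ w x', Category.assoc,
      Scheme.Hom.stalkMap_comp]
    rfl
  letI : Module A M := FlatMod.moduleStalkOver f F (gX x')
  haveI : IsScalarTower A C M := IsScalarTower.of_algebraMap_smul fun _ _ => rfl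
  let I : Ideal C := (maximalIdeal (S.presheaf.stalk ((f ≫ g) (gX x')))).map ((f ≫ g).stalkMap (gX x')).hom
  let I' : Ideal C' := (maximalIdeal (S'.presheaf.stalk ((f' ≫ g') x'))).map ((f' ≫ g').stalkMap x').hom
  have hI1 : J.map (algebraMap A C) = I := by
    show ((maximalIdeal _).map (g.stalkMap _).hom).map (f.stalkMap _).hom = _
    rw [Ideal.map_map, ← CommRingCat.hom_comp, ← Scheme.Hom.stalkMap_comp]
    rfl
  have hI1' : J'.map (algebraMap A' C') = I' := by
    show ((maximalIdeal _).map (g'.stalkMap _).hom).map (f'.stalkMap _).hom = _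
    rw [Ideal.map_map, ← CommRingCat.hom_comp, ← Scheme.Hom.stalkMap_comp]
    rfl
  let a := A ⧸ J
  let a' := A' ⧸ J'
  let E := C ⧸ I
  let B := C' ⧸ I'
  letI : Algebra a a' := (Ideal.quotientMap J' φ.hom hJ).toAlgebra
  haveI : Module.Flat a a' := hfa
  letI : Algebra E B := (Ideal.quotientMap I' (gX.stalkMap x').hom hI).toAlgebra
  haveI : Module.Flat E B := hfe
  letI : Algebra a E := (Ideal.quotientMap I (algebraMap A C) (Ideal.map_le_iff_le_comap.mp hI1.le)).toAlgebra
  letI : Algebra a' B := (Ideal.quotientMap I' (algebraMap A' C') (Ideal.map_le_iff_le_comap.mp hI1'.le)).toAlgebra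
  letI : Algebra a B := ((algebraMap E B).comp (algebraMap a E)).toAlgebra
  haveI : IsScalarTower a E B := IsScalarTower.of_algebraMap_eq fun _ => rfl
  haveI : IsScalarTower A a E := IsScalarTower.of_algebraMap_eq fun _ => rfl
  haveI : IsScalarTower A' a' B := IsScalarTower.of_algebraMap_eq fun _ => rfl
  haveI : IsScalarTower C E B := IsScalarTower.of_algebraMap_eq fun _ => rfl
  haveI : IsScalarTower a a' B := IsScalarTower.of_algebraMap_eq fun v => by
    obtain ⟨v, rfl⟩ := Ideal.Quotient.mk_surjective v
    exact congrArg (Ideal.Quotient.mk I')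
      (IsScalarTower.algebraMap_apply A A' C' v)
  have hle : I' ≤ maximalIdeal C' :=
    ((IsLocalRing.local_hom_TFAE ((f' ≫ g').stalkMap x').hom).out 0 2).mp (inferInstance : IsLocalHom ((f' ≫ g').stalkMap x').hom)
  haveI : Nontrivial B := Ideal.Quotient.nontrivial_iff.2
    (ne_top_of_le_ne_top (maximalIdeal.isMaximal C').ne_top hle)
  haveI : Nontrivial E := (algebraMap E B).domain_nontrivial
  haveI : IsLocalRing E := IsLocalRing.of_surjective' _ Ideal.Quotient.mk_surjective
  haveI : IsLocalRing B := IsLocalRing.of_surjective' _ Ideal.Quotient.mk_surjective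
  haveI : IsLocalHom (algebraMap E B) := ⟨fun v hv => by
    obtain ⟨v, rfl⟩ := Ideal.Quotient.mk_surjective v
    haveI := IsLocalHom.of_surjective (Ideal.Quotient.mk I') Ideal.Quotient.mk_surjective
    exact (isUnit_of_map_unit (gX.stalkMap x').hom v
      (isUnit_of_map_unit (Ideal.Quotient.mk I') _ hv)).map _⟩
  haveI : Module.FaithfullyFlat E B := Module.FaithfullyFlat.of_flat_of_isLocalHom
  -- the module upstairs
  letI : Module A' F' := FlatMod.moduleStalkOver f' _ x'
  haveI : Module.Flat A' F' := hflat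
  haveI : IsScalarTower A' C' F' := IsScalarTower.of_algebraMap_smul fun _ _ => rfl
  have hT : Module.Flat a' (a' ⊗[A'] F') := inferInstance
  obtain ⟨e, -⟩ := Groth.Agent.FDesc.Stalk.exists_stalk_equiv gX F x'
  let eB : B ⊗[C] M ≃ₗ[B] B ⊗[C'] F' :=
    (TensorProduct.AlgebraTensorModule.cancelBaseChange C C' B B M).symm.trans
      (TensorProduct.AlgebraTensorModule.congr (LinearEquiv.refl B B) e)
  let e' : a' ⊗[A'] F' ≃ₗ[A'] B ⊗[C'] F' :=
    (TensorProduct.quotTensorEquivQuotSMul F' J').trans
      ((Submodule.quotEquivOfEq _ _ (by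
          rw [← hI1', Ideal.smul_restrictScalars, Submodule.restrictScalars_top] :
          (J' • ⊤ : Submodule A' F') = (I' • (⊤ : Submodule C' F')).restrictScalars A')).trans
        ((Submodule.Quotient.restrictScalarsEquiv A' (I' • (⊤ : Submodule C' F'))).trans
          ((TensorProduct.quotTensorEquivQuotSMul F' I').symm.restrictScalars A')))
  haveI : Module.Flat a' (B ⊗[C'] F') :=
    Groth.Agent.FlatOpen.flat_of_linearEquiv_of_surjective Ideal.Quotient.mk_surjective e'
  haveI : Module.Flat a (B ⊗[C'] F') := Module.Flat.trans a a' _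
  haveI : Module.Flat a (B ⊗[C] M) := Module.Flat.of_linearEquiv (eB.restrictScalars a)
  haveI : Module.Flat a (B ⊗[E] (E ⊗[C] M)) := Module.Flat.of_linearEquiv
    ((TensorProduct.AlgebraTensorModule.cancelBaseChange C E B B M).restrictScalars a)
  haveI : Module.Flat a (E ⊗[C] M) := flat_of_extension (E := E) (B := B) inferInstance
  let e'' : E ⊗[C] M ≃ₗ[A] M ⧸ J • (⊤ : Submodule A M) :=
    ((TensorProduct.quotTensorEquivQuotSMul M I).restrictScalars A).trans
      ((Submodule.Quotient.restrictScalarsEquiv A (I • (⊤ : Submodule C M))).symm.trans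
        (Submodule.quotEquivOfEq _ _ (by
          rw [← hI1, Ideal.smul_restrictScalars, Submodule.restrictScalars_top])))
  exact Groth.Agent.FlatOpen.flat_of_linearEquiv_of_surjective Ideal.Quotient.mk_surjective e''

end Groth.Agent.FlatOpen.RelLocus
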