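import Groth.Agent.FlatOpen.FibreAPI
import Groth.Agent.FlatOpen.MapOpen

/-!
# The fibrewise criterion with the middle algebra only of finite type

* `flat_of_surjective_of_torsion`: flatness over `D` gives flatness over `D'` when `D' → D` is
  surjective with kernel killed by elements invertible on the module.
* `fibre_flat_criterion_ft`: EGA IV 11.3.10 with `B` of finite type and `C` fp over `R`.
* `fibre_cond_of_localized`: the fibre condition read on a localization of `B`.
-/

set_option autoImplicit false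
set_option linter.style.haveILetI false

universe u

open TensorProduct Function

namespace Groth.Agent.FlatOpen

/-- `D ⊗_{D'} N = N` for a surjection `D' → D`. -/
theorem bijective_liftBaseChange_id {D' D N : Type u} [CommRing D'] [CommRing D] [Algebra D' D]
    (hD : Surjective (algebraMap D' D)) [AddCommGroup N] [Module D N] [Module D' N]
    [IsScalarTower D' D N] :
    Bijective ((LinearMap.id : N →ₗ[D'] N).liftBaseChange D) := by
  have hs : Surjective (fun n : N => (1 : D) ⊗ₜ[D'] n) :=
    TensorProduct.mk_surjective D' N D hD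
  refine ⟨fun z w h => ?_, fun n => ⟨(1 : D) ⊗ₜ n, by simp⟩⟩
  obtain ⟨z, rfl⟩ := hs z
  obtain ⟨w, rfl⟩ := hs w
  simp only [LinearMap.liftBaseChange_tmul, one_smul, LinearMap.id_apply] at h
  rw [h]

/-- Kernels after base change to `D` are torsion. -/
theorem exists_smul_eq_zero_of_torsion_ker {D' D : Type u} [CommRing D'] [CommRing D] [Algebra D' D]
    (hD : Surjective (algebraMap D' D)) (T : Submonoid D')
    (hker : ∀ z, algebraMap D' D z = 0 → ∃ t ∈ T, t * z = 0) {X Y : Type u} [AddCommGroup X]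
    [Module D' X] [AddCommGroup Y] [Module D' Y] (a : X →ₗ[D'] Y) (ha : Injective a)
    (z : D ⊗[D'] X) (hz : a.baseChange D z = 0) : ∃ t ∈ T, t • z = 0 := by
  let φ := Algebra.linearMap D' D
  have hex : Exact ((LinearMap.ker φ).subtype.rTensor Y) (φ.rTensor Y) :=
    rTensor_exact Y (LinearMap.exact_subtype_ker_map φ) hD
  have hkill : ∀ w : LinearMap.ker φ ⊗[D'] Y, ∃ t ∈ T, t • w = 0 := by
    intro w
    induction w with
    | zero => exact ⟨1, T.one_mem, smul_zero _⟩
    | tmul k y =>
      obtain ⟨t, ht, htk⟩ := hker k k.2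
      exact ⟨t, ht, by rw [smul_tmul', show t • k = 0 from Subtype.ext htk, zero_tmul]⟩
    | add u v hu hv =>
      obtain ⟨t, ht, htu⟩ := hu
      obtain ⟨t', ht', htv⟩ := hv
      exact ⟨t' * t, mul_mem ht' ht, by
        rw [smul_add, mul_smul, htu, smul_zero, zero_add, mul_comm, mul_smul, htv, smul_zero]⟩
  obtain ⟨x, rfl⟩ := TensorProduct.mk_surjective D' X D hD z
  have h0 : φ.rTensor Y ((1 : D') ⊗ₜ[D'] a x) = 0 := by
    rw [LinearMap.rTensor_tmul]
    show algebraMap D' D 1 ⊗ₜ[D'] a x = 0
    rw [map_one]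
    simpa using hz
  obtain ⟨w, hw⟩ := (hex _).1 h0
  obtain ⟨t, ht, htw⟩ := hkill w
  refine ⟨t, ht, ?_⟩
  have h1 : t • ((1 : D') ⊗ₜ[D'] a x) = 0 := by rw [← hw, ← map_smul, htw, map_zero]
  have h2 := congrArg (TensorProduct.lid D' Y) h1
  rw [map_smul, TensorProduct.lid_tmul, one_smul, map_zero, ← map_smul] at h2
  have h3 : t • x = 0 := ha (h2.trans (map_zero a).symm)
  show t • ((1 : D) ⊗ₜ[D'] x) = 0
  rw [← tmul_smul, h3, tmul_zero]

/-- Tensoring with a flat module preserves injectivity up to a kernel which it kills. -/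
theorem lTensor_eq_zero_of_flat {D N P Q : Type u} [CommRing D] [AddCommGroup N] [Module D N]
    [Module.Flat D N] [AddCommGroup P] [Module D P] [AddCommGroup Q] [Module D Q] (f : P →ₗ[D] Q)
    (h : ∀ z, f z = 0 → ∀ n : N, n ⊗ₜ[D] z = 0) (w : N ⊗[D] P) (hw : f.lTensor N w = 0) : w = 0 := by
  obtain ⟨v, rfl⟩ := (Module.Flat.lTensor_exact N (LinearMap.exact_subtype_ker_map f) w).1 hw
  clear hw
  induction v with
  | zero => simp only [map_zero]
  | tmul n z => rw [LinearMap.lTensor_tmul, Submodule.subtype_apply, h z z.2 n]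
  | add u v hu hv => simp only [map_add, hu, hv, add_zero]

/-- Flatness over a quotient whose kernel is killed by elements invertible on the module. -/
theorem flat_of_surjective_of_torsion {D' D N : Type u} [CommRing D'] [CommRing D] [Algebra D' D]
    (hD : Surjective (algebraMap D' D)) [AddCommGroup N] [Module D N] [Module D' N]
    [IsScalarTower D' D N] (T : Submonoid D') (hT : ∀ t ∈ T, Surjective fun n : N => t • n)
    (hker : ∀ z, algebraMap D' D z = 0 → ∃ t ∈ T, t * z = 0) [Module.Flat D N] : Module.Flat D' N := by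
  rw [Module.Flat.iff_lTensor_preserves_injective_linearMap]
  intro X Y _ _ _ _ a ha
  let aD : D ⊗[D'] X →ₗ[D] D ⊗[D'] Y := a.baseChange D
  have hkt := exists_smul_eq_zero_of_torsion_ker hD T hker a ha
  let eX := AlgebraTensorModule.cancelBaseChange D' D D N X
  let eY := AlgebraTensorModule.cancelBaseChange D' D D N Y
  have hc : ∀ w, a.lTensor N (eX w) = eY (aD.lTensor N w) := by
    intro w
    induction w with
    | zero => simp only [map_zero]
    | tmul n z =>
      induction z with
      | zero => simp only [tmul_zero, map_zero]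
      | tmul d x => simp [eX, eY, aD]
      | add u v hu hv => simp only [tmul_add, map_add, hu, hv]
    | add u v hu hv => simp only [map_add, hu, hv]
  rw [injective_iff_map_eq_zero]
  intro u hu
  obtain ⟨w, rfl⟩ := eX.surjective u
  have hw : aD.lTensor N w = 0 := eY.injective (by rw [← hc, hu, map_zero])
  have h0 : w = 0 := lTensor_eq_zero_of_flat aD (fun z hz n => by
    obtain ⟨t, ht, htz⟩ := hkt z hz
    obtain ⟨n', rfl⟩ := hT t ht n
    rw [smul_tmul, htz, tmul_zero]) w hw
  rw [h0, map_zero]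

/-- The fibre condition read on a localization. -/
theorem fibre_cond_of_localized {B S N : Type u} [CommRing B] [CommRing S] [Algebra B S]
    (T : Submonoid B) [IsLocalization T S] [AddCommGroup N] [Module S N] [Module B N]
    [IsScalarTower B S N] (I : Ideal B) (J : Ideal S) (hIJ : I.map (algebraMap B S) = J)
    [Module.Flat (S ⧸ J) (N ⧸ J • (⊤ : Submodule S N))] :
    Module.Flat (B ⧸ I) ((B ⧸ I) ⊗[B] N) := by
  letI : Algebra (B ⧸ I) (S ⧸ J) := RingHom.toAlgebra (R := B ⧸ I) (S := S ⧸ J)
    (Ideal.quotientMap J (algebraMap B S) (Ideal.map_le_iff_le_comap.1 hIJ.le))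
  haveI : IsScalarTower B (B ⧸ I) (S ⧸ J) :=
    IsScalarTower.of_algebraMap_eq (R := B) (S := B ⧸ I) (A := S ⧸ J) fun _ => rfl
  haveI : Module.Flat (B ⧸ I) (S ⧸ J) := by
    haveI : IsLocalization (Algebra.algebraMapSubmonoid (B ⧸ I) T) (S ⧸ J) :=
      IsLocalization.of_surjective (M := T) (S := S) (R' := B ⧸ I) (S' := S ⧸ J)
        (Ideal.Quotient.mk I) Ideal.Quotient.mk_surjective (Ideal.Quotient.mk J)
        Ideal.Quotient.mk_surjective rfl (by rw [Ideal.mk_ker, Ideal.mk_ker, hIJ])
    exact IsLocalization.flat _ (Algebra.algebraMapSubmonoid (B ⧸ I) T)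
  letI : Module (B ⧸ I) (N ⧸ J • (⊤ : Submodule S N)) :=
    Module.compHom _ (algebraMap (B ⧸ I) (S ⧸ J))
  haveI : IsScalarTower (B ⧸ I) (S ⧸ J) (N ⧸ J • (⊤ : Submodule S N)) :=
    IsScalarTower.of_algebraMap_smul fun _ _ => rfl
  haveI : Module.Flat (B ⧸ I) (N ⧸ J • (⊤ : Submodule S N)) := Module.Flat.trans (B ⧸ I) (S ⧸ J) _
  have hsub : (I • ⊤ : Submodule B N) = (J • (⊤ : Submodule S N)).restrictScalars B := by
    rw [← hIJ, Ideal.smul_restrictScalars, Submodule.restrictScalars_top]
  let e : (B ⧸ I) ⊗[B] N ≃ₗ[B] N ⧸ J • (⊤ : Submodule S N) :=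
    (TensorProduct.quotTensorEquivQuotSMul N I).trans
      ((Submodule.quotEquivOfEq _ _ hsub).trans
        (Submodule.Quotient.restrictScalarsEquiv B (J • (⊤ : Submodule S N))))
  haveI : IsScalarTower B (B ⧸ I) (N ⧸ J • (⊤ : Submodule S N)) :=
    IsScalarTower.of_algebraMap_smul fun a x => by
      show (algebraMap (B ⧸ I) (S ⧸ J) (algebraMap B (B ⧸ I) a)) • x = a • x
      rw [← IsScalarTower.algebraMap_apply, IsScalarTower.algebraMap_apply B S (S ⧸ J),
        algebraMap_smul, algebraMap_smul]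
  exact flat_of_linearEquiv_of_surjective (D := B ⧸ I) Ideal.Quotient.mk_surjective e.symm

/-- The fibre condition along a surjection `B' → B` which is bijective on the fibre. -/
theorem fibre_cond_of_surjective {B' B MQ : Type u} [CommRing B'] [CommRing B] [Algebra B' B]
    [AddCommGroup MQ] [Module B MQ] [Module B' MQ] [IsScalarTower B' B MQ]
    (hπ : Surjective (algebraMap B' B)) (I' : Ideal B') (I : Ideal B)
    (hII : I'.map (algebraMap B' B) = I) (T : Submonoid B')
    (hT : ∀ t ∈ T, Surjective fun y : MQ => t • y)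
    (hker : ∀ z, algebraMap B' B z ∈ I → ∃ t ∈ T, t * z ∈ I')
    (hfib : Module.Flat (B ⧸ I) ((B ⧸ I) ⊗[B] MQ)) : Module.Flat (B' ⧸ I') ((B' ⧸ I') ⊗[B'] MQ) := by
  let ρ : (B' ⧸ I') →+* (B ⧸ I) :=
    Ideal.quotientMap I (algebraMap B' B) (Ideal.map_le_iff_le_comap.1 hII.le)
  letI : Algebra (B' ⧸ I') (B ⧸ I) := ρ.toAlgebra
  haveI : SMulCommClass (B' ⧸ I') B (B ⧸ I) := inferInstance
  have hρ : ∀ (a : B') (x : (B ⧸ I) ⊗[B] MQ), (Ideal.Quotient.mk I' a) • x = a • x := fun a x => by
    rw [← algebraMap_smul (B ⧸ I) (Ideal.Quotient.mk I' a) x]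
    show algebraMap B (B ⧸ I) (algebraMap B' B a) • x = a • x
    rw [algebraMap_smul, algebraMap_smul]
  haveI : IsScalarTower B' (B' ⧸ I') ((B ⧸ I) ⊗[B] MQ) :=
    IsScalarTower.of_algebraMap_smul (R := B') (A := B' ⧸ I') fun a x => hρ a x
  haveI := hfib
  have hD : Surjective (algebraMap (B' ⧸ I') (B ⧸ I)) := fun d => by
    obtain ⟨b, rfl⟩ := Ideal.Quotient.mk_surjective d
    obtain ⟨b', rfl⟩ := hπ b
    exact ⟨Ideal.Quotient.mk I' b', rfl⟩
  haveI : Module.Flat (B' ⧸ I') ((B ⧸ I) ⊗[B] MQ) :=
    flat_of_surjective_of_torsion hD (T.map (algebraMap B' (B' ⧸ I'))) (fun t ht x => by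
      obtain ⟨r, hr, rfl⟩ := Submonoid.mem_map.1 ht
      induction x with
      | zero => exact ⟨0, smul_zero _⟩
      | tmul d y =>
        obtain ⟨y', rfl⟩ := hT r hr y
        refine ⟨d ⊗ₜ y', ?_⟩
        show Ideal.Quotient.mk I' r • (d ⊗ₜ[B] y') = d ⊗ₜ (r • y')
        rw [hρ, ← algebraMap_smul B r (d ⊗ₜ[B] y'), ← tmul_smul, algebraMap_smul]
      | add u v hu hv =>
        obtain ⟨u', rfl⟩ := hu
        obtain ⟨v', rfl⟩ := hv
        exact ⟨u' + v', smul_add _ _ _⟩)
    fun z hz => by
      obtain ⟨z, rfl⟩ := Ideal.Quotient.mk_surjective z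
      obtain ⟨t, ht, htz⟩ := hker z (Ideal.Quotient.eq_zero_iff_mem.1 hz)
      exact ⟨_, Submonoid.mem_map.2 ⟨t, ht, rfl⟩,
        (map_mul (Ideal.Quotient.mk I') t z).symm.trans (Ideal.Quotient.eq_zero_iff_mem.2 htz)⟩
  have hsubI : (I' • ⊤ : Submodule B' MQ) = (I • (⊤ : Submodule B MQ)).restrictScalars B' := by
    rw [← hII, Ideal.smul_restrictScalars, Submodule.restrictScalars_top]
  let e : (B ⧸ I) ⊗[B] MQ ≃ₗ[B'] (B' ⧸ I') ⊗[B'] MQ :=
    ((TensorProduct.quotTensorEquivQuotSMul MQ I).restrictScalars B').trans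
      ((Submodule.Quotient.restrictScalarsEquiv B' (I • (⊤ : Submodule B MQ))).symm.trans
        ((Submodule.quotEquivOfEq _ _ hsubI.symm).trans
          (TensorProduct.quotTensorEquivQuotSMul MQ I').symm))
  exact flat_of_linearEquiv_of_surjective (D := B' ⧸ I') Ideal.Quotient.mk_surjective e

/-- EGA IV 11.3.10 with the middle algebra of finite type. -/
theorem fibre_flat_criterion_ft (R B C : Type u) [CommRing R] [CommRing B] [CommRing C] [Algebra R B]
    [Algebra B C] [Algebra R C] [IsScalarTower R B C] [Algebra.FiniteType R B]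
    [Algebra.FinitePresentation R C] (M : Type u) [AddCommGroup M] [Module C M] [Module B M]
    [Module R M] [IsScalarTower B C M] [IsScalarTower R C M] [IsScalarTower R B M]
    [Module.FinitePresentation C M] (Q : Ideal C) [Q.IsPrime] (hflat : FlatCA.FlatAt R Q M)
    (I : Ideal B) (hI : I = (Q.comap (algebraMap R C)).map (algebraMap R B))
    (hfib : Module.Flat (B ⧸ I) ((B ⧸ I) ⊗[B] LocalizedModule Q.primeCompl M)) :
    FlatCA.FlatAt B Q M := by
  classical
  obtain ⟨m, π, hπ⟩ := Algebra.FiniteType.iff_quotient_mvPolynomial''.1 ‹Algebra.FiniteType R B›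
  let P := MvPolynomial (Fin m) R
  let K : Ideal P := RingHom.ker π.toRingHom
  let p := Q.comap (algebraMap R C)
  let k := FractionRing (R ⧸ p)
  let φ := MvPolynomial.map (σ := Fin m) (algebraMap R k)
  obtain ⟨G, hG⟩ := IsNoetherian.noetherian (K.map φ)
  have hsub : ∀ y ∈ G, ∃ F : Finset P, ↑F ⊆ (K : Set P) ∧ y ∈ Ideal.span (φ '' (F : Set P)) := by
    intro y hy
    have : y ∈ Ideal.span (φ '' (K : Set P)) := by
      have h : y ∈ K.map φ := hG.le (Submodule.subset_span hy)
      exact h
    obtain ⟨T, hT, hyT⟩ := Submodule.mem_span_finite_of_mem_span this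
    obtain ⟨F, hF, rfl⟩ := Finset.subset_set_image_iff.1 hT
    exact ⟨F, hF, by rwa [Finset.coe_image] at hyT⟩
  choose! F hFK hFy using hsub
  let Fs : Finset P := G.biUnion F
  have hFsK : ↑Fs ⊆ (K : Set P) := fun z hz => by
    obtain ⟨y, hy, hzy⟩ := Finset.mem_biUnion.1 hz
    exact hFK y hy hzy
  have hKle : K.map φ ≤ (Ideal.span (Fs : Set P)).map φ := by
    rw [← hG, Submodule.span_le]
    intro y hy
    rw [Ideal.map_span]
    refine Ideal.span_mono (Set.image_mono fun z hz => ?_) (hFy y hy)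
    exact Finset.mem_biUnion.2 ⟨y, hy, hz⟩
  -- clear denominators
  have hclear : ∀ z ∈ K, ∃ t : R, t ∉ p ∧
      MvPolynomial.C t * z ∈ Ideal.span (Fs : Set P) ⊔ p.map MvPolynomial.C := by
    intro z hz
    let D := R ⧸ p
    let φD := MvPolynomial.map (σ := Fin m) (algebraMap R D)
    have hφD : Surjective φD := MvPolynomial.map_surjective _ Ideal.Quotient.mk_surjective
    letI := MvPolynomial.algebraMvPolynomial (σ := Fin m) (R := D) (S := k)
    let Mn := (nonZeroDivisors D).map (MvPolynomial.C (σ := Fin m) : D →+* MvPolynomial (Fin m) D)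
    haveI : IsLocalization Mn (MvPolynomial (Fin m) k) := MvPolynomial.isLocalization _ _
    have hcomp : φ = (MvPolynomial.map (algebraMap D k)).comp φD := by
      show MvPolynomial.map (algebraMap R k) = _
      rw [IsScalarTower.algebraMap_eq R D k, mvMap_comp]
    have hz' : algebraMap (MvPolynomial (Fin m) D) (MvPolynomial (Fin m) k) (φD z) ∈
        ((Ideal.span (Fs : Set P)).map φD).map
          (algebraMap (MvPolynomial (Fin m) D) (MvPolynomial (Fin m) k)) := by
      rw [Ideal.map_map]
      have := hKle (Ideal.mem_map_of_mem φ hz)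
      rw [hcomp] at this
      exact this
    obtain ⟨c, hc, hcz⟩ := (IsLocalization.algebraMap_mem_map_algebraMap_iff Mn _ _ _).1 hz'
    obtain ⟨d, hd, rfl⟩ := Submonoid.mem_map.1 hc
    obtain ⟨t, rfl⟩ := Ideal.Quotient.mk_surjective d
    obtain ⟨w, hw, hwz⟩ := (Ideal.mem_map_iff_of_surjective φD hφD).1 hcz
    refine ⟨t, fun ht => nonZeroDivisors.ne_zero hd (Ideal.Quotient.eq_zero_iff_mem.2 ht), ?_⟩
    rw [← add_sub_cancel w (MvPolynomial.C t * z)]
    refine Submodule.add_mem_sup hw ?_
    have : MvPolynomial.C t * z - w ∈ RingHom.ker φD := by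
      rw [RingHom.mem_ker, map_sub, map_mul, hwz, MvPolynomial.map_C]
      exact sub_self _
    rwa [MvPolynomial.ker_map, show RingHom.ker (algebraMap R D) = p from Ideal.mk_ker] at this
  -- the fp approximation of `B`
  let B' := P ⧸ Ideal.span (Fs : Set P)
  haveI : Algebra.FinitePresentation R B' := Algebra.FinitePresentation.quotient ⟨Fs, rfl⟩
  let πB : B' →ₐ[R] B := Ideal.Quotient.liftₐ _ π fun z hz => Ideal.span_le.2 hFsK hz
  letI : Algebra B' B := πB.toRingHom.toAlgebra
  haveI : IsScalarTower R B' B := IsScalarTower.of_algebraMap_eq fun x => (πB.commutes x).symm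
  have hπB : Surjective (algebraMap B' B) := fun b => by
    obtain ⟨z, rfl⟩ := hπ b
    exact ⟨Ideal.Quotient.mk _ z, rfl⟩
  letI : Algebra B' C := ((algebraMap B C).comp (algebraMap B' B)).toAlgebra
  haveI : IsScalarTower B' B C := IsScalarTower.of_algebraMap_eq' rfl
  haveI : IsScalarTower R B' C := IsScalarTower.of_algebraMap_eq (R := R) (S := B') (A := C) fun x => by
    rw [IsScalarTower.algebraMap_apply B' B C, ← IsScalarTower.algebraMap_apply R B' B,
      ← IsScalarTower.algebraMap_apply R B C]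
  letI : Module B' M := Module.compHom M (algebraMap B' C)
  haveI : IsScalarTower B' C M := IsScalarTower.of_algebraMap_smul fun _ _ => rfl
  haveI : IsScalarTower R B' M := IsScalarTower.of_algebraMap_smul (R := R) (A := B') (M := M) fun a x => by
    show algebraMap B' C (algebraMap R B' a) • x = a • x
    rw [← IsScalarTower.algebraMap_apply, algebraMap_smul]
  haveI : Algebra.FinitePresentation B' C :=
    Algebra.FinitePresentation.of_restrict_scalars_finitePresentation R B' C
  let MQ := LocalizedModule Q.primeCompl M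
  haveI : IsScalarTower B' B MQ := IsScalarTower.of_algebraMap_smul fun a x => by
    rw [← algebraMap_smul C (algebraMap B' B a) x, ← algebraMap_smul C a x,
      ← IsScalarTower.algebraMap_apply]
  let I' := p.map (algebraMap R B')
  have hII : I'.map (algebraMap B' B) = I := by
    rw [hI, Ideal.map_map, ← IsScalarTower.algebraMap_eq]
  have hfib' : Module.Flat (B' ⧸ I') ((B' ⧸ I') ⊗[B'] MQ) :=
    fibre_cond_of_surjective hπB I' I hII (p.primeCompl.map (algebraMap R B')) (fun t ht y => by
      obtain ⟨r, hr, rfl⟩ := Submonoid.mem_map.1 ht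
      obtain ⟨y', hy'⟩ := ((Module.End.isUnit_iff _).1 (IsLocalizedModule.map_units
        (LocalizedModule.mkLinearMap Q.primeCompl M)
        (⟨algebraMap R C r, fun hm => hr hm⟩ : Q.primeCompl))).2 y
      refine ⟨y', ?_⟩
      show algebraMap R B' r • y' = y
      rw [← algebraMap_smul B (algebraMap R B' r) y', ← algebraMap_smul C (algebraMap B' B _) y',
        ← IsScalarTower.algebraMap_apply R B' B, ← IsScalarTower.algebraMap_apply R B C]
      exact hy')
    (fun z hz => by
      obtain ⟨z, rfl⟩ := Ideal.Quotient.mk_surjective z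
      have hzI : π z ∈ (p.map (MvPolynomial.C (σ := Fin m))).map π.toRingHom := by
        rw [Ideal.map_map, show π.toRingHom.comp MvPolynomial.C = algebraMap R B from
          RingHom.ext fun x => π.commutes x, ← hI]
        exact hz
      obtain ⟨w, hw, hwz⟩ := (Ideal.mem_map_iff_of_surjective π.toRingHom hπ).1 hzI
      obtain ⟨t, ht, htz⟩ := hclear (z - w) (by
        show π (z - w) = 0
        rw [map_sub, sub_eq_zero]
        exact hwz.symm)
      refine ⟨algebraMap R B' t, Submonoid.mem_map.2 ⟨t, ht, rfl⟩, ?_⟩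
      have hmem : MvPolynomial.C t * z ∈ Ideal.span (Fs : Set P) ⊔ p.map MvPolynomial.C := by
        rw [← sub_add_cancel z w, mul_add]
        exact add_mem htz (Submodule.mem_sup_right (Ideal.mul_mem_left _ _ hw))
      obtain ⟨u, hu, v, hv, huv⟩ := Submodule.mem_sup.1 hmem
      show Ideal.Quotient.mk (Ideal.span (Fs : Set P)) (MvPolynomial.C t) * Ideal.Quotient.mk _ z ∈ I'
      rw [← map_mul, ← huv, map_add, Ideal.Quotient.eq_zero_iff_mem.2 hu, zero_add]
      have : Ideal.Quotient.mk (Ideal.span (Fs : Set P)) v ∈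
          (p.map (MvPolynomial.C (σ := Fin m))).map (Ideal.Quotient.mk (Ideal.span (Fs : Set P))) :=
        Ideal.mem_map_of_mem _ hv
      rw [Ideal.map_map] at this
      exact this) hfib
  have hB' := fibre_flat_criterion R B' C M Q hflat I' rfl hfib'
  haveI : Module.Flat B' MQ := hB'
  exact Module.Flat.of_linearEquiv
    (LinearEquiv.ofBijective _ (bijective_liftBaseChange_id (N := MQ) hπB)).symm

end Groth.Agent.FlatOpen
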