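import Groth.Agent.FlatOpen.EquiDim
import Groth.Agent.FlatOpen.CMAffine
import Groth.Agent.S9766
import Groth.Agent.S4961

/-!
# Fibre dimensions of Cohen–Macaulay composites

* `fibreDimAt_comp`: additivity at Cohen–Macaulay points.
* `fibreDimAt_eq_ringKrullDim`: at a point rational over its image, the dimension of the fibre ring.
* `fibreDimAt_openImmersion_comp`.
-/

set_option autoImplicit false
set_option linter.style.haveILetI false

universe u

open CategoryTheory Limits AlgebraicGeometry IsLocalRing Groth.Agent.VarDim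

namespace Groth.Agent.FlatOpen.CMDim

open EquiDim

theorem exists_fMax {X Y : Scheme.{u}} (f : X ⟶ Y) (x : X) :
    ∃ ζ : X, ζ ⤳ x ∧ f ζ = f x ∧ FMax f ζ := by
  obtain ⟨η, hη, hmax⟩ := exists_max (f.asFiber x)
  refine ⟨f.fiberι (f x) η, ?_, (f.range_fiberι (f x)).le (Set.mem_range_self η),
    (fMax_fiberι_iff f (f x) η).1 hmax⟩
  have := hη.map (f.fiberι (f x)).continuous
  rwa [f.fiberι_asFiber] at this

theorem fibreDimAt_comp {X Y Z : Scheme.{u}} (f : X ⟶ Y) (g : Y ⟶ Z) [LocallyOfFinitePresentation f]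
    [LocallyOfFinitePresentation g] (x : X) (hf : MoreMor.IsCMAt f x) (hg : MoreMor.IsCMAt g (f x))
    {a b : ℕ} (ha : FlatMor.fibreDimAt f x = a) (hb : FlatMor.fibreDimAt g (f x) = b) :
    FlatMor.fibreDimAt (f ≫ g) x = (a + b : ℕ) := by
  obtain ⟨c, hc⟩ := CMLocus.exists_fibreDimAt_eq (f ≫ g) x
  have hfg : MoreMor.IsCMAt (f ≫ g) x :=
    S9766.result f g x (LocallyOfFiniteType.isLocallyNoetherian ((f ≫ g).fiberToSpecResidueField _)) hf hg
  obtain ⟨ζ, hsp, hζ, hmax⟩ := exists_fMax (f ≫ g) x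
  have h1 := hsp.mem_open (CMLocus.isOpen_isCMAt_fibreDim f a) ⟨hf, ha⟩
  have h2 := hsp.mem_open ((CMLocus.isOpen_isCMAt_fibreDim g b).preimage f.continuous) ⟨hg, hb⟩
  have h3 := hsp.mem_open (CMLocus.isOpen_isCMAt_fibreDim (f ≫ g) c) ⟨hfg, hc⟩
  have hmf : FMax f ζ := fun z hz hfz => hmax z hz (by
    simp only [Scheme.Hom.comp_apply, hfz])
  have hmg : FMax g (f ζ) := by
    intro z hz hgz
    let U : X.Opens := ⟨_, S4961.result f⟩
    have hζU : ζ ∈ U := h1.1
    haveI : Flat (U.ι ≫ f) := (Flat.iff_flat_stalkMap _).2 fun w =>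
      (CMAffine.stalkMap_flat_comp_iff U.ι f w).2 w.2.1
    obtain ⟨w, hw, hwz⟩ := Flat.generalizingMap (U.ι ≫ f)
      (show z ⤳ (U.ι ≫ f) ⟨ζ, hζU⟩ from hz)
    have hwz' : f (U.ι w) = z := hwz
    have := hmax (U.ι w) (hw.map U.ι.continuous) (by
      rw [Scheme.Hom.comp_apply, Scheme.Hom.comp_apply, hwz', hgz])
    rw [← hwz', this]
  have e1 := fibreDimAt_eq_trdeg f hmf h1.2
  have e2 := fibreDimAt_eq_trdeg g hmg h2.2
  have e3 := fibreDimAt_eq_trdeg (f ≫ g) hmax h3.2
  letI := (f.residueFieldMap ζ).hom.toAlgebra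
  letI := (g.residueFieldMap (f ζ)).hom.toAlgebra
  letI i3 : Algebra (Z.residueField (g (f ζ))) (X.residueField ζ) :=
    ((f ≫ g).residueFieldMap ζ).hom.toAlgebra
  haveI : IsScalarTower (Z.residueField (g (f ζ))) (Y.residueField (f ζ)) (X.residueField ζ) :=
    IsScalarTower.of_algebraMap_eq' (by
      show ((f ≫ g).residueFieldMap ζ).hom = (f.residueFieldMap ζ).hom.comp (g.residueFieldMap (f ζ)).hom
      rw [Scheme.residueFieldMap_comp]
      rfl)
  haveI : FaithfulSMul (Z.residueField (g (f ζ))) (Y.residueField (f ζ)) :=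
    (faithfulSMul_iff_algebraMap_injective _ _).2 (RingHom.injective _)
  haveI : FaithfulSMul (Y.residueField (f ζ)) (X.residueField ζ) :=
    (faithfulSMul_iff_algebraMap_injective _ _).2 (RingHom.injective _)
  have e := trdeg_add_eq (Z.residueField (g (f ζ))) (Y.residueField (f ζ)) (A := X.residueField ζ)
  rw [e1, e2] at e
  have e' : ((b : Cardinal.{u}) + a) = c := e.trans e3
  have e'' : b + a = c := by exact_mod_cast e'
  rw [hc]
  exact_mod_cast (by omega : c = a + b)

/-- At a point rational over its image, the fibre dimension is the dimension of the fibre ring. -/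
theorem fibreDimAt_eq_ringKrullDim {X Y : Scheme.{u}} (f : X ⟶ Y) [LocallyOfFiniteType f] (x : X)
    (h : Function.Surjective (f.residueFieldMap x).hom) :
    FlatMor.fibreDimAt f x = ringKrullDim
      (X.presheaf.stalk x ⧸ (maximalIdeal (Y.presheaf.stalk (f x))).map (f.stalkMap x).hom) := by
  letI := f.fiberOverSpecResidueField (f x)
  haveI : LocallyOfFiniteType ((f.fiber (f x)) ↘ Spec (CommRingCat.of (Y.residueField (f x)))) :=
    CycLib.locallyOfFiniteType_fiberToSpecResidueField f (f x)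
  obtain ⟨z, hz, htr⟩ := exists_trdeg_fibre f x
  have hza : z = f.asFiber x := (f.fiberι _).isEmbedding.injective (hz.trans (f.fiberι_asFiber x).symm)
  subst hza
  obtain ⟨n, hn, hld⟩ := localDim_eq_coheight_add (Y.residueField (f x)) (f.asFiber x)
  have h0 : dimPt (Y.residueField (f x)) (f.fiber (f x)) (f.asFiber x) = 0 := by
    letI := (f.residueFieldMap x).hom.toAlgebra
    haveI : FaithfulSMul (Y.residueField (f x)) (X.residueField x) :=
      (faithfulSMul_iff_algebraMap_injective _ _).2 (RingHom.injective _)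
    haveI : Algebra.IsAlgebraic (Y.residueField (f x)) (X.residueField x) :=
      ⟨fun r => by obtain ⟨c, rfl⟩ := h r; exact isAlgebraic_algebraMap c⟩
    have := htr.symm.trans (trdeg_eq_zero (R := Y.residueField (f x)) (A := X.residueField x))
    exact_mod_cast this
  obtain ⟨ε⟩ := Groth.Agent.FlatMor.FibreStalk.exists_fibre_stalk_equiv f x
  rw [h0, Nat.add_zero] at hld
  refine hld.trans ?_
  rw [ringKrullDim_eq_of_ringEquiv ε, ringKrullDim_stalk_eq_coheight, hn]
  rfl

theorem fibreDimAt_openImmersion {X Y : Scheme.{u}} (f : X ⟶ Y) [IsOpenImmersion f] (x : X) :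
    FlatMor.fibreDimAt f x = (0 : ℕ) := by
  obtain ⟨n, hn⟩ := CMLocus.exists_fibreDimAt_eq f x
  have h := fibreDimAt_eq_trdeg f (fun z _ hz => f.isOpenEmbedding.injective hz) hn
  letI := (f.residueFieldMap x).hom.toAlgebra
  haveI : FaithfulSMul (Y.residueField (f x)) (X.residueField x) :=
    (faithfulSMul_iff_algebraMap_injective _ _).2 (RingHom.injective _)
  haveI : Algebra.IsAlgebraic (Y.residueField (f x)) (X.residueField x) :=
    ⟨fun r => by
      obtain ⟨c, rfl⟩ := (RadPtLib.residueFieldMap_bijective f x).2 r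
      exact isAlgebraic_algebraMap c⟩
  rw [trdeg_eq_zero (R := Y.residueField (f x)) (A := X.residueField x)] at h
  have hn0 : n = 0 := by exact_mod_cast h.symm
  rw [hn, hn0]

theorem fibreDimAt_openImmersion_comp {X Y Z : Scheme.{u}} (f : X ⟶ Y) (g : Y ⟶ Z) [IsOpenImmersion f]
    [LocallyOfFinitePresentation g] (x : X) (hg : MoreMor.IsCMAt g (f x)) :
    FlatMor.fibreDimAt (f ≫ g) x = FlatMor.fibreDimAt g (f x) := by
  obtain ⟨b, hb⟩ := CMLocus.exists_fibreDimAt_eq g (f x)
  rw [hb, fibreDimAt_comp f g x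
    (FibreGeneric.isCMAt_of_fibre_maximal f x fun _ _ h => f.isOpenEmbedding.injective h) hg
    (fibreDimAt_openImmersion f x) hb, Nat.zero_add]

end Groth.Agent.FlatOpen.CMDim
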