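import Mathlib

/-!
# Generic freeness over a Noetherian domain

* `free_of_filtration`: an exhaustive filtration with free first step and free successive quotients.
* `isGenFree_of_finiteType`: for a Noetherian domain `R`, a finite type `R`-algebra `T` and a finite
  `T`-module `M`, some `M_f` is free over `R_f` (Hochster–Roberts filtration argument).
-/

set_option autoImplicit false
set_option linter.style.haveILetI false

universe u

open TensorProduct Function

namespace Groth.Agent.FlatOpen

/-- `M` becomes free after inverting a nonzero element of `R`. -/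
def IsGenFree (R : Type u) [CommRing R] (M : Type u) [AddCommGroup M] [Module R M] : Prop :=
  ∃ f : R, f ≠ 0 ∧ Module.Free (Localization.Away f) (Localization.Away f ⊗[R] M)

theorem free_of_filtration {A : Type u} [CommRing A] {X : Type u} [AddCommGroup X] [Module A X]
    (F : ℕ → Submodule A X) (hF : Monotone F) (htop : ⨆ k, F k = ⊤) [Module.Free A (F 0)]
    (Q : ℕ → Type u) [∀ k, AddCommGroup (Q k)] [∀ k, Module A (Q k)] [∀ k, Module.Free A (Q k)]
    (ψ : ∀ k, F (k + 1) →ₗ[A] Q k) (hψ : ∀ k, Surjective (ψ k))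
    (hker : ∀ k (x : F (k + 1)), ψ k x = 0 ↔ (x : X) ∈ F k) : Module.Free A X := by
  classical
  choose σ hσ using fun k => Module.projective_lifting_property (ψ k) LinearMap.id (hψ k)
  have hσ' : ∀ k z, ψ k (σ k z) = z := fun k z => LinearMap.congr_fun (hσ k) z
  let g : ∀ k, Q k →ₗ[A] X := fun k => (F (k + 1)).subtype ∘ₗ σ k
  let Φ : (F 0 × DirectSum ℕ Q) →ₗ[A] X :=
    (F 0).subtype.coprod (DirectSum.toModule A ℕ X g)
  have hsurj : Surjective Φ := by
    have hle : ∀ k, F k ≤ LinearMap.range Φ := by
      intro k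
      induction k with
      | zero => exact fun x hx => ⟨(⟨x, hx⟩, 0), by simp [Φ]⟩
      | succ k ih =>
        intro x hx
        obtain ⟨p, hp⟩ := ih (show x - g k (ψ k ⟨x, hx⟩) ∈ F k from by
          have h := (hker k (⟨x, hx⟩ - σ k (ψ k ⟨x, hx⟩))).1 (by simp [hσ'])
          simpa [g] using h)
        refine ⟨p + (0, DirectSum.lof A ℕ Q k (ψ k ⟨x, hx⟩)), ?_⟩
        rw [map_add, hp]
        simp [Φ]
    intro x
    exact (htop.symm.trans_le (iSup_le hle)) Submodule.mem_top
  have hn : ∀ (n : ℕ) (q : DirectSum ℕ Q), (∀ k, n ≤ k → q k = 0) → ∀ a : F 0,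
      Φ (a, q) ∈ F n ∧ (Φ (a, q) = 0 → a = 0 ∧ q = 0) := by
    intro n
    induction n with
    | zero =>
      intro q hq a
      obtain rfl : q = 0 := by
        ext k
        simpa using hq k (Nat.zero_le k)
      simp [Φ]
    | succ n ih =>
      intro q hq a
      obtain ⟨q', hq'eq, hq'⟩ : ∃ q' : DirectSum ℕ Q, q = q' + DirectSum.lof A ℕ Q n (q n) ∧
          ∀ k, n ≤ k → q' k = 0 := by
        refine ⟨q - DirectSum.lof A ℕ Q n (q n), (sub_add_cancel _ _).symm, fun k hk => ?_⟩
        rcases eq_or_lt_of_le hk with rfl | hlt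
        · rw [DirectSum.sub_apply, DirectSum.lof_eq_of, DirectSum.of_eq_same, sub_self]
        · rw [DirectSum.sub_apply, DirectSum.lof_eq_of, DirectSum.of_eq_of_ne _ _ _ hlt.ne', sub_zero,
            hq k hlt]
      obtain ⟨h1, h2⟩ := ih q' hq' a
      have heq : Φ (a, q) = Φ (a, q') + g n (q n) := by
        have : ((a, q) : F 0 × DirectSum ℕ Q) = (a, q') + (0, DirectSum.lof A ℕ Q n (q n)) := by
          rw [Prod.mk_add_mk, add_zero, ← hq'eq]
        rw [this, map_add]
        simp [Φ]
      refine ⟨?_, fun h0 => ?_⟩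
      · rw [heq]
        exact add_mem (hF n.le_succ h1) (σ n (q n)).2
      · have hgn : g n (q n) ∈ F n := by
          rw [heq, add_eq_zero_iff_eq_neg'] at h0
          rw [h0]
          exact neg_mem h1
        have hqn : q n = 0 := by
          rw [← hσ' n (q n)]
          exact (hker n _).2 hgn
        obtain rfl : q = q' := by rw [hq'eq, hqn, map_zero, add_zero]
        exact h2 h0
  have hinj : Injective Φ := by
    rw [injective_iff_map_eq_zero]
    rintro ⟨a, q⟩ hq
    obtain ⟨ha, hq'⟩ := (hn (q.support.sup id + 1) q (fun k hk => by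
      by_contra hne
      have : k ≤ q.support.sup id := Finset.le_sup (f := id) (DFinsupp.mem_support_iff.2 hne)
      omega) a).2 hq
    rw [ha, hq']
    rfl
  haveI : Module.Free A (DirectSum ℕ Q) := inferInstance
  exact Module.Free.of_equiv (LinearEquiv.ofBijective Φ ⟨hinj, hsurj⟩)

section GenFree

variable {R : Type u} [CommRing R]

theorem free_away_mul (f g : R) {M : Type u} [AddCommGroup M] [Module R M]
    (h : Module.Free (Localization.Away f) (Localization.Away f ⊗[R] M)) :
    Module.Free (Localization.Away (f * g)) (Localization.Away (f * g) ⊗[R] M) := by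
  letI : Algebra (Localization.Away f) (Localization.Away (f * g)) :=
    (IsLocalization.Away.awayToAwayRight (S := Localization.Away f)
      (P := Localization.Away (f * g)) f g).toAlgebra
  haveI : IsScalarTower R (Localization.Away f) (Localization.Away (f * g)) :=
    IsScalarTower.of_algebraMap_eq fun a => (IsLocalization.Away.awayToAwayRight_eq f g a).symm
  exact Module.Free.of_equiv (AlgebraTensorModule.cancelBaseChange R (Localization.Away f)
    (Localization.Away (f * g)) (Localization.Away (f * g)) M)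

theorem IsGenFree.of_equiv {M N : Type u} [AddCommGroup M] [Module R M] [AddCommGroup N]
    [Module R N] (e : M ≃ₗ[R] N) (h : IsGenFree R M) : IsGenFree R N := by
  obtain ⟨f, hf, hfree⟩ := h
  exact ⟨f, hf, Module.Free.of_equiv (AlgebraTensorModule.congr (LinearEquiv.refl
    (Localization.Away f) (Localization.Away f)) e)⟩

theorem isGenFree_of_finite [IsDomain R] [IsNoetherianRing R] (M : Type u) [AddCommGroup M]
    [Module R M] [Module.Finite R M] : IsGenFree R M := by
  haveI : Module.FinitePresentation R M := Module.finitePresentation_of_finite R M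
  obtain ⟨f, hf, hfree, -⟩ := Module.FinitePresentation.exists_free_localizedModule_powers
    (nonZeroDivisors R) (LocalizedModule.mkLinearMap (nonZeroDivisors R) M) (FractionRing R)
  exact ⟨f, nonZeroDivisors.ne_zero hf,
    Module.Free.of_equiv (LocalizedModule.equivTensorProduct (Submonoid.powers f) M)⟩

variable {S T : Type u} [CommRing S] [CommRing T] [Algebra R S] [Algebra S T] [Algebra R T]
  [IsScalarTower R S T]

theorem isGenFree_adjoin [IsDomain R] [IsNoetherianRing S] (x : T)
    (hx : Surjective (Polynomial.aeval (R := S) x))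
    (hS : ∀ (N : Type u) [AddCommGroup N] [Module R N] [Module S N] [IsScalarTower R S N]
      [Module.Finite S N], IsGenFree R N)
    (M : Type u) [AddCommGroup M] [Module R M] [Module S M] [Module T M] [IsScalarTower R T M]
    [IsScalarTower S T M] [IsScalarTower R S M] [Module.Finite T M] : IsGenFree R M := by
  classical
  obtain ⟨s, hs⟩ := (inferInstance : Module.Finite T M).fg_top
  obtain ⟨mx, hmx⟩ : ∃ mx : ℕ → M →ₗ[S] M, ∀ k m, mx k m = x ^ k • m :=
    ⟨fun k => (LinearMap.lsmul T M (x ^ k)).restrictScalars S, fun _ _ => rfl⟩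
  let N0 : Submodule S M := Submodule.span S (s : Set M)
  obtain ⟨N, hN0, hNs⟩ : ∃ N : ℕ → Submodule S M,
      N 0 = N0 ∧ ∀ k, N (k + 1) = N k ⊔ N0.map (mx (k + 1)) :=
    ⟨fun k => Nat.rec N0 (fun j Nj => Nj ⊔ N0.map (mx (j + 1))) k, rfl, fun _ => rfl⟩
  have hmono : Monotone N := monotone_nat_of_le_succ fun k => (hNs k).symm ▸ le_sup_left
  have hfg : ∀ k, (N k).FG := by
    intro k
    induction k with
    | zero => exact hN0 ▸ ⟨s, rfl⟩
    | succ k ih => exact (hNs k).symm ▸ ih.sup (Submodule.FG.map _ ⟨s, rfl⟩)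
  have hpow : ∀ k, ∀ m ∈ N0, x ^ k • m ∈ N k := by
    intro k m hm
    cases k with
    | zero => simpa [hN0] using hm
    | succ k => exact (hNs k).symm ▸ Submodule.mem_sup_right ⟨m, hm, hmx _ _⟩
  have hxN : ∀ k, ∀ m ∈ N k, x • m ∈ N (k + 1) := by
    intro k
    induction k with
    | zero => intro m hm; rw [← pow_one x]; exact hpow 1 m (hN0 ▸ hm)
    | succ k ih =>
      intro m hm
      rw [hNs k] at hm
      obtain ⟨a, ha, b, ⟨c, hc, rfl⟩, rfl⟩ := Submodule.mem_sup.1 hm
      rw [smul_add]
      refine add_mem (hmono (Nat.le_succ _) (ih a ha)) ?_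
      rw [hmx, ← mul_smul, ← pow_succ']
      exact hpow (k + 2) c hc
  have hexh : ∀ m : M, ∃ k, m ∈ N k := by
    intro m
    have hm : m ∈ Submodule.span T (s : Set M) := hs ▸ Submodule.mem_top
    induction hm using Submodule.span_induction with
    | mem m hm => exact ⟨0, hN0 ▸ Submodule.subset_span hm⟩
    | zero => exact ⟨0, zero_mem _⟩
    | add a b _ _ ha hb =>
      obtain ⟨i, hi⟩ := ha
      obtain ⟨j, hj⟩ := hb
      exact ⟨max i j, add_mem (hmono (le_max_left i j) hi) (hmono (le_max_right i j) hj)⟩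
    | smul t a _ ha =>
      obtain ⟨p, rfl⟩ := hx t
      induction p using Polynomial.induction_on' with
      | add p q hp hq =>
        obtain ⟨i, hi⟩ := hp
        obtain ⟨j, hj⟩ := hq
        refine ⟨max i j, ?_⟩
        rw [map_add, add_smul]
        exact add_mem (hmono (le_max_left i j) hi) (hmono (le_max_right i j) hj)
      | monomial n c =>
        obtain ⟨i, hi⟩ := ha
        refine ⟨i + n, ?_⟩
        rw [Polynomial.aeval_monomial, mul_smul, algebraMap_smul]
        refine Submodule.smul_mem _ c ?_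
        clear c
        induction n with
        | zero => simpa using hi
        | succ n ih =>
          rw [pow_succ', mul_smul]
          exact hxN _ _ ih
  let φ : ∀ k, N0 →ₗ[S] M ⧸ N k := fun k => (N k).mkQ ∘ₗ mx (k + 1) ∘ₗ N0.subtype
  have hK : ∀ k (m : N0), m ∈ LinearMap.ker (φ k) ↔ x ^ (k + 1) • (m : M) ∈ N k := by
    intro k m
    simp [φ, hmx]
  have hKmono : Monotone fun k => LinearMap.ker (φ k) := monotone_nat_of_le_succ fun k m hm => by
    rw [hK] at hm ⊢
    rw [pow_succ', mul_smul]
    exact hxN k _ hm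
  haveI : Module.Finite S N0 := Module.Finite.iff_fg.2 ⟨s, rfl⟩
  obtain ⟨k0, hk0⟩ := monotone_stabilizes_iff_noetherian.2
    (inferInstance : IsNoetherian S N0) ⟨fun k => LinearMap.ker (φ k), hKmono⟩
  let Q : Type u := N0 ⧸ LinearMap.ker (φ k0)
  have hψ : ∀ k, ∃ ψ : N (k0 + (k + 1)) →ₗ[S] Q,
      Surjective ψ ∧ ∀ n, ψ n = 0 ↔ (n : M) ∈ N (k0 + k) := by
    intro k
    have hker : LinearMap.ker (φ k0) = LinearMap.ker (φ (k0 + k)) := hk0 (k0 + k) (by omega)
    let e : Q ≃ₗ[S] LinearMap.range (φ (k0 + k)) :=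
      (Submodule.quotEquivOfEq _ _ hker).trans (φ (k0 + k)).quotKerEquivRange
    have hmem : ∀ n : N (k0 + (k + 1)),
        ((N (k0 + k)).mkQ ∘ₗ (N (k0 + (k + 1))).subtype) n ∈ LinearMap.range (φ (k0 + k)) := by
      rintro ⟨n, hn⟩
      rw [← add_assoc, hNs (k0 + k)] at hn
      obtain ⟨a, ha, b, ⟨c, hc, rfl⟩, rfl⟩ := Submodule.mem_sup.1 hn
      refine ⟨⟨c, hc⟩, ?_⟩
      simp [φ, (Submodule.Quotient.mk_eq_zero _).2 ha]
    refine ⟨e.symm.toLinearMap ∘ₗ (((N (k0 + k)).mkQ ∘ₗ (N (k0 + (k + 1))).subtype).codRestrict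
      _ hmem), ?_, fun n => ?_⟩
    · refine e.symm.surjective.comp ?_
      rintro ⟨-, c, rfl⟩
      refine ⟨⟨x ^ (k0 + k + 1) • (c : M), ?_⟩, Subtype.ext ?_⟩
      swap
      · simp [φ, hmx]
      rw [← add_assoc]
      exact hpow _ _ c.2
    · rw [LinearMap.comp_apply, LinearEquiv.coe_coe, map_eq_zero_iff _ e.symm.injective,
        ← Subtype.coe_inj, LinearMap.codRestrict_apply, ZeroMemClass.coe_zero]
      exact Submodule.Quotient.mk_eq_zero _
  choose ψ hψsurj hψker using hψ
  haveI : Module.Finite S (N k0) := Module.Finite.iff_fg.2 (hfg k0)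
  obtain ⟨f1, hf1, hfree1⟩ := hS (N k0)
  obtain ⟨f2, hf2, hfree2⟩ := hS Q
  refine ⟨f1 * f2, mul_ne_zero hf1 hf2, ?_⟩
  haveI h1 := free_away_mul f1 f2 hfree1
  haveI h2 : Module.Free (Localization.Away (f1 * f2)) (Localization.Away (f1 * f2) ⊗[R] Q) := by
    have := free_away_mul f2 f1 hfree2
    rwa [mul_comm f2 f1] at this
  let A := Localization.Away (f1 * f2)
  haveI : Module.Flat R A := IsLocalization.flat A (Submonoid.powers (f1 * f2))
  let ι : ∀ j, A ⊗[R] N j →ₗ[A] A ⊗[R] M := fun j =>
    ((N j).subtype.restrictScalars R).baseChange A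
  have hι : ∀ j, Injective (ι j) := fun j =>
    Module.Flat.lTensor_preserves_injective_linearMap (M := A) ((N j).subtype.restrictScalars R)
      (N j).injective_subtype
  let F : ℕ → Submodule A (A ⊗[R] M) := fun k => LinearMap.range (ι (k0 + k))
  have hincl : ∀ {i j} (h : i ≤ j) z,
      ι j (((Submodule.inclusion (hmono h)).restrictScalars R).baseChange A z) = ι i z := by
    intro i j h z
    induction z with
    | zero => simp only [map_zero]
    | tmul a n => simp [ι]
    | add y z hy hz => simp only [map_add, hy, hz]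
  have hFmono : Monotone F := fun i j h => by
    rintro _ ⟨z, rfl⟩
    exact ⟨_, hincl (by omega) z⟩
  have htop : ⨆ k, F k = ⊤ := by
    rw [eq_top_iff]
    intro z hz
    clear hz
    induction z with
    | zero => exact zero_mem _
    | tmul a m =>
      obtain ⟨j, hj⟩ := hexh m
      exact Submodule.mem_iSup_of_mem j ⟨a ⊗ₜ ⟨m, hmono (by omega) hj⟩, by simp [ι]⟩
    | add y z hy hz => exact add_mem hy hz
  haveI : Module.Free A (F 0) := Module.Free.of_equiv (LinearEquiv.ofInjective (ι k0) (hι k0))
  let ψA : ∀ k, F (k + 1) →ₗ[A] A ⊗[R] Q := fun k =>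
    ((ψ k).restrictScalars R).baseChange A ∘ₗ
      (LinearEquiv.ofInjective _ (hι (k0 + (k + 1)))).symm.toLinearMap
  refine free_of_filtration F hFmono htop (fun _ => A ⊗[R] Q) ψA (fun k => ?_) (fun k y => ?_)
  · exact (LinearMap.lTensor_surjective A (g := (ψ k).restrictScalars R) (hψsurj k)).comp
      (LinearEquiv.ofInjective _ (hι (k0 + (k + 1)))).symm.surjective
  · obtain ⟨z, rfl⟩ := (LinearEquiv.ofInjective _ (hι (k0 + (k + 1)))).surjective y
    have hle : k0 + k ≤ k0 + (k + 1) := by omega
    have hex : Exact (((Submodule.inclusion (hmono hle)).restrictScalars R).baseChange A)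
        (((ψ k).restrictScalars R).baseChange A) := by
      refine lTensor_exact A (f := (Submodule.inclusion (hmono hle)).restrictScalars R)
        (g := (ψ k).restrictScalars R) ?_ (hψsurj k)
      intro n
      refine (hψker k n).trans ⟨fun h => ⟨⟨n, h⟩, Subtype.ext rfl⟩, ?_⟩
      rintro ⟨m, rfl⟩
      exact m.2
    simp only [ψA, LinearMap.comp_apply, LinearEquiv.coe_coe, LinearEquiv.symm_apply_apply,
      LinearEquiv.ofInjective_apply]
    refine (hex z).trans ⟨?_, ?_⟩
    · rintro ⟨w, rfl⟩
      exact ⟨w, (hincl hle w).symm⟩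
    · rintro ⟨w, hw⟩
      exact ⟨w, hι _ ((hincl hle w).trans hw)⟩

end GenFree

theorem isGenFree_mvPolynomial (R : Type u) [CommRing R] [IsDomain R] [IsNoetherianRing R] :
    ∀ (n : ℕ) (M : Type u) [AddCommGroup M] [Module R M] [Module (MvPolynomial (Fin n) R) M]
      [IsScalarTower R (MvPolynomial (Fin n) R) M] [Module.Finite (MvPolynomial (Fin n) R) M],
      IsGenFree R M := by
  intro n
  induction n with
  | zero =>
    intro M _ _ _ _ _
    haveI : Module.Finite R (MvPolynomial (Fin 0) R) :=
      Module.Finite.equiv (MvPolynomial.isEmptyAlgEquiv R (Fin 0)).symm.toLinearEquiv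
    haveI : Module.Finite R M := Module.Finite.trans (MvPolynomial (Fin 0) R) M
    exact isGenFree_of_finite M
  | succ n ih =>
    intro M _ _ _ _ _
    let ρ : MvPolynomial (Fin n) R →ₐ[R] MvPolynomial (Fin (n + 1)) R := MvPolynomial.rename Fin.succ
    letI : Algebra (MvPolynomial (Fin n) R) (MvPolynomial (Fin (n + 1)) R) := ρ.toRingHom.toAlgebra
    haveI : IsScalarTower R (MvPolynomial (Fin n) R) (MvPolynomial (Fin (n + 1)) R) :=
      IsScalarTower.of_algebraMap_eq fun a => (ρ.commutes a).symm
    letI : Module (MvPolynomial (Fin n) R) M := Module.compHom M ρ.toRingHom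
    haveI : IsScalarTower (MvPolynomial (Fin n) R) (MvPolynomial (Fin (n + 1)) R) M :=
      IsScalarTower.of_algebraMap_smul fun _ _ => rfl
    haveI : IsScalarTower R (MvPolynomial (Fin n) R) M :=
      IsScalarTower.of_algebraMap_smul fun r m => by
        show ρ (algebraMap R _ r) • m = r • m
        rw [ρ.commutes, algebraMap_smul]
    refine isGenFree_adjoin (S := MvPolynomial (Fin n) R) (MvPolynomial.X 0 :
      MvPolynomial (Fin (n + 1)) R) ?_ (fun N _ _ _ _ _ => ih N) M
    intro t
    induction t using MvPolynomial.induction_on with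
    | C a => exact ⟨Polynomial.C (MvPolynomial.C a), by
        rw [Polynomial.aeval_C]; exact MvPolynomial.rename_C _ a⟩
    | add p q hp hq =>
      obtain ⟨a, ha⟩ := hp
      obtain ⟨b, hb⟩ := hq
      exact ⟨a + b, by rw [map_add, ha, hb]⟩
    | mul_X p i hp =>
      obtain ⟨a, ha⟩ := hp
      induction i using Fin.cases with
      | zero => exact ⟨a * Polynomial.X, by rw [map_mul, ha, Polynomial.aeval_X]⟩
      | succ j =>
        refine ⟨a * Polynomial.C (MvPolynomial.X j), ?_⟩
        rw [map_mul, ha, Polynomial.aeval_C]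
        congr 1
        exact MvPolynomial.rename_X _ j

theorem isGenFree_of_finiteType (R T : Type u) [CommRing R] [IsDomain R] [IsNoetherianRing R]
    [CommRing T] [Algebra R T] [Algebra.FiniteType R T] (M : Type u) [AddCommGroup M] [Module R M]
    [Module T M] [IsScalarTower R T M] [Module.Finite T M] : IsGenFree R M := by
  obtain ⟨n, π, hπ⟩ := Algebra.FiniteType.iff_quotient_mvPolynomial''.1
    (inferInstance : Algebra.FiniteType R T)
  letI : Algebra (MvPolynomial (Fin n) R) T := π.toRingHom.toAlgebra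
  letI : Module (MvPolynomial (Fin n) R) M := Module.compHom M π.toRingHom
  haveI : IsScalarTower (MvPolynomial (Fin n) R) T M :=
    IsScalarTower.of_algebraMap_smul fun _ _ => rfl
  haveI : IsScalarTower R (MvPolynomial (Fin n) R) M :=
    IsScalarTower.of_algebraMap_smul fun r m => by
      show π (algebraMap R _ r) • m = r • m
      rw [π.commutes, algebraMap_smul]
  haveI : Module.Finite (MvPolynomial (Fin n) R) T :=
    Module.Finite.of_surjective (Algebra.linearMap _ T) hπ
  haveI : Module.Finite (MvPolynomial (Fin n) R) M := Module.Finite.trans T M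
  exact isGenFree_mvPolynomial R n M

end Groth.Agent.FlatOpen
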