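import Mathlib
import Groth.Agent.LocFlat.Basic

/-!
# Torsion of kernels after a base change killing `p` and inverting `f`

For `B = (R₀/p)_f` and an injection `i : X → Y` of modules killed by `p`, the kernel of
`i ⊗ V` is `f`-power torsion as soon as `(B ⊗ i) ⊗_B (B ⊗ V)` is injective.
-/

set_option autoImplicit false
set_option linter.style.haveILetI false

universe u

open TensorProduct Function

namespace Groth.Agent.FlatOpen

variable {R₀ : Type u} [CommRing R₀] (p : Ideal R₀) (f : R₀)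

/-- `(R₀/p)_f`. -/
abbrev Bf := Localization.Away (Ideal.Quotient.mk p f)

/-- `X` is killed by `p`. -/
def Killed (X : Type u) [AddCommGroup X] [Module R₀ X] : Prop := ∀ a ∈ p, ∀ x : X, a • x = 0

variable {p f}

lemma bijective_mk_quot {X : Type u} [AddCommGroup X] [Module R₀ X] (hX : Killed p X) :
    Bijective (TensorProduct.mk R₀ (R₀ ⧸ p) X 1) := by
  constructor
  · let l : (R₀ ⧸ p) ⊗[R₀] X →ₗ[R₀] X := TensorProduct.lift
      (Submodule.liftQ p (LinearMap.lsmul R₀ X) fun a ha => LinearMap.ext fun x => hX a ha x)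
    have hl : ∀ x, l ((1 : R₀ ⧸ p) ⊗ₜ[R₀] x) = x := fun x => by
      show LinearMap.lsmul R₀ X (1 : R₀) x = x
      simp
    intro x y hxy
    have := congrArg l hxy
    simp only [TensorProduct.mk_apply, hl] at this
    exact this
  · intro z
    induction z with
    | zero => exact ⟨0, map_zero _⟩
    | tmul a x =>
      obtain ⟨a, rfl⟩ := Ideal.Quotient.mk_surjective a
      exact ⟨a • x, by rw [TensorProduct.mk_apply, TensorProduct.tmul_smul, TensorProduct.smul_tmul',
        Algebra.smul_def, mul_one]; rfl⟩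
    | add a b ha hb =>
      obtain ⟨x, rfl⟩ := ha
      obtain ⟨y, rfl⟩ := hb
      exact ⟨x + y, map_add _ _ _⟩

/-- An element dying in `B ⊗ X` is killed by a power of `f`. -/
lemma exists_pow_smul_eq_zero {X : Type u} [AddCommGroup X] [Module R₀ X] (hX : Killed p X)
    {x : X} (hx : (1 : Bf p f) ⊗ₜ[R₀] x = 0) : ∃ N : ℕ, f ^ N • x = 0 := by
  have h : (1 : Bf p f) ⊗ₜ[R₀ ⧸ p] ((1 : R₀ ⧸ p) ⊗ₜ[R₀] x) = 0 := by
    apply (AlgebraTensorModule.cancelBaseChange R₀ (R₀ ⧸ p) (Bf p f) (Bf p f) X).injective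
    simpa using hx
  obtain ⟨⟨-, N, rfl⟩, hN⟩ := IsLocalizedModule.exists_of_eq
    (S := Submonoid.powers (Ideal.Quotient.mk p f))
    (f := TensorProduct.mk (R₀ ⧸ p) (Bf p f) ((R₀ ⧸ p) ⊗[R₀] X) 1)
    (x₁ := (1 : R₀ ⧸ p) ⊗ₜ[R₀] x) (x₂ := 0) (h.trans (map_zero _).symm)
  refine ⟨N, (bijective_mk_quot hX).1 ?_⟩
  replace hN : Ideal.Quotient.mk p (f ^ N) • ((1 : R₀ ⧸ p) ⊗ₜ[R₀] x) = 0 := by
    rw [map_pow]
    exact hN.trans (smul_zero _)
  rw [map_zero, map_smul, TensorProduct.mk_apply, ← algebraMap_smul (R₀ ⧸ p) (f ^ N),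
    Ideal.Quotient.algebraMap_eq]
  exact hN

/-- `B ⊗ -` preserves injections between modules killed by `p`. -/
lemma baseChange_injective {X Y : Type u} [AddCommGroup X] [Module R₀ X] [AddCommGroup Y]
    [Module R₀ Y] (hX : Killed p X) (hY : Killed p Y) (i : X →ₗ[R₀] Y) (hi : Injective i) :
    Injective (i.baseChange (Bf p f)) := by
  have h1 : Injective (i.baseChange (R₀ ⧸ p)) := by
    intro a b hab
    obtain ⟨a, rfl⟩ := (bijective_mk_quot hX).2 a
    obtain ⟨b, rfl⟩ := (bijective_mk_quot hX).2 b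
    have : (TensorProduct.mk R₀ (R₀ ⧸ p) Y 1) (i a) = TensorProduct.mk R₀ (R₀ ⧸ p) Y 1 (i b) := by
      simpa using hab
    rw [hi ((bijective_mk_quot hY).1 this)]
  haveI : Module.Flat (R₀ ⧸ p) (Bf p f) :=
    IsLocalization.flat _ (Submonoid.powers (Ideal.Quotient.mk p f))
  have h2 : Injective ((i.baseChange (R₀ ⧸ p)).lTensor (Bf p f)) :=
    Module.Flat.lTensor_preserves_injective_linearMap _ h1
  let eX := AlgebraTensorModule.cancelBaseChange R₀ (R₀ ⧸ p) (Bf p f) (Bf p f) X
  let eY := AlgebraTensorModule.cancelBaseChange R₀ (R₀ ⧸ p) (Bf p f) (Bf p f) Y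
  have hcomm : ∀ z, i.baseChange (Bf p f) (eX z) =
      eY ((i.baseChange (R₀ ⧸ p)).lTensor (Bf p f) z) := by
    intro z
    induction z with
    | zero => simp
    | tmul b w =>
      induction w with
      | zero => simp
      | tmul a x => simp [eX, eY]
      | add u v hu hv => simp only [tmul_add, map_add, hu, hv]
    | add u v hu hv => simp only [map_add, hu, hv]
  intro a b hab
  obtain ⟨a, rfl⟩ := eX.surjective a
  obtain ⟨b, rfl⟩ := eX.surjective b
  rw [hcomm, hcomm] at hab
  rw [h2 (eY.injective hab)]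

/-- The torsion lemma. -/
theorem exists_pow_smul_of_ker {X Y : Type u} [AddCommGroup X] [Module R₀ X] [AddCommGroup Y]
    [Module R₀ Y] (hX : Killed p X) (i : X →ₗ[R₀] Y)
    (V : Type u) [AddCommGroup V] [Module R₀ V]
    (hinj : Injective ((i.baseChange (Bf p f)).rTensor (Bf p f ⊗[R₀] V)))
    {x : X ⊗[R₀] V} (hx : i.rTensor V x = 0) : ∃ N : ℕ, f ^ N • x = 0 := by
  refine exists_pow_smul_eq_zero (p := p) ?_ ?_
  · intro a ha z
    induction z with
    | zero => exact smul_zero _
    | tmul w v => rw [smul_tmul', hX a ha w, zero_tmul]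
    | add u v hu hv => rw [smul_add, hu, hv, add_zero]
  apply (AlgebraTensorModule.distribBaseChange R₀ (Bf p f) X V).injective
  apply hinj
  rw [map_zero, map_zero]
  have hcomm : ∀ z, (i.baseChange (Bf p f)).rTensor _
      (AlgebraTensorModule.distribBaseChange R₀ (Bf p f) X V ((1 : Bf p f) ⊗ₜ[R₀] z)) =
      AlgebraTensorModule.distribBaseChange R₀ (Bf p f) Y V ((1 : Bf p f) ⊗ₜ[R₀] i.rTensor V z) := by
    intro z
    induction z with
    | zero => simp
    | tmul w v => simp [AlgebraTensorModule.distribBaseChange_tmul]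
    | add u v hu hv => simp only [tmul_add, map_add, hu, hv]
  rw [hcomm, hx, tmul_zero, map_zero]

/-- The case of a flat second factor. -/
theorem exists_pow_smul_of_flat {X Y : Type u} [AddCommGroup X] [Module R₀ X] [AddCommGroup Y]
    [Module R₀ Y] (hX : Killed p X) (hY : Killed p Y) (i : X →ₗ[R₀] Y) (hi : Injective i)
    (V : Type u) [AddCommGroup V] [Module R₀ V] (hV : Module.Flat (Bf p f) (Bf p f ⊗[R₀] V))
    {x : X ⊗[R₀] V} (hx : i.rTensor V x = 0) : ∃ N : ℕ, f ^ N • x = 0 :=
  exists_pow_smul_of_ker hX i V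
    (Module.Flat.rTensor_preserves_injective_linearMap _ (baseChange_injective hX hY i hi)) hx

/-- The case of a flat cokernel. -/
theorem exists_pow_smul_of_flat_coker {X Y : Type u} [AddCommGroup X] [Module R₀ X] [AddCommGroup Y]
    [Module R₀ Y] (hX : Killed p X) (hY : Killed p Y) (i : X →ₗ[R₀] Y) (hi : Injective i)
    {C : Type u} [AddCommGroup C] [Module (Bf p f) C] [Module.Flat (Bf p f) C]
    (g : Bf p f ⊗[R₀] Y →ₗ[Bf p f] C) (hg : Surjective g)
    (hig : Exact (i.baseChange (Bf p f)) g)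
    (V : Type u) [AddCommGroup V] [Module R₀ V]
    {x : X ⊗[R₀] V} (hx : i.rTensor V x = 0) : ∃ N : ℕ, f ^ N • x = 0 :=
  exists_pow_smul_of_ker hX i V ((LinearMap.lTensor_inj_iff_rTensor_inj _ _).mp
    (LocFlat.lTensor_injective_of_flat_coker _ g hig hg (baseChange_injective hX hY i hi) _)) hx

/-- Dividing by `p` does not change `B ⊗ M`. -/
lemma bijective_baseChange_mkQ {M : Type u} [AddCommGroup M] [Module R₀ M] (W : Submodule R₀ M)
    (hW : W ≤ p • ⊤) : Bijective (W.mkQ.baseChange (Bf p f)) := by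
  refine ⟨?_, LinearMap.lTensor_surjective _ W.mkQ_surjective⟩
  rw [injective_iff_map_eq_zero]
  intro z hz
  obtain ⟨w, rfl⟩ := (lTensor_exact (Bf p f) (LinearMap.exact_subtype_mkQ W) W.mkQ_surjective z).1 hz
  clear hz
  induction w with
  | zero => exact map_zero _
  | tmul b m =>
    rw [LinearMap.lTensor_tmul, Submodule.subtype_apply]
    refine Submodule.smul_induction_on (p := fun y => b ⊗ₜ[R₀] y = (0 : Bf p f ⊗[R₀] M)) (hW m.2)
      (fun a ha y _ => ?_) (fun y y' hy hy' => by rw [tmul_add, hy, hy', add_zero])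
    rw [← smul_tmul, Algebra.smul_def,
      IsScalarTower.algebraMap_apply R₀ (R₀ ⧸ p) (Bf p f), Ideal.Quotient.algebraMap_eq,
      Ideal.Quotient.eq_zero_iff_mem.2 ha, map_zero, zero_mul, zero_tmul]
  | add u v hu hv => rw [map_add, hu, hv, add_zero]

/-- An element of `R ⊗ Z` dying in `R ⊗ V/pV` comes from `R ⊗ (Z ∩ pV)` up to powers of `f`,
when `V ⧸ Z` is flat after dividing by `p` and inverting `f`. -/
theorem exists_pow_smul_mem_range {V : Type u} [AddCommGroup V] [Module R₀ V] (Z : Submodule R₀ V)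
    [Module.Flat (Bf p f) (Bf p f ⊗[R₀] (V ⧸ Z))] (R : Type u) [AddCommGroup R] [Module R₀ R]
    (w : R ⊗[R₀] Z) (hw : (p • ⊤ : Submodule R₀ V).mkQ.lTensor R (Z.subtype.lTensor R w) = 0) :
    ∃ N : ℕ, f ^ N • w ∈
      LinearMap.range (((p • ⊤ : Submodule R₀ V).comap Z.subtype).subtype.lTensor R) := by
  let T := (p • ⊤ : Submodule R₀ V).comap Z.subtype
  let i : (Z ⧸ T) →ₗ[R₀] V ⧸ (p • ⊤ : Submodule R₀ V) := T.mapQ _ Z.subtype le_rfl
  have hY : Killed p (V ⧸ (p • ⊤ : Submodule R₀ V)) := by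
    intro a ha x
    obtain ⟨x, rfl⟩ := Submodule.mkQ_surjective _ x
    rw [← map_smul, Submodule.mkQ_apply, Submodule.Quotient.mk_eq_zero]
    exact Submodule.smul_mem_smul ha trivial
  have hi : Injective i := by
    rw [← LinearMap.ker_eq_bot, Submodule.ker_mapQ, Submodule.mkQ_map_self]
  have hX : Killed p (Z ⧸ T) := fun a ha x => hi (by rw [map_smul, hY a ha, map_zero])
  let e := LinearEquiv.ofBijective _
    (bijective_baseChange_mkQ (f := f) (p • ⊤ : Submodule R₀ V) le_rfl)
  let g : Bf p f ⊗[R₀] (V ⧸ (p • ⊤ : Submodule R₀ V)) →ₗ[Bf p f] Bf p f ⊗[R₀] (V ⧸ Z) :=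
    Z.mkQ.baseChange (Bf p f) ∘ₗ e.symm.toLinearMap
  have hg : Surjective g :=
    (LinearMap.lTensor_surjective _ Z.mkQ_surjective).comp e.symm.surjective
  have hex : Exact (i.baseChange (Bf p f)) g := by
    intro x
    obtain ⟨x, rfl⟩ := e.surjective x
    have hVZ : Exact (Z.subtype.baseChange (Bf p f)) (Z.mkQ.baseChange (Bf p f)) :=
      lTensor_exact (Bf p f) (LinearMap.exact_subtype_mkQ Z) Z.mkQ_surjective
    have hcomm : ∀ z, e (Z.subtype.baseChange (Bf p f) z) =
        i.baseChange (Bf p f) (T.mkQ.baseChange (Bf p f) z) := by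
      intro z
      induction z with
      | zero => simp
      | tmul b z => simp [e, i]
      | add u v hu hv => simp only [map_add, hu, hv]
    simp only [g, LinearMap.comp_apply, LinearEquiv.coe_coe, LinearEquiv.symm_apply_apply]
    rw [hVZ x]
    constructor
    · rintro ⟨z, rfl⟩
      exact ⟨_, (hcomm z).symm⟩
    · rintro ⟨z, hz⟩
      obtain ⟨z, rfl⟩ := LinearMap.lTensor_surjective (Bf p f) T.mkQ_surjective z
      exact ⟨z, e.injective ((hcomm z).trans hz)⟩
  have hw' : i.rTensor R (TensorProduct.comm R₀ R (Z ⧸ T) (T.mkQ.lTensor R w)) = 0 := by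
    have hc : ∀ w, TensorProduct.comm R₀ _ R (i.rTensor R (TensorProduct.comm R₀ R (Z ⧸ T)
        (T.mkQ.lTensor R w))) = (p • ⊤ : Submodule R₀ V).mkQ.lTensor R (Z.subtype.lTensor R w) := by
      intro w
      induction w with
      | zero => simp only [map_zero]
      | tmul b z => simp [i]
      | add u v hu hv => simp only [map_add, hu, hv]
    apply (TensorProduct.comm R₀ _ R).injective
    rw [hc, hw, map_zero]
  obtain ⟨N, hN⟩ := exists_pow_smul_of_flat_coker hX hY i hi g hg hex R hw'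
  rw [← map_smul, ← map_smul, map_eq_zero_iff _ (TensorProduct.comm R₀ R (Z ⧸ T)).injective] at hN
  exact ⟨N, (lTensor_exact R (LinearMap.exact_subtype_mkQ T) T.mkQ_surjective _).1 hN⟩

/-- `X ⊗ M` stays injective on `T`-localizations when kernels are `T`-torsion. -/
theorem lTensor_localized_injective {R P : Type u} [CommRing R] [CommRing P] [Algebra R P]
    (T : Submonoid P) {M : Type u} [AddCommGroup M] [Module P M] [Module R M] [IsScalarTower R P M]
    {X Y : Type u} [AddCommGroup X] [Module R X] [AddCommGroup Y] [Module R Y] (a : X →ₗ[R] Y)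
    (h : ∀ x : M ⊗[R] X, a.lTensor M x = 0 → ∃ t : T, (t : P) • x = 0) :
    Injective (a.lTensor (LocalizedModule T M)) := by
  let mX := AlgebraTensorModule.rTensor R X (LocalizedModule.mkLinearMap T M)
  let mY := AlgebraTensorModule.rTensor R Y (LocalizedModule.mkLinearMap T M)
  haveI : IsLocalizedModule T mX := inferInstance
  haveI : IsLocalizedModule T mY := inferInstance
  have hcomm : ∀ z, a.lTensor (LocalizedModule T M) (mX z) = mY (a.lTensor M z) := by
    intro z
    induction z with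
    | zero => simp only [map_zero]
    | tmul m x => simp [mX, mY]
    | add u v hu hv => simp only [map_add, hu, hv]
  rw [injective_iff_map_eq_zero]
  intro x hx
  obtain ⟨⟨z, t⟩, hzt⟩ := IsLocalizedModule.surj T mX x
  have hz : mY (a.lTensor M z) = 0 := by
    rw [← hcomm, ← hzt, Submonoid.smul_def]
    exact ((AlgebraTensorModule.lTensor P (LocalizedModule T M) a).map_smul (t : P) x).trans
      (by rw [show AlgebraTensorModule.lTensor P (LocalizedModule T M) a x = 0 from hx, smul_zero])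
  obtain ⟨s, hs⟩ := IsLocalizedModule.exists_of_eq (S := T) (hz.trans (map_zero mY).symm)
  rw [smul_zero, Submonoid.smul_def] at hs
  obtain ⟨s', hs'⟩ := h ((s : P) • z) (by
    rw [← hs]
    exact (AlgebraTensorModule.lTensor P M a).map_smul (s : P) z)
  apply (IsLocalizedModule.smul_injective mX t)
  show t • x = t • 0
  rw [hzt, smul_zero, ← IsLocalizedModule.eq_zero_iff T mX |>.2 ⟨s' * s, ?_⟩]
  rw [Submonoid.smul_def, Submonoid.coe_mul, mul_smul]
  exact hs'

end Groth.Agent.FlatOpen
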