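import Groth.Prelude.Def_FlatCA
import Groth.Agent.FlatOpen.GenFree
import Groth.Agent.FlatOpen.Presented
import Groth.Agent.FlatOpen.Torsion
import Groth.Agent.LocFlat.Basic
import Groth.Agent.FlatMor.FlatAtBC

/-!
# Flat points of a presented module

`R₀` Noetherian, `p` prime, `Z₀ ≤ R₀[x]^r`. Over an `R₀`-algebra `R`, flatness of
`R[x]^r ⧸ ext R Z₀` near a prime over `p` is controlled by finitely many equations
`s • t ∈ ext R (p Z₀)`, `t` running over generators of `Z₀ ⊓ p R₀[x]^r`.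
-/

set_option autoImplicit false
set_option linter.style.haveILetI false

universe u

open TensorProduct Function

namespace Groth.Agent.FlatOpen

variable {n r : ℕ} {R₀ : Type u} [CommRing R₀] (p : Ideal R₀)
  (Z₀ : Submodule (MvPolynomial (Fin n) R₀) (Vec n r R₀))

/-- `Z₀ ∩ p R₀[x]^r`. -/
noncomputable def Tz : Submodule (MvPolynomial (Fin n) R₀) (Vec n r R₀) :=
  Z₀ ⊓ (p.map MvPolynomial.C : Ideal (MvPolynomial (Fin n) R₀)) • ⊤

/-- `p Z₀`. -/
noncomputable def Jz : Submodule (MvPolynomial (Fin n) R₀) (Vec n r R₀) :=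
  (p.map MvPolynomial.C : Ideal (MvPolynomial (Fin n) R₀)) • Z₀

lemma mem_smul_top_iff (v : Vec n r R₀) :
    v ∈ (p.map MvPolynomial.C : Ideal (MvPolynomial (Fin n) R₀)) •
      (⊤ : Submodule (MvPolynomial (Fin n) R₀) (Vec n r R₀)) ↔
      v ∈ p • (⊤ : Submodule R₀ (Vec n r R₀)) := by
  rw [← MvPolynomial.algebraMap_eq, ← Submodule.restrictScalars_mem R₀, Ideal.smul_restrictScalars,
    Submodule.restrictScalars_top]

/-- Generic freeness of the fibre over `p`. -/
theorem exists_flat_fibre [IsNoetherianRing R₀] [p.IsPrime] :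
    ∃ f ∉ p, Module.Flat (Bf p f) (Bf p f ⊗[R₀] (Vec n r R₀ ⧸ Z₀)) := by
  haveI : Module.Finite (MvPolynomial (Fin n) (R₀ ⧸ p)) (Quot (R₀ ⧸ p) Z₀) := inferInstance
  obtain ⟨g, hg, hfree⟩ := (isGenFree_of_finiteType (R₀ ⧸ p) (MvPolynomial (Fin n) (R₀ ⧸ p))
    (Quot (R₀ ⧸ p) Z₀)).of_equiv (quotEquiv (R₀ ⧸ p) Z₀).symm
  obtain ⟨f, rfl⟩ := Ideal.Quotient.mk_surjective g
  refine ⟨f, fun hf => hg (Ideal.Quotient.eq_zero_iff_mem.2 hf), ?_⟩
  exact Module.Flat.of_linearEquiv
    (AlgebraTensorModule.cancelBaseChange R₀ (R₀ ⧸ p) (Bf p f) (Bf p f) (Vec n r R₀ ⧸ Z₀)).symm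

section Extend

variable (R : Type u) [CommRing R] [Algebra R₀ R]

/-- Multiplication `R[x]^r ⊗ I → R[x]^r`. -/
noncomputable def mult (I : Ideal R) :
    Vec n r R ⊗[R] I →ₗ[MvPolynomial (Fin n) R] Vec n r R :=
  (AlgebraTensorModule.rid R (MvPolynomial (Fin n) R) (Vec n r R)).toLinearMap ∘ₗ
    AlgebraTensorModule.lTensor (MvPolynomial (Fin n) R) (Vec n r R) I.subtype

lemma mult_tmul (I : Ideal R) (v : Vec n r R) (a : I) : mult R I (v ⊗ₜ[R] a) = (a : R) • v := by
  simp [mult]

lemma mult_injective (I : Ideal R) :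
    Injective (mult R I : Vec n r R ⊗[R] I →ₗ[MvPolynomial (Fin n) R] Vec n r R) :=
  (AlgebraTensorModule.rid R (MvPolynomial (Fin n) R) (Vec n r R)).injective.comp
    (Module.Flat.lTensor_preserves_injective_linearMap I.subtype I.injective_subtype)

/-- `ext R (p Z₀)` is in the image of `ext R Z₀ ⊗ pR`. -/
lemma ext_Jz_le :
    ext R (Jz p Z₀) ≤ LinearMap.range (mult R (p.map (algebraMap R₀ R)) ∘ₗ
      AlgebraTensorModule.rTensor R (p.map (algebraMap R₀ R)) (ext R Z₀).subtype) := by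
  set I := p.map (algebraMap R₀ R)
  refine Submodule.span_le.2 ?_
  rintro - ⟨v, hv, rfl⟩
  refine Submodule.smul_induction_on hv (fun c hc z hz => ?_) (fun a b ha hb => by
    rw [map_add]; exact add_mem ha hb)
  induction hc using Submodule.span_induction with
  | mem c hc =>
    obtain ⟨a, ha, rfl⟩ := hc
    refine ⟨⟨mapVec R z, mapVec_mem_ext R Z₀ hz⟩ ⊗ₜ ⟨algebraMap R₀ R a, Ideal.mem_map_of_mem _ ha⟩, ?_⟩
    simp only [LinearMap.comp_apply, AlgebraTensorModule.rTensor_tmul, mult_tmul,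
      Submodule.subtype_apply]
    rw [mapVec_smul, MvPolynomial.map_C, ← MvPolynomial.algebraMap_eq, algebraMap_smul, algebraMap_smul, algebraMap_smul]
  | zero => rw [zero_smul, map_zero]; exact zero_mem _
  | add a b _ _ ha hb => rw [add_smul, map_add]; exact add_mem ha hb
  | smul c a _ ha => rw [smul_eq_mul, mul_smul, mapVec_smul]; exact Submodule.smul_mem _ _ ha

/-- `mult` lands in the kernel of reduction mod `p`. -/
lemma mult_mem_ker (y : Vec n r R ⊗[R] (p.map (algebraMap R₀ R) : Ideal R)) :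
    (p • ⊤ : Submodule R₀ (Vec n r R₀)).mkQ.baseChange R
      ((vecEquiv R).symm (mult R (p.map (algebraMap R₀ R)) y)) = 0 := by
  induction y with
  | zero => simp only [map_zero]
  | tmul v a =>
    rw [mult_tmul, map_smul, map_smul]
    obtain ⟨a, ha⟩ := a
    dsimp only
    generalize (p • ⊤ : Submodule R₀ (Vec n r R₀)).mkQ.baseChange R ((vecEquiv R).symm v) = z
    induction ha using Submodule.span_induction with
    | mem c hc =>
      obtain ⟨c, hc, rfl⟩ := hc
      rw [algebraMap_smul]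
      induction z with
      | zero => rw [smul_zero]
      | tmul b x =>
        obtain ⟨x, rfl⟩ := Submodule.mkQ_surjective _ x
        rw [← tmul_smul, ← map_smul, Submodule.mkQ_apply,
          (Submodule.Quotient.mk_eq_zero _).2 (Submodule.smul_mem_smul hc Submodule.mem_top), tmul_zero]
      | add u v hu hv => rw [smul_add, hu, hv, add_zero]
    | zero => rw [zero_smul]
    | add a b _ _ ha hb => rw [add_smul, ha, hb, add_zero]
    | smul c a _ ha => rw [smul_eq_mul, mul_smul, ha, smul_zero]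
  | add u v hu hv => rw [map_add, map_add, map_add, hu, hv, add_zero]

/-- Elements of `ext R Z₀` which vanish mod `p` are in `ext R (Tz p Z₀)` up to powers of `f`. -/
theorem exists_pow_smul_mem_ext {f : R₀}
    (hf : Module.Flat (Bf p f) (Bf p f ⊗[R₀] (Vec n r R₀ ⧸ Z₀)))
    (y : Vec n r R ⊗[R] (p.map (algebraMap R₀ R) : Ideal R))
    (hy : mult R (p.map (algebraMap R₀ R)) y ∈ ext R Z₀) :
    ∃ N : ℕ, (algebraMap R (MvPolynomial (Fin n) R) (algebraMap R₀ R f)) ^ N •
      mult R (p.map (algebraMap R₀ R)) y ∈ ext R (Tz p Z₀) := by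
  let V := Vec n r R₀
  let Z := Z₀.restrictScalars R₀
  haveI : Module.Flat (Bf p f) (Bf p f ⊗[R₀] (V ⧸ Z)) := hf
  obtain ⟨w, hw⟩ : ∃ w : R ⊗[R₀] Z,
      vecEquiv R (Z.subtype.baseChange R w) = mult R (p.map (algebraMap R₀ R)) y := by
    have h : mult R (p.map (algebraMap R₀ R)) y ∈ LinearMap.range ((vecEquiv R).toLinearMap ∘ₗ
        (Z₀.subtype.restrictScalars R₀).baseChange R) := by
      rw [vecEquiv_range_baseChange]; exact hy
    exact h
  obtain ⟨N, t, ht⟩ := exists_pow_smul_mem_range (f := f) Z R w (by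
    have h0 := mult_mem_ker p R y
    rw [← hw, LinearEquiv.symm_apply_apply] at h0
    exact h0)
  refine ⟨N, ?_⟩
  have key : ∀ t, vecEquiv R (Z.subtype.baseChange R
      (((p • ⊤ : Submodule R₀ V).comap Z.subtype).subtype.lTensor R t)) ∈ ext R (Tz p Z₀) := by
    intro t
    induction t with
    | zero => rw [map_zero, map_zero, map_zero]; exact zero_mem _
    | tmul b z =>
      rw [LinearMap.lTensor_tmul, LinearMap.baseChange_tmul, vecEquiv_tmul,
        ← algebraMap_smul (MvPolynomial (Fin n) R) b]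
      exact Submodule.smul_mem _ _ (mapVec_mem_ext R _
        (Submodule.mem_inf.2 ⟨z.1.2, (mem_smul_top_iff p _).2 z.2⟩))
    | add u v hu hv => rw [map_add, map_add, map_add]; exact add_mem hu hv
  have := key t
  rw [ht, LinearMap.map_smul_of_tower, ← algebraMap_smul R (f ^ N), map_smul, hw] at this
  rw [← map_pow, ← map_pow, algebraMap_smul]
  exact this

end Extend

end Groth.Agent.FlatOpen
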