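import Groth.Agent.FlatOpen.FibreFT

/-!
# Fibre conditions localize

* `rTensor_injective_of_flat_baseChange` / `flat_baseChange_of_rTensor_injective`: flatness of
  `D ⊗ N` over `D` read through `X ⊗ N`.
* `flat_fibre_localized`: a fibre condition on `M` gives it on every localization and over smaller
  fibre rings.
-/

set_option autoImplicit false
set_option linter.style.haveILetI false

universe u

open TensorProduct Function

namespace Groth.Agent.FlatOpen

variable {S D N : Type u} [CommRing S] [CommRing D] [Algebra S D] [AddCommGroup N] [Module S N]

theorem rTensor_injective_of_flat_baseChange [Module.Flat D (D ⊗[S] N)] {X Y : Type u}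
    [AddCommGroup X] [Module S X] [Module D X] [IsScalarTower S D X] [AddCommGroup Y] [Module S Y]
    [Module D Y] [IsScalarTower S D Y] (a : X →ₗ[D] Y) (ha : Injective a) :
    Injective ((a.restrictScalars S).rTensor N) := by
  let eX := AlgebraTensorModule.cancelBaseChange S D D X N
  let eY := AlgebraTensorModule.cancelBaseChange S D D Y N
  have hc : ∀ z, (a.restrictScalars S).rTensor N (eX z) = eY (a.rTensor (D ⊗[S] N) z) := by
    intro z
    induction z with
    | zero => simp only [map_zero]
    | tmul x w =>
      induction w with
      | zero => simp only [tmul_zero, map_zero]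
      | tmul d n => simp [eX, eY]
      | add u v hu hv => simp only [tmul_add, map_add, hu, hv]
    | add u v hu hv => simp only [map_add, hu, hv]
  intro z w h
  obtain ⟨z, rfl⟩ := eX.surjective z
  obtain ⟨w, rfl⟩ := eX.surjective w
  rw [hc, hc] at h
  rw [Module.Flat.rTensor_preserves_injective_linearMap (M := D ⊗[S] N) a ha (eY.injective h)]

theorem flat_baseChange_of_rTensor_injective
    (h : ∀ (X Y : Type u) [AddCommGroup X] [Module S X] [Module D X] [IsScalarTower S D X]
      [AddCommGroup Y] [Module S Y] [Module D Y] [IsScalarTower S D Y] (a : X →ₗ[D] Y),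
      Injective a → Injective ((a.restrictScalars S).rTensor N)) :
    Module.Flat D (D ⊗[S] N) := by
  rw [Module.Flat.iff_rTensor_preserves_injective_linearMap]
  intro X Y _ _ _ _ a ha
  letI : Module S X := Module.compHom X (algebraMap S D)
  letI : Module S Y := Module.compHom Y (algebraMap S D)
  haveI : IsScalarTower S D X := IsScalarTower.of_algebraMap_smul fun _ _ => rfl
  haveI : IsScalarTower S D Y := IsScalarTower.of_algebraMap_smul fun _ _ => rfl
  let eX := AlgebraTensorModule.cancelBaseChange S D D X N
  let eY := AlgebraTensorModule.cancelBaseChange S D D Y N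
  have hc : ∀ z, (a.restrictScalars S).rTensor N (eX z) = eY (a.rTensor (D ⊗[S] N) z) := by
    intro z
    induction z with
    | zero => simp only [map_zero]
    | tmul x w =>
      induction w with
      | zero => simp only [tmul_zero, map_zero]
      | tmul d n => simp [eX, eY]
      | add u v hu hv => simp only [tmul_add, map_add, hu, hv]
    | add u v hu hv => simp only [map_add, hu, hv]
  intro z w hzw
  apply eX.injective
  apply h X Y a ha
  rw [hc, hc, hzw]

/-- A fibre condition localizes. -/
theorem flat_fibre_localized {S' M : Type u} [CommRing S'] [Algebra S S'] [AddCommGroup M] [Module S M]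
    [Module S' M] [IsScalarTower S S' M] {D' : Type u} [CommRing D'] [Algebra S D'] [Algebra D D']
    [IsScalarTower S D D'] [Module.Flat D (D ⊗[S] M)] (T : Submonoid S') :
    Module.Flat D' (D' ⊗[S] LocalizedModule T M) := by
  refine flat_baseChange_of_rTensor_injective fun X Y _ _ _ _ _ _ _ _ a ha => ?_
  letI : Module D X := Module.compHom X (algebraMap D D')
  letI : Module D Y := Module.compHom Y (algebraMap D D')
  haveI : IsScalarTower D D' X := IsScalarTower.of_algebraMap_smul fun _ _ => rfl
  haveI : IsScalarTower D D' Y := IsScalarTower.of_algebraMap_smul fun _ _ => rfl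
  haveI : IsScalarTower S D X := IsScalarTower.of_algebraMap_smul fun s x => by
    show algebraMap D D' (algebraMap S D s) • x = s • x
    rw [← IsScalarTower.algebraMap_apply, algebraMap_smul]
  haveI : IsScalarTower S D Y := IsScalarTower.of_algebraMap_smul fun s x => by
    show algebraMap D D' (algebraMap S D s) • x = s • x
    rw [← IsScalarTower.algebraMap_apply, algebraMap_smul]
  have h1 := rTensor_injective_of_flat_baseChange (S := S) (D := D) (N := M) (a.restrictScalars D) ha
  rw [← LinearMap.lTensor_inj_iff_rTensor_inj] at h1 ⊢
  exact lTensor_localized_injective T (a.restrictScalars S) fun x hx =>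
    ⟨1, by rw [h1 (hx.trans (map_zero _).symm), smul_zero]⟩

end Groth.Agent.FlatOpen
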