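import Groth.Agent.FlatOpen.CMLocusScheme
import Mathlib.AlgebraicGeometry.Fiber

/-!
# Maximal points of fibres

* `isCMAt_of_fibre_maximal`: a flat morphism is Cohen–Macaulay at a point with no other
  generization in its fibre.
-/

set_option autoImplicit false
set_option linter.style.haveILetI false

universe u

open CategoryTheory Limits AlgebraicGeometry IsLocalRing

namespace Groth.Agent.FlatOpen.FibreGeneric

theorem ringKrullDim_stalk_eq_zero {X : Scheme.{u}} (x : X) (h : ∀ y : X, y ⤳ x → y = x) :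
    ringKrullDim (X.presheaf.stalk x) = 0 := by
  haveI : Subsingleton (PrimeSpectrum (X.presheaf.stalk x)) :=
    ⟨fun p q => (X.fromSpecStalk x).isEmbedding.injective
      ((h _ (Scheme.range_fromSpecStalk.le ⟨p, rfl⟩)).trans
        (h _ (Scheme.range_fromSpecStalk.le ⟨q, rfl⟩)).symm)⟩
  exact Order.krullDim_eq_zero

theorem isCMAt_of_fibre_maximal {X S : Scheme.{u}} (f : X ⟶ S) [Flat f] [LocallyOfFiniteType f]
    (x : X) (h : ∀ y : X, y ⤳ x → f y = f x → y = x) : MoreMor.IsCMAt f x := by
  refine ⟨Flat.stalkMap f x, ?_⟩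
  haveI : IsLocallyNoetherian (f.fiber (f x)) :=
    LocallyOfFiniteType.isLocallyNoetherian (f.fiberToSpecResidueField (f x))
  have hdim : ringKrullDim ((f.fiber (f x)).presheaf.stalk (f.asFiber x)) = 0 :=
    ringKrullDim_stalk_eq_zero _ fun y hy => by
      refine (f.fiberι (f x)).isEmbedding.injective ?_
      rw [f.fiberι_asFiber]
      refine h _ (by simpa [f.fiberι_asFiber] using hy.map (f.fiberι (f x)).continuous) ?_
      have : (f.fiberι (f x)) y ∈ f ⁻¹' {f x} := (f.range_fiberι (f x)).le ⟨y, rfl⟩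
      exact this
  obtain ⟨d, -, hd, hle, hiff⟩ :=
    Groth.Agent.FlatMor.CMFlat.exists_dim ((f.fiber (f x)).presheaf.stalk (f.asFiber x))
  rw [hdim] at hd
  have hd0 : d = 0 := by exact_mod_cast hd.symm
  subst hd0
  exact hiff.2 (le_antisymm hle bot_le)

theorem eq_of_isGenericPoint_component {X : Type*} [TopologicalSpace X] [T0Space X] {x : X} {Z : Set X}
    (hZ : Z ∈ irreducibleComponents X) (hx : IsGenericPoint x Z) {y : X} (hy : y ⤳ x) : y = x := by
  refine (hy.antisymm ?_).eq
  rw [specializes_iff_mem_closure, hx.def]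
  have h1 : Z ⊆ closure {y} := hx.def ▸ specializes_iff_closure_subset.1 hy
  exact hZ.2 isIrreducible_singleton.closure h1 (subset_closure rfl)

end Groth.Agent.FlatOpen.FibreGeneric
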