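import Groth.Agent.FlatOpen.FibreFT
import Groth.Agent.FlatOpen.SchemeMap

/-!
# EGA IV 11.3.10 on schemes

`isFlatOverAt_of_fibre`: `X → Y` over `S`, `X` lfp and `Y` lft over `S`, `F` fp, `S`-flat at `x` and
flat on the fibre: then `F` is flat over `Y` at `x`, and `Y` is flat over `S` at `f x` if `F_x ≠ 0`.
-/

set_option autoImplicit false
set_option linter.style.haveILetI false

universe u

open CategoryTheory Limits AlgebraicGeometry TopologicalSpace Opposite TensorProduct
open Groth.Agent.AssSch.Stalk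

namespace Groth.Agent.FlatOpen.Scheme

variable {X Y S : Scheme.{u}}

/-- EGA IV 11.3.10. -/
theorem isFlatOverAt_of_fibre (f : X ⟶ Y) (g : Y ⟶ S) [LocallyOfFinitePresentation (f ≫ g)]
    [LocallyOfFiniteType g] (F : X.Modules) [F.IsQuasicoherent] (hF : CohB1.IsFP F) (x : X)
    (h1 : FlatMod.IsFlatOverAt (f ≫ g) F x)
    (h2 : letI := FlatMod.moduleStalkOver f F x
      Module.Flat (↑(Y.presheaf.stalk (f x)) ⧸ Ideal.map (g.stalkMap (f x)).hom (IsLocalRing.maximalIdeal ↑(S.presheaf.stalk (g (f x)))))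
        (↑(F.presheaf.stalk x) ⧸ (Ideal.map (g.stalkMap (f x)).hom (IsLocalRing.maximalIdeal ↑(S.presheaf.stalk (g (f x)))) •
          (⊤ : Submodule ↑(Y.presheaf.stalk (f x)) ↑(F.presheaf.stalk x))))) :
    FlatMod.IsFlatOverAt f F x := by
  obtain ⟨_, ⟨W, hW, rfl⟩, hxW, -⟩ := S.isBasis_affineOpens.exists_subset_of_mem_open
    (Set.mem_univ (g (f x))) isOpen_univ
  obtain ⟨_, ⟨V, hV, rfl⟩, hy, eV⟩ := Y.isBasis_affineOpens.exists_subset_of_mem_open
    (show f x ∈ g ⁻¹ᵁ W from hxW) (g ⁻¹ᵁ W).isOpen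
  replace eV : V ≤ g ⁻¹ᵁ W := eV
  obtain ⟨_, ⟨U, hU, rfl⟩, hx, e⟩ := X.isBasis_affineOpens.exists_subset_of_mem_open
    (show x ∈ f ⁻¹ᵁ V from hy) (f ⁻¹ᵁ V).isOpen
  replace e : U ≤ f ⁻¹ᵁ V := e
  replace hW : IsAffineOpen W := hW
  replace hV : IsAffineOpen V := hV
  replace hU : IsAffineOpen U := hU
  have e' : U ≤ (f ≫ g) ⁻¹ᵁ W := fun z hz => eV (e hz)
  let R := Γ(S, W)
  let B := Γ(Y, V)
  let C := Γ(X, U)
  let M := Γ(F, U)
  letI : Algebra R B := (g.appLE W V eV).hom.toAlgebra
  letI : Algebra B C := (f.appLE V U e).hom.toAlgebra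
  letI : Algebra R C := ((f ≫ g).appLE W U e').hom.toAlgebra
  haveI : IsScalarTower R B C := IsScalarTower.of_algebraMap_eq' (by
    show ((f ≫ g).appLE W U e').hom = (f.appLE V U e).hom.comp (g.appLE W V eV).hom
    rw [← CommRingCat.hom_comp, Scheme.Hom.appLE_comp_appLE])
  haveI : Algebra.FiniteType R B := g.finiteType_appLE hW hV eV
  haveI : Algebra.FinitePresentation R C := (f ≫ g).finitePresentation_appLE hW hU e'
  letI : Module B M := Module.compHom _ (f.appLE V U e).hom
  haveI : IsScalarTower B C M := IsScalarTower.of_algebraMap_smul fun _ _ => rfl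
  letI : Module R M := Module.compHom _ ((f ≫ g).appLE W U e').hom
  haveI : IsScalarTower R C M := IsScalarTower.of_algebraMap_smul fun _ _ => rfl
  haveI : IsScalarTower R B M := IsScalarTower.to₁₂₄ R B C M
  haveI : Module.FinitePresentation C M := (Props.QFP.isFP_iff F).1 hF U hU
  let Q := primeOf hU x hx
  let I := (Q.comap (algebraMap R C)).map (algebraMap R B)
  have hflat : FlatCA.FlatAt R Q M := (isFlatOverAt_iff (f ≫ g) hW hU e' x hx F).1 h1
  refine (isFlatOverAt_iff f hV hU e x hx F).2 ?_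
  -- stalks
  let Oy := Y.presheaf.stalk (f x)
  letI : Algebra B Oy := (Y.presheaf.germ V (f x) hy).hom.toAlgebra
  haveI : IsLocalization.AtPrime Oy (primeOf hV (f x) hy) := hV.isLocalization_stalk ⟨f x, hy⟩
  letI : Module Oy (F.presheaf.stalk x) := FlatMod.moduleStalkOver f F x
  letI : Algebra C (X.presheaf.stalk x) := (X.presheaf.germ U x hx).hom.toAlgebra
  letI : Module C (F.presheaf.stalk x) := Module.compHom _ (X.presheaf.germ U x hx).hom
  letI : Module B (F.presheaf.stalk x) :=
    Module.compHom _ ((X.presheaf.germ U x hx).hom.comp (f.appLE V U e).hom)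
  haveI : IsScalarTower B C (F.presheaf.stalk x) := IsScalarTower.of_algebraMap_smul fun _ _ => rfl
  haveI : IsScalarTower B Oy (F.presheaf.stalk x) := IsScalarTower.of_algebraMap_smul fun a m => by
    show (f.stalkMap x).hom (Y.presheaf.germ V (f x) hy a) • m =
      X.presheaf.germ U x hx (f.appLE V U e a) • m
    rw [stalkMap_germ f e x hx a]
  haveI := isLocalizedModule_germLinear F hU x hx
  let J := Ideal.map (g.stalkMap (f x)).hom (IsLocalRing.maximalIdeal (S.presheaf.stalk (g (f x))))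
  have hIJ : I.map (algebraMap B Oy) = J := by
    rw [show J = _ from maximalIdeal_map_stalkMap g hW hV eV (f x) hy]
    show _ = (((primeOf hV (f x) hy).comap (algebraMap R B)).map (algebraMap R B)).map (algebraMap B Oy)
    rw [← primeOf_comap f hV hU e x hx]
    show I.map (algebraMap B Oy) = (((Q.comap (algebraMap B C)).comap (algebraMap R B)).map _).map _
    rw [Ideal.comap_comap, ← IsScalarTower.algebraMap_eq]
  haveI : Module.Flat (Oy ⧸ J) (F.presheaf.stalk x ⧸ J • (⊤ : Submodule Oy (F.presheaf.stalk x))) := h2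
  have hfib := fibre_cond_of_localized (N := F.presheaf.stalk x) (primeOf hV (f x) hy).primeCompl I J hIJ
  let iso := (IsLocalizedModule.iso Q.primeCompl (germLinear F x hx)).restrictScalars B
  refine fibre_flat_criterion_ft R B C M Q hflat I rfl ?_
  haveI := hfib
  exact Module.Flat.of_linearEquiv
    (AlgebraTensorModule.congr (LinearEquiv.refl (B ⧸ I) (B ⧸ I)) iso)

end Groth.Agent.FlatOpen.Scheme
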