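import Groth.Agent.GrpdLib.Basic
import Groth.Agent.FlatMor.CMFlat
import Groth.Agent.FlatOpen.FibreGeneric
import Groth.Agent.S1345
import Groth.Agent.S9766
import Groth.Agent.S9767
import Groth.Agent.S4961
import Groth.Agent.FlatOpen.CMDim
import Groth.Agent.AlgSpD.FibreDimBC

/-!
# The Cohen–Macaulay locus of the restriction of a groupoid

For `g : U' → U` the locus where `h = s ∘ pr₁ : U' ×_{g,U,t} R → U` is Cohen–Macaulay is the
preimage of an open of `U'`; after shrinking, the restricted source and target are Cohen–Macaulay.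
-/

set_option autoImplicit false
set_option linter.style.haveILetI false

universe u

open CategoryTheory CategoryTheory.Limits AlgebraicGeometry

namespace Groth.Agent.FlatOpen.GrpdCM

theorem grpd_isCMAt_iff {X Y : Scheme.{u}} (f : X ⟶ Y) (x : X) :
    Grpd.IsCMAt f x ↔ MoreMor.IsCMAt f x := by
  rw [Groth.Agent.FlatMor.CMFlat.isCMAt_iff]
  exact Iff.rfl

theorem isLocallyNoetherian_fibre {X Y : Scheme.{u}} (f : X ⟶ Y) [LocallyOfFiniteType f] (y : Y) :
    IsLocallyNoetherian (f.fiber y) :=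
  LocallyOfFiniteType.isLocallyNoetherian (f.fiberToSpecResidueField y)

theorem isCMAt_openImmersion {X Y : Scheme.{u}} (f : X ⟶ Y) [IsOpenImmersion f] (x : X) :
    MoreMor.IsCMAt f x :=
  FibreGeneric.isCMAt_of_fibre_maximal f x fun _ _ h => f.isOpenEmbedding.injective h

theorem isCMAt_baseChange {X Y X' Y' : Scheme.{u}} {f : X ⟶ Y} [LocallyOfFiniteType f]
    {f' : X' ⟶ Y'} {g' : X' ⟶ X} {g : Y' ⟶ Y} [LocallyOfFiniteType g] (hc : IsPullback g' f' f g)
    (x' : X') (h : MoreMor.IsCMAt f (g' x')) : MoreMor.IsCMAt f' x' :=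
  S1345.result f (fun y => isLocallyNoetherian_fibre f y) f' g' g hc x' h

theorem isCMAt_comp {X Y Z : Scheme.{u}} (f : X ⟶ Y) (g : Y ⟶ Z) [LocallyOfFiniteType f]
    [LocallyOfFiniteType g] (x : X) (hf : MoreMor.IsCMAt f x) (hg : MoreMor.IsCMAt g (f x)) :
    MoreMor.IsCMAt (f ≫ g) x :=
  S9766.result f g x (isLocallyNoetherian_fibre _ _) hf hg

variable {S : Scheme.{u}} (G : Grpd.GroupoidScheme S) [LocallyOfFinitePresentation G.s]
  [LocallyOfFinitePresentation G.t] {U' : Scheme.{u}} (g : U' ⟶ G.U) [LocallyOfFinitePresentation g]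

omit [LocallyOfFinitePresentation G.s] [LocallyOfFinitePresentation G.t] in
/-- Composition exhibits the projection as a base change of the source along the source. -/
theorem isPullback_c_snd : IsPullback G.c (pullback.snd G.s G.t) G.s G.s := by
  let F : pullback G.s G.t ⟶ pullback G.s G.s :=
    pullback.lift G.c (pullback.snd G.s G.t) (GrpdLib.c_s G)
  have hcond : pullback.fst G.s G.s ≫ G.s = (pullback.snd G.s G.s ≫ G.i) ≫ G.t := by
    rw [Category.assoc, G.i_t, pullback.condition]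
  let Ψ : pullback G.s G.s ⟶ pullback G.s G.t :=
    pullback.lift (GrpdLib.comp G (pullback.fst G.s G.s) (pullback.snd G.s G.s ≫ G.i) hcond)
      (pullback.snd G.s G.s) (by rw [GrpdLib.comp_s, Category.assoc, G.i_s])
  have hF₁ : F ≫ pullback.fst G.s G.s = G.c := pullback.lift_fst _ _ _
  have hF₂ : F ≫ pullback.snd G.s G.s = pullback.snd G.s G.t := pullback.lift_snd _ _ _
  have hΨ₁ : Ψ ≫ pullback.fst G.s G.t = GrpdLib.comp G (pullback.fst G.s G.s)
    (pullback.snd G.s G.s ≫ G.i) hcond := pullback.lift_fst _ _ _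
  have hΨ₂ : Ψ ≫ pullback.snd G.s G.t = pullback.snd G.s G.s := pullback.lift_snd _ _ _
  have hc : G.c = GrpdLib.comp G (pullback.fst G.s G.t) (pullback.snd G.s G.t) pullback.condition := by
    rw [GrpdLib.comp, show pullback.lift (pullback.fst G.s G.t) (pullback.snd G.s G.t) pullback.condition =
      𝟙 _ by ext <;> simp, Category.id_comp]
  let Φ : pullback G.s G.t ≅ pullback G.s G.s :=
    { hom := F
      inv := Ψ
      hom_inv_id := by
        apply pullback.hom_ext
        · rw [Category.assoc, Category.id_comp, hΨ₁, GrpdLib.naturality]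
          refine (GrpdLib.comp_congr G _ (by simp [GrpdLib.comp_s, G.i_t]) (hF₁.trans hc) ?_).trans
            (GrpdLib.comp_cancel_right G _ _ pullback.condition)
          rw [reassoc_of% hF₂]
        · rw [Category.assoc, Category.id_comp, hΨ₂, hF₂]
      inv_hom_id := by
        apply pullback.hom_ext
        · rw [Category.assoc, Category.id_comp, hF₁, hc, GrpdLib.naturality]
          exact (GrpdLib.comp_congr G _ (by simp [G.i_s]) hΨ₁ hΨ₂).trans
            (GrpdLib.comp_inv_cancel_right G _ _ pullback.condition)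
        · rw [Category.assoc, Category.id_comp, hF₂, hΨ₂] }
  have hsq : IsPullback G.c (pullback.snd G.s G.t) G.s G.s :=
    IsPullback.of_iso_pullback ⟨GrpdLib.c_s G⟩ Φ hF₁ hF₂
  exact hsq

omit [LocallyOfFinitePresentation G.t] in
/-- The fibre dimensions of `s` are invariant under composition on the right. -/
theorem fibreDimAt_s_comp (z : ↥(pullback G.s G.t)) :
    FlatMor.fibreDimAt G.s (G.c z) = FlatMor.fibreDimAt G.s (pullback.fst G.s G.t z) := by
  have hsq := isPullback_c_snd G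
  exact (AlgSpD.fibreDimAt_of_isPullback G.s hsq z).symm.trans
    (AlgSpD.fibreDimAt_of_isPullback G.s (IsPullback.of_hasPullback G.s G.t) z)

omit [LocallyOfFinitePresentation G.t] in
theorem fibreDimAt_s_i (r : G.R) :
    FlatMor.fibreDimAt G.s (G.i r) = FlatMor.fibreDimAt G.s (G.e (G.s r)) := by
  have h0 : (𝟙 G.R ≫ G.i) ≫ G.s = 𝟙 G.R ≫ G.t := by simp [G.i_s]
  have e1 : pullback.lift (𝟙 G.R ≫ G.i) (𝟙 G.R) h0 ≫ G.c = (𝟙 G.R ≫ G.s) ≫ G.e :=
    GrpdLib.i_comp G (𝟙 G.R) h0
  have h := fibreDimAt_s_comp G (pullback.lift (𝟙 G.R ≫ G.i) (𝟙 G.R) h0 r)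
  rw [← Scheme.Hom.comp_apply, ← Scheme.Hom.comp_apply, e1, pullback.lift_fst, Category.id_comp,
    Category.id_comp] at h
  exact h.symm

omit [LocallyOfFinitePresentation G.t] in
theorem fibreDimAt_t (hs : ∀ r, MoreMor.IsCMAt G.s r) (r : G.R) :
    FlatMor.fibreDimAt G.t r = FlatMor.fibreDimAt G.s (G.e (G.s r)) := by
  haveI : IsIso G.i := ⟨G.i, GrpdLib.i_i G, GrpdLib.i_i G⟩
  rw [← fibreDimAt_s_i G r, ← CMDim.fibreDimAt_openImmersion_comp G.i G.s r (hs _)]
  congr 1
  exact G.i_s.symm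

omit [LocallyOfFinitePresentation G.t] in
theorem fibreDimAt_s_eq (r : G.R) :
    FlatMor.fibreDimAt G.s r = FlatMor.fibreDimAt G.s (G.e (G.t r)) := by
  have h := fibreDimAt_s_i G (G.i r)
  rwa [← Scheme.Hom.comp_apply G.i G.i, GrpdLib.i_i, GrpdLib.s_i_apply] at h

/-- Cohen–Macaulayness and fibre dimension of `h` depend only on the point of `U'`. -/
theorem isCMAt_of_fst_eq (hs : ∀ r, MoreMor.IsCMAt G.s r) (ht : ∀ r, MoreMor.IsCMAt G.t r)
    (q₁ q₂ : ↥(pullback g G.t)) (hq : pullback.fst g G.t q₁ = pullback.fst g G.t q₂)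
    (h₁ : MoreMor.IsCMAt (pullback.snd g G.t ≫ G.s) q₁) :
    MoreMor.IsCMAt (pullback.snd g G.t ≫ G.s) q₂ ∧
      FlatMor.fibreDimAt (pullback.snd g G.t ≫ G.s) q₂ =
        FlatMor.fibreDimAt (pullback.snd g G.t ≫ G.s) q₁ := by
  let π := pullback.fst g G.t
  let ρ := pullback.snd g G.t
  let h := ρ ≫ G.s
  let prP := pullback.fst h G.t
  let prR := pullback.snd h G.t
  have hQ : (prP ≫ ρ) ≫ G.s = prR ≫ G.t := (Category.assoc _ _ _).trans pullback.condition
  let φ : pullback h G.t ⟶ pullback g G.t := pullback.lift (prP ≫ π) (GrpdLib.comp G (prP ≫ ρ) prR hQ)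
    (by rw [GrpdLib.comp_t, Category.assoc, Category.assoc, pullback.condition])
  have hfst : φ ≫ π = prP ≫ π := pullback.lift_fst _ _ _
  have hsnd : φ ≫ ρ = GrpdLib.comp G (prP ≫ ρ) prR hQ := pullback.lift_snd _ _ _
  have hπg : π ≫ g = ρ ≫ G.t := pullback.condition
  have hP : (pullback.fst π π ≫ ρ) ≫ G.t = (pullback.snd π π ≫ ρ) ≫ G.t := by
    rw [Category.assoc, Category.assoc, ← hπg, pullback.condition_assoc]
  let F : pullback h G.t ⟶ pullback π π := pullback.lift prP φ hfst.symm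
  have hF₁ : F ≫ pullback.fst π π = prP := pullback.lift_fst _ _ _
  have hF₂ : F ≫ pullback.snd π π = φ := pullback.lift_snd _ _ _
  have hc' : ((pullback.fst π π ≫ ρ) ≫ G.i) ≫ G.s = (pullback.snd π π ≫ ρ) ≫ G.t := by
    rw [Category.assoc _ G.i, G.i_s, hP]
  let Ψ : pullback π π ⟶ pullback h G.t := pullback.lift (pullback.fst π π)
    (GrpdLib.comp G ((pullback.fst π π ≫ ρ) ≫ G.i) (pullback.snd π π ≫ ρ) hc')
    (by rw [GrpdLib.comp_t, Category.assoc (pullback.fst π π ≫ ρ) G.i, G.i_t, Category.assoc])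
  have hΨ₁ : Ψ ≫ prP = pullback.fst π π := pullback.lift_fst _ _ _
  have hΨ₂ : Ψ ≫ prR = GrpdLib.comp G ((pullback.fst π π ≫ ρ) ≫ G.i) (pullback.snd π π ≫ ρ) hc' :=
    pullback.lift_snd _ _ _
  let Φ : pullback h G.t ≅ pullback π π :=
    { hom := F
      inv := Ψ
      hom_inv_id := by
        apply pullback.hom_ext
        · rw [Category.assoc, Category.id_comp]
          exact (congrArg (F ≫ ·) hΨ₁).trans hF₁
        · rw [Category.assoc, Category.id_comp]
          refine (congrArg (F ≫ ·) hΨ₂).trans ?_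
          rw [GrpdLib.naturality]
          refine (GrpdLib.comp_congr G _ (by simp [hQ, G.i_s]) ?_ ?_).trans
            (GrpdLib.i_comp_cancel G (prP ≫ ρ) prR hQ)
          · simp only [Category.assoc, reassoc_of% hF₁]
          · rw [reassoc_of% hF₂, hsnd]
      inv_hom_id := by
        apply pullback.hom_ext
        · rw [Category.assoc, Category.id_comp]
          exact (congrArg (Ψ ≫ ·) hF₁).trans hΨ₁
        · rw [Category.assoc, Category.id_comp]
          refine (congrArg (Ψ ≫ ·) hF₂).trans ?_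
          apply pullback.hom_ext
          · rw [Category.assoc]
            refine (congrArg (Ψ ≫ ·) hfst).trans ?_
            rw [reassoc_of% hΨ₁]
            exact pullback.condition
          · rw [Category.assoc]
            refine (congrArg (Ψ ≫ ·) hsnd).trans ?_
            rw [GrpdLib.naturality]
            refine (GrpdLib.comp_congr G _ (by rw [GrpdLib.comp_t, Category.assoc _ G.i, G.i_t]) ?_ hΨ₂).trans
              (GrpdLib.comp_i_cancel G (pullback.fst π π ≫ ρ) (pullback.snd π π ≫ ρ) hP)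
            rw [reassoc_of% hΨ₁] }
  have hsq : IsPullback prP φ π π :=
    IsPullback.of_iso_pullback ⟨hfst.symm⟩ Φ (pullback.lift_fst _ _ _) (pullback.lift_snd _ _ _)
  have hπcm : ∀ q, MoreMor.IsCMAt π q := fun q =>
    isCMAt_baseChange (IsPullback.of_hasPullback g G.t).flip q (ht _)
  obtain ⟨w, hw₁, hw₂⟩ := Scheme.Pullback.exists_preimage_pullback q₁ q₂ hq
  let z := Φ.inv w
  have hz₁ : prP z = q₁ := by
    rw [← hw₁, ← hΨ₁]
    rfl
  have hz₂ : φ z = q₂ := by
    rw [← hw₂, ← Scheme.Hom.comp_apply,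
      show Φ.inv ≫ φ = pullback.snd π π by rw [← hF₂]; exact Φ.inv_hom_id_assoc _]
  have hprR : MoreMor.IsCMAt prR z :=
    isCMAt_baseChange (IsPullback.of_hasPullback h G.t) z (by rw [hz₁]; exact h₁)
  have hcomp : MoreMor.IsCMAt (φ ≫ h) z := by
    rw [show φ ≫ h = prR ≫ G.s by rw [← Category.assoc, hsnd, GrpdLib.comp_s]]
    exact isCMAt_comp prR G.s z hprR (hs _)
  haveI : LocallyOfFinitePresentation φ :=
    MorphismProperty.of_isPullback hsq (inferInstanceAs (LocallyOfFinitePresentation π))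
  have hφ : MoreMor.IsCMAt φ z := isCMAt_baseChange hsq z (hπcm _)
  have h₂ := (S9767.result φ h z (isLocallyNoetherian_fibre _ _) (isLocallyNoetherian_fibre _ _) hcomp
    hφ.1).2
  rw [hz₂] at h₂
  refine ⟨h₂, ?_⟩
  -- fibre dimensions
  obtain ⟨a, ha⟩ := CMLocus.exists_fibreDimAt_eq φ z
  obtain ⟨b, hb⟩ := CMLocus.exists_fibreDimAt_eq h q₂
  obtain ⟨c, hc⟩ := CMLocus.exists_fibreDimAt_eq prR z
  obtain ⟨d, hd⟩ := CMLocus.exists_fibreDimAt_eq G.s (prR z)
  have e1 := CMDim.fibreDimAt_comp φ h z hφ (by rw [hz₂]; exact h₂) ha (by rw [hz₂]; exact hb)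
  have e2 := CMDim.fibreDimAt_comp prR G.s z hprR (hs _) hc hd
  rw [show φ ≫ h = prR ≫ G.s by rw [← Category.assoc, hsnd, GrpdLib.comp_s]] at e1
  have hcq : FlatMor.fibreDimAt h q₁ = c := by
    rw [← hz₁, ← hc]
    exact (AlgSpD.fibreDimAt_of_isPullback h (IsPullback.of_hasPullback h G.t) z).symm
  have had : (a : WithBot ℕ∞) = d := by
    rw [← ha, ← hd, AlgSpD.fibreDimAt_of_isPullback π hsq z]
    refine (AlgSpD.fibreDimAt_of_isPullback G.t (IsPullback.of_hasPullback g G.t).flip (prP z)).trans ?_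
    rw [fibreDimAt_t G hs, fibreDimAt_s_eq G (prR z)]
    congr 2
    exact (congrArg (fun F : pullback h G.t ⟶ G.U => F z)
      (pullback.condition (f := h) (g := G.t)))
  have habcd : a + b = c + d := by
    have := e1.symm.trans e2
    exact_mod_cast this
  have had' : a = d := by exact_mod_cast had
  rw [hb, hcq]
  exact_mod_cast (by omega : b = c)

omit [LocallyOfFinitePresentation G.s] [LocallyOfFinitePresentation G.t] [LocallyOfFinitePresentation g] in
/-- The inverse exchanges the source and target of the restricted groupoid. -/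
theorem exists_swap : ∃ σ : pullback (pullback.snd g G.t ≫ G.s) g ⟶ pullback (pullback.snd g G.t ≫ G.s) g,
    IsIso σ ∧ σ ≫ pullback.snd (pullback.snd g G.t ≫ G.s) g =
      pullback.fst (pullback.snd g G.t ≫ G.s) g ≫ pullback.fst g G.t := by
  let g' := g
  let h' := pullback.snd g' G.t ≫ G.s
  have hc : ((pullback.fst h' g' ≫ pullback.snd g' G.t) ≫ G.i) ≫ G.s =
      (pullback.fst h' g' ≫ pullback.fst g' G.t) ≫ g' := by
    simp [pullback.condition]
  let σ : pullback h' g' ⟶ pullback h' g' :=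
    pullback.lift (pullback.lift (pullback.snd h' g') ((pullback.fst h' g' ≫ pullback.snd g' G.t) ≫ G.i)
        ((pullback.condition).symm.trans (by rw [Category.assoc _ G.i, G.i_t, Category.assoc])))
      (pullback.fst h' g' ≫ pullback.fst g' G.t)
      ((Category.assoc _ _ _).symm.trans ((congrArg (· ≫ G.s) (pullback.lift_snd _ _ _)).trans hc))
  have hσ₁ : σ ≫ pullback.fst h' g' ≫ pullback.fst g' G.t = pullback.snd h' g' :=
    (Category.assoc _ _ _).symm.trans
      ((congrArg (· ≫ _) (pullback.lift_fst _ _ _)).trans (pullback.lift_fst _ _ _))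
  have hσ₂ : σ ≫ pullback.fst h' g' ≫ pullback.snd g' G.t =
      (pullback.fst h' g' ≫ pullback.snd g' G.t) ≫ G.i :=
    (Category.assoc _ _ _).symm.trans
      ((congrArg (· ≫ _) (pullback.lift_fst _ _ _)).trans (pullback.lift_snd _ _ _))
  have hσ₃ : σ ≫ pullback.snd h' g' = pullback.fst h' g' ≫ pullback.fst g' G.t :=
    pullback.lift_snd _ _ _
  have hσ : σ ≫ σ = 𝟙 _ := by
    apply pullback.hom_ext
    · apply pullback.hom_ext
      · rw [Category.assoc, Category.assoc, hσ₁, hσ₃, Category.id_comp]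
      · rw [Category.assoc, Category.assoc, hσ₂, Category.id_comp, ← Category.assoc σ, hσ₂,
          Category.assoc _ G.i, GrpdLib.i_i G, Category.comp_id]
    · rw [Category.assoc, hσ₃, hσ₁, Category.id_comp]
  haveI : IsIso σ := ⟨σ, hσ, hσ⟩
  exact ⟨σ, inferInstance, hσ₃⟩

/-- Shrinking `U'` makes `h` and the restricted source and target Cohen–Macaulay. -/
theorem exists_shrink (hs : ∀ r, MoreMor.IsCMAt G.s r) (ht : ∀ r, MoreMor.IsCMAt G.t r)
    (p : ↥(pullback g G.t)) (hp : MoreMor.IsCMAt (pullback.snd g G.t ≫ G.s) p) (d : ℕ)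
    (hd : FlatMor.fibreDimAt (pullback.snd g G.t ≫ G.s) p = d) :
    ∃ W : U'.Opens, IsAffineOpen W ∧
      (∃ p' : ↥(pullback (W.ι ≫ g) G.t), W.ι (pullback.fst (W.ι ≫ g) G.t p') = pullback.fst g G.t p ∧
        pullback.snd (W.ι ≫ g) G.t p' = pullback.snd g G.t p) ∧
      (∀ q, MoreMor.IsCMAt (pullback.snd (W.ι ≫ g) G.t ≫ G.s) q ∧
        FlatMor.fibreDimAt (pullback.snd (W.ι ≫ g) G.t ≫ G.s) q = d) ∧
      (∀ q, MoreMor.IsCMAt (pullback.snd (pullback.snd (W.ι ≫ g) G.t ≫ G.s) (W.ι ≫ g)) q) ∧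
      (∀ q, MoreMor.IsCMAt (pullback.fst (pullback.snd (W.ι ≫ g) G.t ≫ G.s) (W.ι ≫ g) ≫
        pullback.fst (W.ι ≫ g) G.t) q) := by
  let π := pullback.fst g G.t
  let h := pullback.snd g G.t ≫ G.s
  haveI : Flat π := (Flat.iff_flat_stalkMap π).2 fun q =>
    (isCMAt_baseChange (IsPullback.of_hasPullback g G.t).flip q (ht _)).1
  haveI : LocallyOfFinitePresentation π := inferInstance
  let O : U'.Opens := ⟨π '' {q | MoreMor.IsCMAt h q ∧ FlatMor.fibreDimAt h q = d},
    π.isOpenMap _ (CMLocus.isOpen_isCMAt_fibreDim h d)⟩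
  obtain ⟨W, hW, hpW, hWO⟩ := exists_isAffineOpen_mem_and_subset (show π p ∈ O from ⟨p, ⟨hp, hd⟩, rfl⟩)
  refine ⟨W, hW, ?_⟩
  let g' := W.ι ≫ g
  let h' := pullback.snd g' G.t ≫ G.s
  let μ : pullback g' G.t ⟶ pullback g G.t :=
    pullback.map g' G.t g G.t W.ι (𝟙 _) (𝟙 _) (by simp [g']) (by simp)
  have hμ₁ : μ ≫ π = pullback.fst g' G.t ≫ W.ι := pullback.lift_fst _ _ _
  have hμ₂ : μ ≫ pullback.snd g G.t = pullback.snd g' G.t :=
    (pullback.lift_snd _ _ _).trans (Category.comp_id _)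
  have hsq : IsPullback μ (pullback.fst g' G.t) π W.ι := by
    refine IsPullback.of_right ?_ hμ₁ (IsPullback.of_hasPullback g G.t).flip
    rw [hμ₂]
    exact (IsPullback.of_hasPullback g' G.t).flip
  haveI : IsOpenImmersion μ := MorphismProperty.of_isPullback (P := @IsOpenImmersion) hsq.flip inferInstance
  have hall : ∀ q, MoreMor.IsCMAt h' q ∧ FlatMor.fibreDimAt h' q = d := fun q => by
    have h1 : π (μ q) ∈ O := hWO (by
      rw [← Scheme.Hom.comp_apply, hμ₁, Scheme.Hom.comp_apply]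
      exact (pullback.fst g' G.t q).2)
    obtain ⟨q₁, ⟨hq₁, hd₁⟩, he⟩ := h1
    obtain ⟨h2, h2d⟩ := isCMAt_of_fst_eq G g hs ht q₁ (μ q) he hq₁
    rw [show h' = μ ≫ h by rw [← Category.assoc, hμ₂]]
    exact ⟨isCMAt_comp μ h q (isCMAt_openImmersion μ q) h2,
      by rw [CMDim.fibreDimAt_openImmersion_comp μ h q h2]; exact h2d.trans hd₁⟩
  have hs' : ∀ q, MoreMor.IsCMAt (pullback.snd h' g') q := fun q =>
    isCMAt_baseChange (IsPullback.of_hasPullback h' g') q (hall _).1
  obtain ⟨p', hp'₁, hp'₂⟩ := Scheme.exists_preimage_of_isPullback hsq p ⟨π p, hpW⟩ rfl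
  refine ⟨⟨p', by rw [hp'₂]; rfl, by rw [← hp'₁, ← Scheme.Hom.comp_apply, hμ₂]⟩, hall, hs', fun q => ?_⟩
  obtain ⟨σ, _, hσ₃⟩ := exists_swap G g'
  rw [show pullback.fst h' g' ≫ pullback.fst g' G.t = σ ≫ pullback.snd h' g' from hσ₃.symm]
  exact isCMAt_comp σ _ q (isCMAt_openImmersion σ q) (hs' _)

end Groth.Agent.FlatOpen.GrpdCM
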