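import Groth.Agent.GrpdLib.Basic
import Groth.Agent.GrpdLib.RestrictMono
import Groth.Agent.GrpdLib.FieldStabDim
import Groth.Agent.Depth.CM
import Groth.Agent.RegLoc.Miracle
import Groth.Agent.CycLib.ProdFibre
import Groth.Agent.Omega.ConormalZero
import Groth.Agent.FlatOpen.CMDim
import Groth.Agent.FlatOpen.GrpdCM
import Groth.Agent.S1459

/-!
# Slicing groupoids with Cohen–Macaulay source and target

* `exists_list`: regular sequences inside a given prime in a Cohen–Macaulay local ring.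
* `dim_stabilizer`: the stabilizer's dimension through the local ring at the identity arrow.
* `exists_slice`: immersions `U' → U` with `s ∘ pr₁` Cohen–Macaulay of prescribed fibre dimension.
-/

set_option autoImplicit false
set_option linter.style.haveILetI false

universe u

open CategoryTheory Limits AlgebraicGeometry IsLocalRing RingTheory.Sequence
open Groth.Agent.AssSch.Stalk

namespace Groth.Agent.FlatOpen.GrpdSlice

/-- A regular sequence of any length `n ≤ dim B - dim B/PB` with terms from `P`. -/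
theorem exists_list {Γ : Type u} [CommRing Γ] (n : ℕ) :
    ∀ (B : Type u) [CommRing B] [LocCoh.IsCohenMacaulayLocalRing B] (ψ : Γ →+* B) (P : Ideal Γ)
      (_ : P.map ψ ≤ maximalIdeal B) (d e : ℕ), ringKrullDim B = d →
      ringKrullDim (B ⧸ P.map ψ) = e → e + n ≤ d →
      ∃ l : List Γ, (∀ a ∈ l, a ∈ P) ∧ IsWeaklyRegular B (l.map ψ) ∧
        LocCoh.IsCohenMacaulayLocalRing (B ⧸ Ideal.ofList (l.map ψ)) ∧
        ringKrullDim (B ⧸ Ideal.ofList (l.map ψ)) = ((d - n : ℕ) : WithBot ℕ∞) := by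
  induction n with
  | zero =>
    intro B _ _ ψ P _ d e hd _ _
    have e0 : B ≃+* B ⧸ Ideal.ofList (([] : List Γ).map ψ) :=
      (RingEquiv.quotientBot B).symm.trans (Ideal.quotEquivOfEq (by rw [List.map_nil, Ideal.ofList_nil]))
    exact ⟨[], by simp, IsWeaklyRegular.nil B B, Groth.Agent.FlatMor.CMFlat.isCM_of_ringEquiv e0 inferInstance,
      by rw [← ringKrullDim_eq_of_ringEquiv e0, hd, Nat.sub_zero]⟩
  | succ n ih =>
    intro B _ _ ψ P hP d e hd he hle
    have hex : ∃ x ∈ P, ∀ p ∈ associatedPrimes B B, ψ x ∉ p := by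
      by_contra hne
      push Not at hne
      have hsub : (P : Set Γ) ⊆ ⋃ p ∈ (associatedPrimes.finite B B).toFinset,
          ((Ideal.comap ψ p : Ideal Γ) : Set Γ) := fun a ha => by
        obtain ⟨p, hp, hap⟩ := hne a ha
        exact Set.mem_biUnion (by simpa using hp) hap
      obtain ⟨p, hp, hPp⟩ := (Ideal.subset_union_prime (⊥ : Ideal B) (⊥ : Ideal B) fun p hp _ _ => by
        haveI := Depth.isPrime_of_mem_associatedPrimes (R := B) (M := B) (by simpa using hp)
        exact Ideal.comap_isPrime ψ p).1 hsub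
      have hp' : p ∈ associatedPrimes B B := by simpa using hp
      have h1 := Depth.ringKrullDim_quotient_associatedPrime
        ((Depth.isCohenMacaulayLocalRing_iff (R := B)).mp inferInstance) hp'
      rw [Module.supportDim_self_eq_ringKrullDim, hd] at h1
      have h2 := ringKrullDim_le_of_surjective (Ideal.Quotient.factor (Ideal.map_le_iff_le_comap.2 hPp))
        (Ideal.Quotient.factor_surjective _)
      rw [h1, he] at h2
      have : d ≤ e := by exact_mod_cast h2
      omega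
    obtain ⟨x, hxP, hx⟩ := hex
    have hxm : ψ x ∈ maximalIdeal B := hP (Ideal.mem_map_of_mem ψ hxP)
    have hreg : IsSMulRegular B (ψ x) := by
      by_contra hc
      have : ψ x ∈ ⋃ p ∈ associatedPrimes B B, (p : Set B) := by
        rw [biUnion_associatedPrimes_eq_compl_regular B B]; exact hc
      simp only [Set.mem_iUnion, SetLike.mem_coe, exists_prop] at this
      obtain ⟨p, hp, hxp⟩ := this
      exact hx p hp hxp
    let I := Ideal.span {ψ x}
    haveI := RegLoc.isLocalRing_quotient (R := B) (I := I) ((Ideal.span_singleton_le_iff_mem _).mpr hxm)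
    haveI : LocCoh.IsCohenMacaulayLocalRing (B ⧸ I) := by
      rw [Depth.isCohenMacaulayLocalRing_iff, Depth.isCohenMacaulayModule_iff_of_surjective (R := B)
        Ideal.Quotient.mk_surjective]
      have e' : (QuotSMulTop (ψ x) B) ≃ₗ[B] B ⧸ I := Submodule.quotEquivOfEq _ _ (by
        rw [← Submodule.ideal_span_singleton_smul, smul_eq_mul, Ideal.mul_top])
      exact (Depth.isCohenMacaulayModule_congr e').mp
        ((Depth.isCohenMacaulayModule_quotSMulTop_iff hxm hreg).mpr
          ((Depth.isCohenMacaulayLocalRing_iff (R := B)).mp inferInstance))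
    obtain ⟨d', hd', -⟩ := RegLoc.exists_natCast_eq_ringKrullDim (B ⧸ I)
    have hd1 : d' + 1 = d := by
      have := ringKrullDim_quotient_span_singleton_succ_eq_ringKrullDim hreg hxm
      rw [hd', hd] at this
      exact_mod_cast this
    let ψ' : Γ →+* B ⧸ I := (Ideal.Quotient.mk I).comp ψ
    have hmap : P.map ψ' = (P.map ψ).map (Ideal.Quotient.mk I) := (Ideal.map_map _ _).symm
    have hP' : P.map ψ' ≤ maximalIdeal (B ⧸ I) := by
      rw [hmap, RegLoc.maximalIdeal_quotient_eq_map]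
      exact Ideal.map_mono hP
    have he' : ringKrullDim ((B ⧸ I) ⧸ P.map ψ') = e := by
      rw [← he, hmap]
      exact ringKrullDim_eq_of_ringEquiv (DoubleQuot.quotQuotEquivQuotOfLE
        ((Ideal.span_singleton_le_iff_mem _).mpr (Ideal.mem_map_of_mem ψ hxP)))
    obtain ⟨l, hlP, hlreg, hlcm, hldim⟩ := ih (B ⧸ I) ψ' P hP' d' e hd' he' (by omega)
    have hlist : l.map ψ' = (l.map ψ).map (Ideal.Quotient.mk I) := by
      rw [List.map_map]; rfl
    let E : (B ⧸ I) ⧸ Ideal.ofList (l.map ψ') ≃+* B ⧸ Ideal.ofList ((x :: l).map ψ) :=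
      ((Ideal.quotEquivOfEq (by rw [hlist, Ideal.map_ofList])).trans
        (DoubleQuot.quotQuotEquivQuotSup I (Ideal.ofList (l.map ψ)))).trans
        (Ideal.quotEquivOfEq (by rw [List.map_cons, Ideal.ofList_cons]))
    refine ⟨x :: l, ?_, ?_, Groth.Agent.FlatMor.CMFlat.isCM_of_ringEquiv E hlcm, ?_⟩
    · intro a ha
      rcases List.mem_cons.1 ha with rfl | ha
      exacts [hxP, hlP a ha]
    · rw [List.map_cons, isWeaklyRegular_cons_iff']
      refine ⟨hreg, ?_⟩
      rw [← hlist]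
      let e' : (QuotSMulTop (ψ x) B) ≃ₗ[B] B ⧸ I := Submodule.quotEquivOfEq _ _ (by
        rw [← Submodule.ideal_span_singleton_smul, smul_eq_mul, Ideal.mul_top])
      exact (LinearEquiv.isWeaklyRegular_congr
        (e'.extendScalarsOfSurjective (R := B) (S := B ⧸ I) Ideal.Quotient.mk_surjective) _).2 hlreg
    · rw [← ringKrullDim_eq_of_ringEquiv E, hldim]
      exact congrArg (fun k : ℕ => (k : WithBot ℕ∞)) (show d' - n = d - (n + 1) by omega)

theorem residueFieldMap_surjective_of_section {X Y : Scheme.{u}} (f : X ⟶ Y) (σ : Y ⟶ X)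
    (hσ : σ ≫ f = 𝟙 Y) (y : Y) (x : X) (hx : x = σ y) :
    Function.Surjective (f.residueFieldMap x).hom := by
  subst hx
  have hid : ∀ a : Y ⟶ Y, a = 𝟙 Y → Function.Surjective (a.residueFieldMap y).hom := by
    rintro a rfl
    exact (RadPtLib.residueFieldMap_bijective (𝟙 Y) y).2
  have h : Function.Surjective ((σ ≫ f).residueFieldMap y).hom := hid _ hσ
  rw [Scheme.residueFieldMap_comp] at h
  intro b
  obtain ⟨a, ha⟩ := h ((σ.residueFieldMap y).hom b)
  exact ⟨a, (σ.residueFieldMap y).hom.injective ha⟩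

/-- The kernel on local rings of a closed subscheme of an affine chart. -/
theorem ker_stalkMap_chart {X : Scheme.{u}} {U : X.Opens} (hU : IsAffineOpen U) (I : Ideal Γ(X, U))
    (z : Spec (CommRingCat.of (Γ(X, U) ⧸ I)))
    (hz : (Spec.map (CommRingCat.ofHom (Ideal.Quotient.mk I)) ≫ hU.fromSpec) z ∈ U) :
    RingHom.ker ((Spec.map (CommRingCat.ofHom (Ideal.Quotient.mk I)) ≫ hU.fromSpec).stalkMap z).hom =
      I.map (X.presheaf.germ U _ hz).hom := by
  let q := CommRingCat.ofHom (Ideal.Quotient.mk I)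
  haveI : IsClosedImmersion (Spec.map q) :=
    IsClosedImmersion.spec_of_surjective q Ideal.Quotient.mk_surjective
  let j := Spec.map q ≫ hU.fromSpec
  have hpre : j ⁻¹ᵁ U = ⊤ := by
    rw [Scheme.Hom.comp_preimage, hU.fromSpec_preimage_self]; rfl
  have e1 : (⊤ : (Spec (CommRingCat.of (Γ(X, U) ⧸ I))).Opens) ≤ j ⁻¹ᵁ U := hpre.ge
  have happ : j.appLE U ⊤ e1 = q ≫ (Scheme.ΓSpecIso _).inv := by
    have h1 : hU.fromSpec.appLE U ⊤ hU.fromSpec_preimage_self.ge = (Scheme.ΓSpecIso Γ(X, U)).inv := by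
      rw [Scheme.Hom.appLE, hU.fromSpec_app_self]
      simp only [Category.assoc, ← Functor.map_comp]
      exact (congrArg (_ ≫ ·) ((congrArg _ (Subsingleton.elim _ (𝟙 _))).trans
        (CategoryTheory.Functor.map_id _ _))).trans (Category.comp_id _)
    rw [← Scheme.Hom.appLE_comp_appLE (Spec.map q) hU.fromSpec U ⊤ ⊤ hU.fromSpec_preimage_self.ge (le_refl _),
      h1]
    refine Eq.trans ?_ (Scheme.ΓSpecIso_inv_naturality q).symm
    refine congrArg ((Scheme.ΓSpecIso Γ(X, U)).inv ≫ ·) ?_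
    simp [Scheme.Hom.appLE]
    try exact Category.comp_id _
  have hinj : Function.Injective (Scheme.ΓSpecIso (CommRingCat.of (Γ(X, U) ⧸ I))).inv.hom :=
    (ConcreteCategory.bijective_of_isIso _).1
  have happ2 : j.app U = (q ≫ (Scheme.ΓSpecIso _).inv) ≫
      (Spec (CommRingCat.of (Γ(X, U) ⧸ I))).presheaf.map (eqToHom hpre).op := by
    rw [← happ, Scheme.Hom.appLE_map, Scheme.Hom.app_eq_appLE]
  have hb : Function.Bijective ((Spec (CommRingCat.of (Γ(X, U) ⧸ I))).presheaf.map (eqToHom hpre).op) :=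
    ConcreteCategory.bijective_of_isIso _
  have hsurj : Function.Surjective (j.app U) := by
    intro b
    obtain ⟨b, rfl⟩ := hb.2 b
    obtain ⟨c, rfl⟩ := (ConcreteCategory.bijective_of_isIso (Scheme.ΓSpecIso _).inv).2 b
    obtain ⟨a, rfl⟩ := Ideal.Quotient.mk_surjective c
    exact ⟨a, by rw [happ2]; rfl⟩
  have hker : RingHom.ker (j.app U).hom = I := by
    ext a
    rw [RingHom.mem_ker, ← Ideal.Quotient.eq_zero_iff_mem, ← map_eq_zero_iff _ hinj,
      ← map_eq_zero_iff _ hb.1, happ2]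
    rfl
  rw [Omega.ConormalZero.ker_stalkMap_eq j hU (by rw [hpre]; exact isAffineOpen_top _) hz hsurj, hker]

theorem stalkSpecializes_comap_map {X : Scheme.{u}} {U : X.Opens} (I : Ideal Γ(X, U)) (x y : X)
    (h : y = x) (hsp : x ⤳ y) (hx : x ∈ U) (hy : y ∈ U) :
    (I.map (X.presheaf.germ U x hx).hom).comap (X.presheaf.stalkSpecializes hsp).hom =
      I.map (X.presheaf.germ U y hy).hom := by
  subst h
  rw [TopCat.Presheaf.stalkSpecializes_refl]
  exact Ideal.comap_id _

theorem stalkMap_comp_hom {X Y Z : Scheme.{u}} (f : X ⟶ Y) (g : Y ⟶ Z) (x : X) :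
    ((f ≫ g).stalkMap x).hom = (f.stalkMap x).hom.comp (g.stalkMap (f x)).hom := by
  rw [Scheme.Hom.stalkMap_comp]
  rfl

theorem map_stalkMap_comp {X Y Z : Scheme.{u}} (f : X ⟶ Y) (g : Y ⟶ Z) (x : X) :
    (maximalIdeal (Z.presheaf.stalk ((f ≫ g) x))).map ((f ≫ g).stalkMap x).hom =
      ((maximalIdeal (Z.presheaf.stalk (g (f x)))).map (g.stalkMap (f x)).hom).map (f.stalkMap x).hom := by
  rw [Ideal.map_map]
  exact congrArg (fun φ => Ideal.map φ (maximalIdeal (Z.presheaf.stalk (g (f x))))) (stalkMap_comp_hom f g x)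

/-- The local ring of a closed subscheme of an affine chart, pulled back along `t`. -/
theorem ker_snd_chart {X R : Scheme.{u}} {U : X.Opens} (hU : IsAffineOpen U) (I : Ideal Γ(X, U))
    (t : R ⟶ X) (p : ↥(pullback (Spec.map (CommRingCat.ofHom (Ideal.Quotient.mk I)) ≫ hU.fromSpec) t))
    (hrU : t (pullback.snd (Spec.map (CommRingCat.ofHom (Ideal.Quotient.mk I)) ≫ hU.fromSpec) t p) ∈ U) :
    RingHom.ker
        ((pullback.snd (Spec.map (CommRingCat.ofHom (Ideal.Quotient.mk I)) ≫ hU.fromSpec) t).stalkMap p).hom =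
      I.map ((t.stalkMap _).hom.comp (X.presheaf.germ U _ hrU).hom) := by
  let g := Spec.map (CommRingCat.ofHom (Ideal.Quotient.mk I)) ≫ hU.fromSpec
  haveI : IsClosedImmersion (Spec.map (CommRingCat.ofHom (Ideal.Quotient.mk I))) :=
    IsClosedImmersion.spec_of_surjective _ Ideal.Quotient.mk_surjective
  have hw : t (pullback.snd g t p) = g (pullback.fst g t p) :=
    (congrArg (fun F : pullback g t ⟶ X => F p) (pullback.condition (f := g) (g := t))).symm
  have hgU : g (pullback.fst g t p) ∈ U := hw ▸ hrU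
  have hsp : g (pullback.fst g t p) ⤳ t (pullback.snd g t p) := by rw [hw]
  refine (CycLib.ker_stalkMap_isPullback_pre (IsPullback.of_hasPullback g t).flip p hsp).trans ?_
  rw [ker_stalkMap_chart hU I (pullback.fst g t p) hgU,
    stalkSpecializes_comap_map I _ _ hw hsp hgU hrU]
  exact Ideal.map_map _ _

/-- A preimmersion cut out at `p` by `J`, composed with `sR`. -/
theorem slice_local {P R U : Scheme.{u}} (ρ : P ⟶ R) (sR : R ⟶ U) [IsPreimmersion ρ]
    [LocallyOfFiniteType (ρ ≫ sR)] (p : P) (J : Ideal (R.presheaf.stalk (ρ p)))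
    (hker : RingHom.ker (ρ.stalkMap p).hom = J)
    (hflat : ((Ideal.Quotient.mk J).comp (sR.stalkMap (ρ p)).hom).Flat)
    (hcm : LocCoh.IsCohenMacaulayLocalRing (R.presheaf.stalk (ρ p) ⧸
      ((maximalIdeal (U.presheaf.stalk (sR (ρ p)))).map (sR.stalkMap (ρ p)).hom ⊔ J)))
    {d : WithBot ℕ∞} (hdim : ringKrullDim (R.presheaf.stalk (ρ p) ⧸
      ((maximalIdeal (U.presheaf.stalk (sR (ρ p)))).map (sR.stalkMap (ρ p)).hom ⊔ J)) = d)
    (hrs : Function.Surjective (sR.residueFieldMap (ρ p)).hom) :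
    MoreMor.IsCMAt (ρ ≫ sR) p ∧ FlatMor.fibreDimAt (ρ ≫ sR) p = d := by
  let π := (ρ.stalkMap p).hom
  have hπ : Function.Surjective π := ρ.stalkMap_surjective p
  let M := (maximalIdeal (U.presheaf.stalk (sR (ρ p)))).map (sR.stalkMap (ρ p)).hom
  let E₁ := (Ideal.quotEquivOfEq hker.symm).trans (RingHom.quotientKerEquivOfSurjective hπ)
  have hflh : ((ρ ≫ sR).stalkMap p).hom.Flat := by
    refine (congrArg RingHom.Flat (stalkMap_comp_hom ρ sR p)).mpr ?_
    have e : π.comp (sR.stalkMap (ρ p)).hom = E₁.toRingHom.comp ((Ideal.Quotient.mk J).comp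
        (sR.stalkMap (ρ p)).hom) := RingHom.ext fun c => rfl
    exact (congrArg RingHom.Flat e).mpr (RingHom.Flat.respectsIso.1 _ E₁ hflat)
  let N : Ideal (P.presheaf.stalk p) :=
    (maximalIdeal (U.presheaf.stalk ((ρ ≫ sR) p))).map ((ρ ≫ sR).stalkMap p).hom
  have hM : N = M.map π := map_stalkMap_comp ρ sR p
  let E₂ : R.presheaf.stalk (ρ p) ⧸ (M ⊔ J) ≃+* P.presheaf.stalk p ⧸ N :=
    (Ideal.quotEquivOfEq (by
      rw [← RingHom.comap_ker, Ideal.mk_ker, hM, Ideal.comap_map_of_surjective π hπ,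
        ← RingHom.ker_eq_comap_bot, hker])).trans
      (RingHom.quotientKerEquivOfSurjective (f := (Ideal.Quotient.mk N).comp π)
        (Ideal.Quotient.mk_surjective.comp hπ))
  refine ⟨(Groth.Agent.FlatMor.CMFlat.isCMAt_iff (ρ ≫ sR) p).2
    ⟨hflh, Groth.Agent.FlatMor.CMFlat.isCM_of_ringEquiv E₂ hcm⟩, ?_⟩
  have hsurj : Function.Surjective ((ρ ≫ sR).residueFieldMap p).hom := by
    rw [Scheme.residueFieldMap_comp]
    exact (RadPtLib.residueFieldMap_bijective ρ p).2.comp hrs
  exact ((CMDim.fibreDimAt_eq_ringKrullDim (ρ ≫ sR) p hsurj).trans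
    (ringKrullDim_eq_of_ringEquiv E₂).symm).trans hdim

variable {S : Scheme.{u}} (G : Grpd.GroupoidScheme S) [LocallyOfFiniteType G.s] [LocallyOfFiniteType G.t]

/-- The dimension of the stabilizer, from the local ring at the identity arrow. -/
theorem dim_stabilizer (u : G.U) (hu : LocallyOfFiniteType (G.U.fromSpecResidueField u)) :
    topologicalKrullDim ↥(G.stabilizerToU.fiber u) =
      ringKrullDim (G.R.presheaf.stalk (G.e u) ⧸
        ((maximalIdeal (G.U.presheaf.stalk (G.s (G.e u)))).map (G.s.stalkMap (G.e u)).hom ⊔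
          (maximalIdeal (G.U.presheaf.stalk (G.t (G.e u)))).map (G.t.stalkMap (G.e u)).hom)) := by
  let g := G.U.fromSpecResidueField u
  let Gm := GrpdLib.restrictMono G g
  let k := G.U.residueField u
  let h₀ := G.t.fiberι u ≫ G.s
  haveI := hu
  haveI : LocallyOfFiniteType (G.t.fiberι u) :=
    inferInstanceAs (LocallyOfFiniteType (pullback.fst G.t g))
  haveI : LocallyOfFiniteType h₀ := inferInstance
  haveI : LocallyOfFiniteType Gm.s := inferInstanceAs (LocallyOfFiniteType (h₀.fiberToSpecResidueField u))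
  haveI : LocallyOfFiniteType Gm.t := by
    haveI : LocallyOfFiniteType (h₀.fiberι u) := inferInstanceAs (LocallyOfFiniteType (pullback.fst h₀ g))
    exact inferInstanceAs (LocallyOfFiniteType (h₀.fiberι u ≫ G.t.fiberToSpecResidueField u))
  let w : Gm.U := IsLocalRing.closedPoint k
  have hgw : g w = u := G.U.fromSpecResidueField_apply u w
  let z : ↥(h₀.fiber u) := Gm.e w
  have hz : G.t.fiberι u (h₀.fiberι u z) = G.e u := by
    have h0 : (GrpdLib.restrictMono G g).e ≫ GrpdLib.rmι G g = g ≫ G.e :=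
      GrpdLib.rmLift_ι G g (g ≫ G.e) (𝟙 _) (𝟙 _) (by simp) (by simp)
    exact (congrArg (fun F : Spec k ⟶ G.R => F w) h0).trans (congrArg G.e hgw)
  have hstab : topologicalKrullDim ↥Gm.stabilizer = topologicalKrullDim ↥(G.stabilizerToU.fiber u) := by
    let a₀ : Gm.stabilizer ⟶ G.R := pullback.fst Gm.j Gm.diag ≫ GrpdLib.rmι G g
    let a₁ : Gm.stabilizer ⟶ Spec k := pullback.snd Gm.j Gm.diag
    have ht₀ : a₀ ≫ G.t = a₁ ≫ g := (Category.assoc _ _ _).trans
      ((congrArg (pullback.fst Gm.j Gm.diag ≫ ·) (GrpdLib.rmι_t G g)).trans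
        ((Category.assoc _ _ _).symm.trans (congrArg (· ≫ g) (GrpdLib.stabilizer_fst_t Gm))))
    have hs₀ : a₀ ≫ G.s = a₁ ≫ g := (Category.assoc _ _ _).trans
      ((congrArg (pullback.fst Gm.j Gm.diag ≫ ·) (GrpdLib.rmι_s G g)).trans
        ((Category.assoc _ _ _).symm.trans (congrArg (· ≫ g) (GrpdLib.stabilizer_fst_s Gm))))
    let A : Gm.stabilizer ⟶ G.stabilizer := pullback.lift a₀ (a₁ ≫ g) (pullback.hom_ext
      ((Category.assoc _ _ _).trans ((congrArg (a₀ ≫ ·) (GrpdLib.j_fst G)).trans (ht₀.trans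
        ((Category.comp_id _).symm.trans ((congrArg ((a₁ ≫ g) ≫ ·) (GrpdLib.diag_fst G)).symm.trans
          (Category.assoc _ _ _).symm)))))
      ((Category.assoc _ _ _).trans ((congrArg (a₀ ≫ ·) (GrpdLib.j_snd G)).trans (hs₀.trans
        ((Category.comp_id _).symm.trans ((congrArg ((a₁ ≫ g) ≫ ·) (GrpdLib.diag_snd G)).symm.trans
          (Category.assoc _ _ _).symm))))))
    let a : Gm.stabilizer ⟶ G.stabilizerToU.fiber u := pullback.lift A a₁ (pullback.lift_snd _ _ _)
    let F₁ : G.stabilizerToU.fiber u ⟶ G.R := G.stabilizerToU.fiberι u ≫ pullback.fst G.j G.diag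
    let F₂ : G.stabilizerToU.fiber u ⟶ Spec k := G.stabilizerToU.fiberToSpecResidueField u
    have hF : G.stabilizerToU.fiberι u ≫ G.stabilizerToU = F₂ ≫ g := pullback.condition
    let b₁ : G.stabilizerToU.fiber u ⟶ Gm.R := GrpdLib.rmLift G g F₁ F₂ F₂
      (((Category.assoc _ _ _).trans
        (congrArg (G.stabilizerToU.fiberι u ≫ ·) (GrpdLib.stabilizer_fst_t G))).trans hF)
      (((Category.assoc _ _ _).trans
        (congrArg (G.stabilizerToU.fiberι u ≫ ·) (GrpdLib.stabilizer_fst_s G))).trans hF)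
    let F₂' : G.stabilizerToU.fiber u ⟶ Gm.U := F₂
    let b : G.stabilizerToU.fiber u ⟶ Gm.stabilizer := pullback.lift b₁ F₂' (pullback.hom_ext
      ((Category.assoc _ _ _).trans ((congrArg (b₁ ≫ ·) (GrpdLib.j_fst Gm)).trans
        (Eq.trans (GrpdLib.rmLift_T G g _ _ _ _ _) ((Category.comp_id F₂').symm.trans
          ((congrArg (F₂' ≫ ·) (GrpdLib.diag_fst Gm)).symm.trans (Category.assoc _ _ _).symm)))))
      ((Category.assoc _ _ _).trans ((congrArg (b₁ ≫ ·) (GrpdLib.j_snd Gm)).trans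
        (Eq.trans (GrpdLib.rmLift_S G g _ _ _ _ _) ((Category.comp_id F₂').symm.trans
          ((congrArg (F₂' ≫ ·) (GrpdLib.diag_snd Gm)).symm.trans (Category.assoc _ _ _).symm))))))
    have hb₁ : b ≫ pullback.fst Gm.j Gm.diag = b₁ := pullback.lift_fst _ _ _
    have hb₂ : b ≫ a₁ = F₂ := pullback.lift_snd _ _ _
    have ha₁ : a ≫ G.stabilizerToU.fiberι u = A := pullback.lift_fst _ _ _
    have ha₂ : a ≫ F₂ = a₁ := pullback.lift_snd _ _ _
    have hX : a ≫ b₁ = pullback.fst Gm.j Gm.diag := GrpdLib.rm_ext G g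
      ((Category.assoc _ _ _).trans ((congrArg (a ≫ ·) (GrpdLib.rmLift_ι G g _ _ _ _ _)).trans
        ((Category.assoc _ _ _).symm.trans ((congrArg (· ≫ pullback.fst G.j G.diag) ha₁).trans
          (pullback.lift_fst _ _ _)))))
    have hι : b ≫ A = G.stabilizerToU.fiberι u := pullback.hom_ext
      ((Category.assoc _ _ _).trans ((congrArg (b ≫ ·) (pullback.lift_fst _ _ _)).trans
        ((Category.assoc _ _ _).symm.trans ((congrArg (· ≫ GrpdLib.rmι G g) hb₁).trans
          (GrpdLib.rmLift_ι G g _ _ _ _ _)))))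
      ((Category.assoc _ _ _).trans ((congrArg (b ≫ ·) (pullback.lift_snd _ _ _)).trans
        ((Category.assoc _ _ _).symm.trans ((congrArg (· ≫ g) hb₂).trans hF.symm))))
    have hab : a ≫ b = 𝟙 _ := pullback.hom_ext
      ((Category.assoc _ _ _).trans ((congrArg (a ≫ ·) hb₁).trans (hX.trans (Category.id_comp _).symm)))
      ((Category.assoc _ _ _).trans ((congrArg (a ≫ ·) hb₂).trans (ha₂.trans (Category.id_comp _).symm)))
    have hba : b ≫ a = 𝟙 _ := pullback.hom_ext
      ((Category.assoc _ _ _).trans ((congrArg (b ≫ ·) ha₁).trans (hι.trans (Category.id_comp _).symm)))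
      ((Category.assoc _ _ _).trans ((congrArg (b ≫ ·) ha₂).trans (hb₂.trans (Category.id_comp _).symm)))
    haveI : IsIso a := ⟨b, hab, hba⟩
    exact IsHomeomorph.topologicalKrullDim_eq _ (Scheme.Hom.homeomorph a).isHomeomorph
  rw [← hstab, ← GrpdLib.FieldStabDim.dim_eq k Gm (Iso.refl _),
    GrpdLib.FieldDim.krullDim_eq Gm k (Iso.refl _) w, ← ringKrullDim_stalk_eq_coheight (Gm.e w)]
  change ringKrullDim ((h₀.fiber u).presheaf.stalk z) = _
  have key : ∀ (p : ↥(G.t.fiber u)) (hp : h₀.fiberι u z = p) (r : G.R) (hr : G.t.fiberι u p = r),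
      ringKrullDim ((h₀.fiber u).presheaf.stalk z) = ringKrullDim (G.R.presheaf.stalk r ⧸
        ((maximalIdeal (G.U.presheaf.stalk (G.s r))).map (G.s.stalkMap r).hom ⊔
          (maximalIdeal (G.U.presheaf.stalk (G.t r))).map (G.t.stalkMap r).hom)) := by
    rintro p rfl r rfl
    let π₀ := ((G.t.fiberι u).stalkMap (h₀.fiberι u z)).hom
    let π₁ := ((h₀.fiberι u).stalkMap z).hom
    have h0 : Function.Surjective π₀ := (G.t.fiberι u).stalkMap_surjective _
    have h1 : Function.Surjective π₁ := (h₀.fiberι u).stalkMap_surjective _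
    have hk0 := Groth.Agent.FlatMor.FibreStalk.ker_stalkMap_fiberι G.t u (h₀.fiberι u z)
    have hk1 := Groth.Agent.FlatMor.FibreStalk.ker_stalkMap_fiberι h₀ u z
    refine (ringKrullDim_eq_of_ringEquiv ((Ideal.quotEquivOfEq ?_).trans
      (RingHom.quotientKerEquivOfSurjective (f := π₁.comp π₀) (h1.comp h0)))).symm
    rw [← RingHom.comap_ker,
      show RingHom.ker π₁ = _ from hk1.trans (map_stalkMap_comp (G.t.fiberι u) G.s (h₀.fiberι u z))]
    refine Eq.trans ?_ (Ideal.comap_map_of_surjective π₀ h0 _).symm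
    rw [← RingHom.ker_eq_comap_bot, show RingHom.ker π₀ = _ from hk0]
  exact key _ rfl _ hz

/-- `U' → U` with `s ∘ pr₁` Cohen–Macaulay at the identity arrow, of prescribed fibre dimension. -/
theorem exists_slice [LocallyOfFinitePresentation G.s] [LocallyOfFinitePresentation G.t]
    (hs : ∀ r, MoreMor.IsCMAt G.s r) (u : G.U) (hu : LocallyOfFiniteType (G.U.fromSpecResidueField u)) :
    ∃ d₁ d₂ : ℕ, topologicalKrullDim ↥(G.stabilizerToU.fiber u) = d₁ ∧
      FlatMor.fibreDimAt G.s (G.e u) = d₂ ∧ d₁ ≤ d₂ ∧ ∀ n, d₁ + n ≤ d₂ →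
        ∃ (U' : Scheme.{u}) (_ : IsAffine U') (g : U' ⟶ G.U) (u' : U') (p : ↥(pullback g G.t)),
          IsImmersion g ∧ LocallyOfFinitePresentation g ∧ g u' = u ∧ pullback.fst g G.t p = u' ∧
            pullback.snd g G.t p = G.e u ∧ MoreMor.IsCMAt (pullback.snd g G.t ≫ G.s) p ∧
            FlatMor.fibreDimAt (pullback.snd g G.t ≫ G.s) p = ((d₂ - n : ℕ) : WithBot ℕ∞) := by
  let Ms := (maximalIdeal (G.U.presheaf.stalk (G.s (G.e u)))).map (G.s.stalkMap (G.e u)).hom
  let Mt := (maximalIdeal (G.U.presheaf.stalk (G.t (G.e u)))).map (G.t.stalkMap (G.e u)).hom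
  have hMs : Ms ≤ maximalIdeal _ := map_maximalIdeal_le (G.s.stalkMap (G.e u)).hom
  have hMt : Mt ≤ maximalIdeal _ := map_maximalIdeal_le (G.t.stalkMap (G.e u)).hom
  haveI hA : LocCoh.IsCohenMacaulayLocalRing (G.R.presheaf.stalk (G.e u) ⧸ Ms) :=
    ((Groth.Agent.FlatMor.CMFlat.isCMAt_iff G.s (G.e u)).1 (hs _)).2
  have hrfm : ∀ r, r = G.e u → Function.Surjective (G.s.residueFieldMap r).hom :=
    fun r hr => residueFieldMap_surjective_of_section G.s G.e G.e_s u r hr
  haveI : IsLocalRing ((G.R.presheaf.stalk (G.e u) ⧸ Ms) ⧸ Mt.map (Ideal.Quotient.mk Ms)) :=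
    RegLoc.isLocalRing_quotient (by
      rw [RegLoc.maximalIdeal_quotient_eq_map]; exact Ideal.map_mono hMt)
  obtain ⟨d₂, hd₂, -⟩ := RegLoc.exists_natCast_eq_ringKrullDim (G.R.presheaf.stalk (G.e u) ⧸ Ms)
  obtain ⟨d₁, hd₁, -⟩ := RegLoc.exists_natCast_eq_ringKrullDim
    ((G.R.presheaf.stalk (G.e u) ⧸ Ms) ⧸ Mt.map (Ideal.Quotient.mk Ms))
  have hd12 : d₁ ≤ d₂ := by
    have := ringKrullDim_le_of_surjective (Ideal.Quotient.mk (Mt.map (Ideal.Quotient.mk Ms)))
      Ideal.Quotient.mk_surjective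
    rw [hd₁, hd₂] at this
    exact_mod_cast this
  refine ⟨d₁, d₂, ?_, (CMDim.fibreDimAt_eq_ringKrullDim G.s _ (hrfm _ rfl)).trans hd₂, hd12,
    fun n hn => ?_⟩
  · rw [dim_stabilizer G u hu, ← hd₁]
    exact (ringKrullDim_eq_of_ringEquiv (DoubleQuot.quotQuotEquivQuotSup Ms Mt)).symm
  obtain ⟨_, ⟨U₀, hU₀, rfl⟩, hu₀, -⟩ := G.U.isBasis_affineOpens.exists_subset_of_mem_open
    (Set.mem_univ u) isOpen_univ
  replace hU₀ : IsAffineOpen U₀ := hU₀
  have hte : G.t (G.e u) ∈ U₀ := by rw [GrpdLib.t_e_apply]; exact hu₀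
  let P := primeOf hU₀ (G.t (G.e u)) hte
  let ψ₀ : Γ(G.U, U₀) →+* G.R.presheaf.stalk (G.e u) :=
    (G.t.stalkMap (G.e u)).hom.comp (G.U.presheaf.germ U₀ _ hte).hom
  have hPMt : P.map ψ₀ = Mt := by
    letI : Algebra Γ(G.U, U₀) (G.U.presheaf.stalk (G.t (G.e u))) :=
      (G.U.presheaf.germ U₀ _ hte).hom.toAlgebra
    haveI : IsLocalization.AtPrime (G.U.presheaf.stalk (G.t (G.e u))) P :=
      hU₀.isLocalization_stalk ⟨_, hte⟩
    show P.map ψ₀ = _
    rw [← Ideal.map_map]
    exact congrArg (Ideal.map _) (IsLocalization.AtPrime.map_eq_maximalIdeal P _)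
  obtain ⟨l, hlP, hlreg, hlcm, hldim⟩ := exists_list n (G.R.presheaf.stalk (G.e u) ⧸ Ms)
    ((Ideal.Quotient.mk Ms).comp ψ₀) P
    (by rw [← Ideal.map_map, hPMt, RegLoc.maximalIdeal_quotient_eq_map]; exact Ideal.map_mono hMt)
    d₂ d₁ hd₂ (by rw [← Ideal.map_map, hPMt]; exact hd₁) hn
  let hs₀ := l.map ψ₀
  have hlist : hs₀.map (Ideal.Quotient.mk Ms) = l.map ((Ideal.Quotient.mk Ms).comp ψ₀) := by
    rw [List.map_map]; rfl
  -- the flatness of the slice
  have hflat : ((Ideal.Quotient.mk (Ideal.ofList hs₀)).comp (G.s.stalkMap (G.e u)).hom).Flat := by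
    obtain ⟨UR, hUR, hx, hs', hgerm, -, ⟨z, hz⟩, hZflat, -, -⟩ := S1459.result G.s (G.e u) (hs _).1 hs₀
      ⟨by rw [hlist]; exact hlreg, fun htop => by
        rw [smul_eq_mul, ← Ideal.one_eq_top, mul_one, hlist] at htop
        haveI : Nontrivial ((G.R.presheaf.stalk (G.e u) ⧸ Ms) ⧸
            Ideal.ofList (l.map ((Ideal.Quotient.mk Ms).comp ψ₀))) := inferInstance
        exact Ideal.Quotient.nontrivial_iff.1 this (htop.symm.trans Ideal.one_eq_top)⟩
    let j := Spec.map (CommRingCat.ofHom (Ideal.Quotient.mk (Ideal.ofList hs'))) ≫ hUR.fromSpec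
    haveI : Flat (j ≫ G.s) := by rw [Category.assoc]; exact hZflat
    haveI : IsClosedImmersion (Spec.map (CommRingCat.ofHom (Ideal.Quotient.mk (Ideal.ofList hs')))) :=
      IsClosedImmersion.spec_of_surjective _ Ideal.Quotient.mk_surjective
    have key : ∀ (r : G.R) (hr : j z = r) (hrU : r ∈ UR),
        ((Ideal.Quotient.mk (Ideal.ofList (hs'.map (G.R.presheaf.germ UR r hrU)))).comp
          (G.s.stalkMap r).hom).Flat := by
      rintro r rfl hrU
      have hfl : ((j.stalkMap z).hom.comp (G.s.stalkMap (j z)).hom).Flat :=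
        (congrArg RingHom.Flat (stalkMap_comp_hom j G.s z)).mp (Flat.stalkMap (j ≫ G.s) z)
      have hsurj : Function.Surjective (j.stalkMap z).hom := j.stalkMap_surjective z
      have hk : RingHom.ker (j.stalkMap z).hom =
          Ideal.ofList (hs'.map (G.R.presheaf.germ UR (j z) hrU)) := by
        rw [ker_stalkMap_chart hUR (Ideal.ofList hs') z hrU, Ideal.map_ofList]
      let E := (Ideal.quotEquivOfEq hk.symm).trans (RingHom.quotientKerEquivOfSurjective hsurj)
      have hE : (Ideal.Quotient.mk (Ideal.ofList (hs'.map (G.R.presheaf.germ UR (j z) hrU)))).comp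
          (G.s.stalkMap (j z)).hom = E.symm.toRingHom.comp ((j.stalkMap z).hom.comp (G.s.stalkMap (j z)).hom) := by
        refine RingHom.ext fun c => ?_
        show _ = E.symm _
        rw [eq_comm, RingEquiv.symm_apply_eq]
        rfl
      rw [hE]
      exact (RingHom.Flat.respectsIso.1 _ E.symm hfl)
    have h2 := key (G.e u) hz hx
    rwa [hgerm] at h2
  -- the immersion
  let q : Γ(G.U, U₀) ⟶ CommRingCat.of (Γ(G.U, U₀) ⧸ Ideal.ofList l) :=
    CommRingCat.ofHom (Ideal.Quotient.mk (Ideal.ofList l))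
  haveI : IsClosedImmersion (Spec.map q) :=
    IsClosedImmersion.spec_of_surjective q Ideal.Quotient.mk_surjective
  let g := Spec.map q ≫ hU₀.fromSpec
  haveI : IsImmersion g := inferInstance
  haveI : LocallyOfFinitePresentation (Spec.map q) := by
    rw [HasRingHomProperty.Spec_iff (P := @LocallyOfFinitePresentation)]
    exact RingHom.FinitePresentation.of_surjective _ Ideal.Quotient.mk_surjective
      (by show (RingHom.ker (Ideal.Quotient.mk (Ideal.ofList l))).FG
          rw [Ideal.mk_ker]; exact Submodule.fg_span (List.finite_toSet _))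
  obtain ⟨u', hu'⟩ : ∃ u', Spec.map q u' = (⟨P, inferInstance⟩ : PrimeSpectrum Γ(G.U, U₀)) := by
    have : (⟨P, inferInstance⟩ : PrimeSpectrum Γ(G.U, U₀)) ∈ Set.range (PrimeSpectrum.comap q.hom) := by
      rw [show q.hom = Ideal.Quotient.mk (Ideal.ofList l) from rfl,
        _root_.range_comap_of_surjective _ _ Ideal.Quotient.mk_surjective,
        PrimeSpectrum.mem_zeroLocus, SetLike.coe_subset_coe]
      exact le_of_eq_of_le Ideal.mk_ker (Ideal.span_le.2 hlP)
    exact this
  have hgu : g u' = u := by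
    rw [Scheme.Hom.comp_apply, hu']
    exact (hU₀.fromSpec_primeIdealOf ⟨_, hte⟩).trans (GrpdLib.t_e_apply G u)
  obtain ⟨p, hp₁, hp₂⟩ := Scheme.Pullback.exists_preimage_pullback (f := g) (g := G.t) u' (G.e u)
    (hgu.trans (GrpdLib.t_e_apply G u).symm)
  refine ⟨_, inferInstance, g, u', p, inferInstance, inferInstance, hgu, hp₁, hp₂, ?_⟩
  -- the local ring of the slice
  have main : ∀ (r : G.R) (_ : r = G.e u) (hrU : G.t r ∈ U₀),
      let M := (maximalIdeal (G.U.presheaf.stalk (G.s r))).map (G.s.stalkMap r).hom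
      let J := (Ideal.ofList l).map ((G.t.stalkMap r).hom.comp (G.U.presheaf.germ U₀ _ hrU).hom)
      ((Ideal.Quotient.mk J).comp (G.s.stalkMap r).hom).Flat ∧
        LocCoh.IsCohenMacaulayLocalRing (G.R.presheaf.stalk r ⧸ (M ⊔ J)) ∧
        ringKrullDim (G.R.presheaf.stalk r ⧸ (M ⊔ J)) = ((d₂ - n : ℕ) : WithBot ℕ∞) ∧
        Function.Surjective (G.s.residueFieldMap r).hom := by
    rintro r rfl hrU
    intro M J
    have hJ : J = Ideal.ofList hs₀ := Ideal.map_ofList ψ₀ l
    let E : (G.R.presheaf.stalk (G.e u) ⧸ Ms) ⧸ Ideal.ofList (l.map ((Ideal.Quotient.mk Ms).comp ψ₀)) ≃+*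
        G.R.presheaf.stalk (G.e u) ⧸ (M ⊔ J) :=
      (Ideal.quotEquivOfEq (by rw [← hlist, hJ, Ideal.map_ofList])).trans
        (DoubleQuot.quotQuotEquivQuotSup Ms J)
    refine ⟨by rw [hJ]; exact hflat, Groth.Agent.FlatMor.CMFlat.isCM_of_ringEquiv E hlcm,
      by rw [← ringKrullDim_eq_of_ringEquiv E, hldim], hrfm _ rfl⟩
  haveI : IsPreimmersion (pullback.snd g G.t) := inferInstance
  have hrU : G.t (pullback.snd g G.t p) ∈ U₀ := by rw [hp₂]; exact hte
  obtain ⟨hfl, hcm, hdim, hrs⟩ := main _ hp₂ hrU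
  exact slice_local (pullback.snd g G.t) G.s p _ (ker_snd_chart hU₀ (Ideal.ofList l) G.t p hrU)
    hfl hcm hdim hrs

end Groth.Agent.FlatOpen.GrpdSlice
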