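import Groth.Agent.FlatOpen.GrpdCM
import Groth.Agent.FlatOpen.GrpdSlice

/-!
# Maximal slices of a groupoid scheme

`exists_max_slice`: an affine immersion `g : U' → U` through a given finite type point with
`s ∘ pr₁` Cohen–Macaulay of constant fibre dimension the dimension of the stabilizer.
-/

set_option autoImplicit false
set_option linter.style.haveILetI false

universe u

open CategoryTheory CategoryTheory.Limits AlgebraicGeometry

namespace Groth.Agent.FlatOpen.GrpdMaxSlice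

theorem exists_max_slice {S : Scheme.{u}} (G : Grpd.GroupoidScheme S) [LocallyOfFinitePresentation G.s]
    [LocallyOfFinitePresentation G.t] (hs : ∀ r, MoreMor.IsCMAt G.s r) (ht : ∀ r, MoreMor.IsCMAt G.t r)
    (u : G.U) (hu : LocallyOfFiniteType (G.U.fromSpecResidueField u)) :
    ∃ d : ℕ, topologicalKrullDim ↥(G.stabilizerToU.fiber u) = d ∧
      ∃ (U' : Scheme.{u}) (_ : IsAffine U') (g : U' ⟶ G.U) (u' : U') (p : ↥(pullback g G.t)),
        IsImmersion g ∧ LocallyOfFinitePresentation g ∧ g u' = u ∧ pullback.fst g G.t p = u' ∧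
          pullback.snd g G.t p = G.e u ∧
          (∀ q, MoreMor.IsCMAt (pullback.snd g G.t ≫ G.s) q ∧
            FlatMor.fibreDimAt (pullback.snd g G.t ≫ G.s) q = d) ∧
          (∀ q, MoreMor.IsCMAt (pullback.snd (pullback.snd g G.t ≫ G.s) g) q) ∧
          (∀ q, MoreMor.IsCMAt (pullback.fst (pullback.snd g G.t ≫ G.s) g ≫ pullback.fst g G.t) q) := by
  obtain ⟨d₁, d₂, hd₁, -, hle, H⟩ := GrpdSlice.exists_slice G hs u hu
  refine ⟨d₁, hd₁, ?_⟩
  obtain ⟨U₁, _, g₁, u₁, p₁, _, _, hgu, hp₁, hp₂, hcm, hdim⟩ := H (d₂ - d₁) (by omega)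
  rw [show d₂ - (d₂ - d₁) = d₁ by omega] at hdim
  obtain ⟨W, hW, ⟨p', hp'₁, hp'₂⟩, hall, hs', ht'⟩ :=
    GrpdCM.exists_shrink G g₁ hs ht p₁ hcm d₁ hdim
  haveI : IsAffine W.toScheme := hW
  refine ⟨W.toScheme, inferInstance, W.ι ≫ g₁, pullback.fst (W.ι ≫ g₁) G.t p', p', inferInstance,
    inferInstance, ?_, rfl, hp'₂.trans hp₂, hall, hs', ht'⟩
  rw [Scheme.Hom.comp_apply, hp'₁, hp₁, hgu]

end Groth.Agent.FlatOpen.GrpdMaxSlice
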