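import Groth.Agent.FlatOpen.Core
import Groth.Agent.EGA4Lib.RegLocus

/-!
# Openness of the flat locus

* `exists_basicOpen_flat`: equations ⟹ flat near `q` on the primes over `p`.
* `exists_equations`: flat at `q` ⟹ equations.
* `exists_model_open`: a flat point has a Noetherian model with an open set of flat points.
* `isOpen_flatLocus`: the flat locus of `R[x]^r ⧸ L`, `L` finitely generated, is open.
-/

set_option autoImplicit false
set_option linter.style.haveILetI false

universe u

open TensorProduct Function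

namespace Groth.Agent.FlatOpen

variable {n r : ℕ} {R₀ : Type u} [CommRing R₀] (p : Ideal R₀)
  (Z₀ : Submodule (MvPolynomial (Fin n) R₀) (Vec n r R₀))

/-- The equations certifying flatness at `q`. -/
def Equations (R : Type u) [CommRing R] [Algebra R₀ R] (q : Ideal (MvPolynomial (Fin n) R)) : Prop :=
  ∀ t ∈ Tz p Z₀, ∃ s ∉ q, s • mapVec R t ∈ ext R (Jz p Z₀)

section Fibre

variable (R : Type u) [CommRing R] [Algebra R₀ R]

/-- Kernels of `M ⊗ X → M ⊗ Y` are `f`-torsion for `X, Y` killed by `p`. -/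
theorem exists_pow_smul_quot {f : R₀}
    (hf : Module.Flat (Bf p f) (Bf p f ⊗[R₀] (Vec n r R₀ ⧸ Z₀)))
    {X Y : Type u} [AddCommGroup X] [Module R X] [AddCommGroup Y] [Module R Y] (a : X →ₗ[R] Y)
    (ha : Injective a) (hY : ∀ c ∈ p, ∀ y : Y, algebraMap R₀ R c • y = 0)
    (x : Quot R Z₀ ⊗[R] X) (hx : a.lTensor (Quot R Z₀) x = 0) :
    ∃ N : ℕ, (algebraMap R (MvPolynomial (Fin n) R) (algebraMap R₀ R f)) ^ N • x = 0 := by
  letI : Module R₀ X := Module.compHom X (algebraMap R₀ R)
  letI : Module R₀ Y := Module.compHom Y (algebraMap R₀ R)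
  haveI : IsScalarTower R₀ R X := IsScalarTower.of_algebraMap_smul fun _ _ => rfl
  haveI : IsScalarTower R₀ R Y := IsScalarTower.of_algebraMap_smul fun _ _ => rfl
  have hY' : Killed p Y := fun c hc y => hY c hc y
  have hX' : Killed p X := fun c hc z => ha (by
    rw [LinearMap.map_smul_of_tower, map_zero]; exact hY' c hc _)
  let E : ∀ (W : Type u) [AddCommGroup W] [Module R W] [Module R₀ W] [IsScalarTower R₀ R W],
      Quot R Z₀ ⊗[R] W ≃ₗ[R] W ⊗[R₀] (Vec n r R₀ ⧸ Z₀) := fun W _ _ _ _ =>
    (TensorProduct.comm R _ W).trans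
      ((TensorProduct.congr (LinearEquiv.refl R W) (quotEquiv R Z₀).symm).trans
        (AlgebraTensorModule.cancelBaseChange R₀ R R W _))
  have hE : ∀ z, (a.restrictScalars R₀).rTensor _ (E X z) = E Y (a.lTensor _ z) := by
    intro z
    obtain ⟨z, rfl⟩ := (E X).symm.surjective z
    rw [(E X).apply_symm_apply]
    induction z with
    | zero => simp only [map_zero]
    | tmul w v => simp [E]
    | add u v hu hv => simp only [map_add, hu, hv]
  obtain ⟨N, hN⟩ := exists_pow_smul_of_flat (f := f) hX' hY' (a.restrictScalars R₀) ha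
    (Vec n r R₀ ⧸ Z₀) hf (x := E X x) (by rw [hE, hx, map_zero])
  refine ⟨N, ?_⟩
  rw [← map_pow, ← map_pow, algebraMap_smul]
  apply (E X).injective
  rw [map_smul, map_zero, algebraMap_smul]
  exact hN

end Fibre

/-- Equations give flatness on a neighbourhood of `q` in the primes over `p`. -/
theorem exists_basicOpen_flat [IsNoetherianRing R₀] [p.IsPrime] (R : Type u) [CommRing R]
    [Algebra R₀ R] [IsNoetherianRing R] (q : Ideal (MvPolynomial (Fin n) R)) [q.IsPrime]
    (hq : q.comap (algebraMap R₀ (MvPolynomial (Fin n) R)) = p) (hs : Equations p Z₀ R q) :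
    ∃ h ∉ q, ∀ (Q : Ideal (MvPolynomial (Fin n) R)) [Q.IsPrime],
      p ≤ Q.comap (algebraMap R₀ (MvPolynomial (Fin n) R)) → h ∉ Q →
        FlatCA.FlatAt R Q (Quot R Z₀) := by
  classical
  let P := MvPolynomial (Fin n) R
  obtain ⟨f, hfp, hf⟩ := exists_flat_fibre p Z₀
  obtain ⟨G, hG⟩ := IsNoetherian.noetherian (Tz p Z₀)
  choose! s hsq hsmem using hs
  have hGT : ∀ t ∈ G, t ∈ Tz p Z₀ := fun t ht => hG ▸ Submodule.subset_span ht
  let S := ∏ t ∈ G, s t
  let φ : P := algebraMap R P (algebraMap R₀ R f)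
  have hφq : φ ∉ q := by
    intro h
    exact hfp (hq ▸ Ideal.mem_comap.2 (by rwa [IsScalarTower.algebraMap_apply R₀ R P]))
  have hSq : S ∉ q := fun h => by
    obtain ⟨t, ht, hts⟩ := (Ideal.IsPrime.prod_mem_iff (p := q)).1 h
    exact hsq t (hGT t ht) hts
  refine ⟨φ * S, Ideal.IsPrime.mul_notMem inferInstance hφq hSq, fun Q _ hQp hQ => ?_⟩
  have hφQ : φ ∉ Q := fun h => hQ (Ideal.mul_mem_right _ _ h)
  have hSQ : S ∉ Q := fun h => hQ (Ideal.mul_mem_left _ _ h)
  set I := p.map (algebraMap R₀ R) with hI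
  have hST : ∀ m ∈ ext R (Tz p Z₀), S • m ∈ ext R (Jz p Z₀) := by
    intro m hm
    rw [← hG, ext_span] at hm
    induction hm using Submodule.span_induction with
    | mem m hm =>
      obtain ⟨t, ht, rfl⟩ := hm
      obtain ⟨c, hc⟩ : s t ∣ S := Finset.dvd_prod_of_mem _ ht
      rw [hc, mul_comm, mul_smul]
      exact Submodule.smul_mem _ _ (hsmem t (hGT t ht))
    | zero => rw [smul_zero]; exact zero_mem _
    | add a b _ _ ha hb => rw [smul_add]; exact add_mem ha hb
    | smul c a _ ha => rw [smul_comm]; exact Submodule.smul_mem _ _ ha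
  have h1 : Injective (LinearMap.rTensor (LocalizedModule Q.primeCompl (Quot R Z₀)) I.subtype) := by
    rw [← LinearMap.lTensor_inj_iff_rTensor_inj]
    refine lTensor_localized_injective Q.primeCompl I.subtype fun x hx => ?_
    let π := AlgebraTensorModule.rTensor R I (ext R Z₀).mkQ
    obtain ⟨y, rfl⟩ : ∃ y, π y = x :=
      LinearMap.rTensor_surjective (I : Submodule R R) (g := (ext R Z₀).mkQ.restrictScalars R)
        (ext R Z₀).mkQ_surjective x
    have hy : mult R I y ∈ ext R Z₀ := by
      have hc : ∀ y, (ext R Z₀).mkQ (mult R I y) =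
          TensorProduct.rid R (Quot R Z₀) (I.subtype.lTensor (Quot R Z₀) (π y)) := by
        intro y
        induction y with
        | zero => simp only [map_zero]
        | tmul v a => simp [π, mult_tmul]
        | add u v hu hv => simp only [map_add, hu, hv]
      rw [← Submodule.Quotient.mk_eq_zero, ← Submodule.mkQ_apply, hc, hx, map_zero]
    obtain ⟨N, hN⟩ := exists_pow_smul_mem_ext p Z₀ R hf y hy
    obtain ⟨w, hw⟩ := ext_Jz_le p Z₀ R (hST _ hN)
    refine ⟨⟨S * φ ^ N, Ideal.IsPrime.mul_notMem inferInstance hSQ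
      fun h => hφQ (Ideal.IsPrime.mem_of_pow_mem inferInstance N h)⟩, ?_⟩
    have hyw : (S * φ ^ N) • y = AlgebraTensorModule.rTensor R I (ext R Z₀).subtype w := by
      apply mult_injective R I
      rw [map_smul, mul_smul]
      exact hw.symm
    show (S * φ ^ N) • π y = 0
    rw [← map_smul, hyw]
    clear hw hyw
    induction w with
    | zero => simp only [map_zero]
    | tmul z a => simp [π, (Submodule.Quotient.mk_eq_zero _).2 z.2]
    | add u v hu hv => rw [map_add, map_add, hu, hv, add_zero]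
  have h2 : Module.Flat (R ⧸ I) ((R ⧸ I) ⊗[R] LocalizedModule Q.primeCompl (Quot R Z₀)) := by
    rw [Module.Flat.iff_lTensor_preserves_injective_linearMap]
    intro X Y _ _ _ _ a ha
    letI : Module R X := Module.compHom X (Ideal.Quotient.mk I)
    letI : Module R Y := Module.compHom Y (Ideal.Quotient.mk I)
    haveI : IsScalarTower R (R ⧸ I) X := IsScalarTower.of_algebraMap_smul fun _ _ => rfl
    haveI : IsScalarTower R (R ⧸ I) Y := IsScalarTower.of_algebraMap_smul fun _ _ => rfl
    let L := LocalizedModule Q.primeCompl (Quot R Z₀)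
    have hkey : Injective ((a.restrictScalars R).lTensor L) := by
      refine lTensor_localized_injective Q.primeCompl (a.restrictScalars R) fun x hx => ?_
      obtain ⟨N, hN⟩ := exists_pow_smul_quot p Z₀ R hf (a.restrictScalars R) ha (fun c hc y => by
        show Ideal.Quotient.mk I (algebraMap R₀ R c) • y = 0
        rw [Ideal.Quotient.eq_zero_iff_mem.2 (Ideal.mem_map_of_mem _ hc), zero_smul]) x hx
      exact ⟨⟨φ ^ N, fun h => hφQ (Ideal.IsPrime.mem_of_pow_mem inferInstance N h)⟩, hN⟩
    let eX := (TensorProduct.comm (R ⧸ I) ((R ⧸ I) ⊗[R] L) X).trans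
      (AlgebraTensorModule.cancelBaseChange R (R ⧸ I) (R ⧸ I) X L)
    let eY := (TensorProduct.comm (R ⧸ I) ((R ⧸ I) ⊗[R] L) Y).trans
      (AlgebraTensorModule.cancelBaseChange R (R ⧸ I) (R ⧸ I) Y L)
    have hc : ∀ z, TensorProduct.comm R _ _ (eY (a.lTensor _ z)) =
        (a.restrictScalars R).lTensor L (TensorProduct.comm R _ _ (eX z)) := by
      intro z
      induction z with
      | zero => simp only [map_zero]
      | tmul w x =>
        induction w with
        | zero => simp only [zero_tmul, map_zero]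
        | tmul b l => simp [eX, eY]
        | add u v hu hv => simp only [add_tmul, map_add, hu, hv]
      | add u v hu hv => simp only [map_add, hu, hv]
    intro z z' hzz
    have := congrArg (fun t => TensorProduct.comm R _ _ (eY t)) hzz
    replace this : (a.restrictScalars R).lTensor L (TensorProduct.comm R _ _ (eX z)) =
        (a.restrictScalars R).lTensor L (TensorProduct.comm R _ _ (eX z')) :=
      (hc z).symm.trans (this.trans (hc z'))
    exact eX.injective ((TensorProduct.comm R _ _).injective (hkey this))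
  refine LocFlat.flat_criterion (S := Localization.AtPrime Q) _ I ?_ h1 h2
  rw [IsLocalRing.jacobson_eq_maximalIdeal ⊥ bot_ne_top, ← Localization.AtPrime.map_eq_maximalIdeal,
    hI, Ideal.map_map, ← IsScalarTower.algebraMap_eq,
    IsScalarTower.algebraMap_eq R₀ (MvPolynomial (Fin n) R) (Localization.AtPrime Q),
    ← Ideal.map_map]
  exact Ideal.map_mono (Ideal.map_le_iff_le_comap.2 hQp)

/-- Flatness at `q` gives the equations. -/
theorem exists_equations [IsNoetherianRing R₀] (R : Type u) [CommRing R] [Algebra R₀ R]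
    (q : Ideal (MvPolynomial (Fin n) R)) [q.IsPrime] (h : FlatCA.FlatAt R q (Quot R Z₀)) :
    Equations p Z₀ R q := by
  classical
  intro t ht
  obtain ⟨k, a, ha⟩ := Submodule.fg_iff_exists_fin_generating_family.1 (IsNoetherian.noetherian p)
  have hap : ∀ j, a j ∈ p := fun j => ha ▸ Submodule.subset_span ⟨j, rfl⟩
  obtain ⟨y, hy⟩ : ∃ y : Fin k → Vec n r R₀, t = ∑ j, a j • y j := by
    have ht' := (mem_smul_top_iff p t).1 (Submodule.mem_inf.1 ht).2
    refine Submodule.smul_induction_on ht' (fun c hc v _ => ?_) ?_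
    · rw [← ha] at hc
      obtain ⟨c, rfl⟩ := (Submodule.mem_span_range_iff_exists_fun R₀).1 hc
      exact ⟨fun j => c j • v, by
        rw [Finset.sum_smul]; exact Finset.sum_congr rfl fun j _ => by
          rw [smul_eq_mul, mul_comm, mul_smul]⟩
    · rintro u v ⟨y, rfl⟩ ⟨y', rfl⟩
      exact ⟨y + y', by simp [smul_add, Finset.sum_add_distrib]⟩
  haveI : Module.Flat R (LocalizedModule q.primeCompl (Quot R Z₀)) := h
  let μ := (LocalizedModule.mkLinearMap q.primeCompl (Quot R Z₀)).restrictScalars R ∘ₗ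
    (ext R Z₀).mkQ.restrictScalars R
  have hμt : ∑ j, algebraMap R₀ R (a j) • μ (mapVec R (y j)) = 0 := by
    have : μ (mapVec R t) = 0 := by
      show LocalizedModule.mkLinearMap q.primeCompl (Quot R Z₀) (Submodule.Quotient.mk (mapVec R t)) = 0
      rw [(Submodule.Quotient.mk_eq_zero _).2 (mapVec_mem_ext R Z₀ (Submodule.mem_inf.1 ht).1),
        map_zero]
    rw [← this, hy, map_sum, map_sum]
    refine Finset.sum_congr rfl fun j _ => ?_
    rw [map_smul (mapVec R), ← algebraMap_smul R (a j), map_smul]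
  obtain ⟨l, b, m, hm, hb⟩ := Module.Flat.isTrivialRelation_of_sum_smul_eq_zero hμt
  obtain ⟨σ, hσ⟩ := IsLocalizedModule.exist_integer_multiples_of_finite q.primeCompl
    (LocalizedModule.mkLinearMap q.primeCompl (Quot R Z₀)) m
  choose u' hu' using fun i => LinearMap.mem_range.1 (hσ i)
  choose u hu using fun i => Submodule.mkQ_surjective (ext R Z₀) (u' i)
  have key : ∀ j, ∃ c : q.primeCompl, (c : MvPolynomial (Fin n) R) •
      ((σ : MvPolynomial (Fin n) R) • mapVec R (y j) - ∑ i, b j i • u i) ∈ ext R Z₀ := by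
    intro j
    have : LocalizedModule.mkLinearMap q.primeCompl (Quot R Z₀) ((ext R Z₀).mkQ
        ((σ : MvPolynomial (Fin n) R) • mapVec R (y j) - ∑ i, b j i • u i)) = 0 := by
      rw [map_sub, map_sub, map_smul, map_smul, map_sum, map_sum]
      simp only [LinearMap.map_smul_of_tower, hu, hu']
      show (σ : MvPolynomial (Fin n) R) • μ (mapVec R (y j)) - _ = 0
      rw [show μ (mapVec R (y j)) = _ from hm j, Finset.smul_sum, sub_eq_zero]
      exact Finset.sum_congr rfl fun i _ => smul_comm _ _ _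
    obtain ⟨c, hc⟩ := (IsLocalizedModule.eq_zero_iff q.primeCompl _).1 this
    refine ⟨c, ?_⟩
    rw [← Submodule.Quotient.mk_eq_zero, Submodule.Quotient.mk_smul]
    exact hc
  choose c hc using key
  let C := ∏ j, (c j : MvPolynomial (Fin n) R)
  refine ⟨C * (σ : MvPolynomial (Fin n) R), Ideal.IsPrime.mul_notMem inferInstance
    (fun h => by
      obtain ⟨j, -, hj⟩ := (Ideal.IsPrime.prod_mem_iff (p := q)).1 h
      exact (c j).2 hj) σ.2, ?_⟩
  have heq : (C * (σ : MvPolynomial (Fin n) R)) • mapVec R t =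
      ∑ j, algebraMap R₀ R (a j) •
        (C • ((σ : MvPolynomial (Fin n) R) • mapVec R (y j) - ∑ i, b j i • u i)) := by
    have hzero : ∑ j, algebraMap R₀ R (a j) • (C • ∑ i, b j i • u i) = 0 := by
      simp only [Finset.smul_sum]
      rw [Finset.sum_comm]
      refine Finset.sum_eq_zero fun i _ => ?_
      calc ∑ j, algebraMap R₀ R (a j) • (C • (b j i • u i))
          = ∑ j, (algebraMap R₀ R (a j) * b j i) • (C • u i) := by
            refine Finset.sum_congr rfl fun j _ => ?_
            rw [mul_smul, smul_comm C (b j i)]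
        _ = 0 := by rw [← Finset.sum_smul, show ∑ j, algebraMap R₀ R (a j) * b j i = 0 from hb i, zero_smul]
    rw [hy, map_sum, Finset.smul_sum]
    rw [show (∑ j, algebraMap R₀ R (a j) •
        (C • ((σ : MvPolynomial (Fin n) R) • mapVec R (y j) - ∑ i, b j i • u i))) =
      (∑ j, algebraMap R₀ R (a j) • (C • ((σ : MvPolynomial (Fin n) R) • mapVec R (y j)))) -
        ∑ j, algebraMap R₀ R (a j) • (C • ∑ i, b j i • u i) from by
      rw [← Finset.sum_sub_distrib]
      exact Finset.sum_congr rfl fun j _ => by rw [smul_sub, smul_sub],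
      hzero, sub_zero]
    refine Finset.sum_congr rfl fun j _ => ?_
    rw [map_smul (mapVec R), ← algebraMap_smul R (a j), smul_comm, mul_smul]
  rw [heq]
  refine Submodule.sum_mem _ fun j _ => ?_
  have hmem : C • ((σ : MvPolynomial (Fin n) R) • mapVec R (y j) - ∑ i, b j i • u i) ∈ ext R Z₀ := by
    obtain ⟨d, hd⟩ : (c j : MvPolynomial (Fin n) R) ∣ C :=
      Finset.dvd_prod_of_mem _ (Finset.mem_univ j)
    rw [hd, mul_comm, mul_smul]
    exact Submodule.smul_mem _ _ (hc j)
  revert hmem
  generalize C • ((σ : MvPolynomial (Fin n) R) • mapVec R (y j) - ∑ i, b j i • u i) = z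
  intro hz
  induction hz using Submodule.span_induction with
  | mem z hz =>
    obtain ⟨z, hz, rfl⟩ := hz
    rw [algebraMap_smul, ← map_smul]
    refine mapVec_mem_ext R _ ?_
    rw [← algebraMap_smul (MvPolynomial (Fin n) R₀) (a j), MvPolynomial.algebraMap_eq]
    exact Submodule.smul_mem_smul (Ideal.mem_map_of_mem _ (hap j)) hz
  | zero => rw [smul_zero]; exact zero_mem _
  | add z w _ _ hz hw => rw [smul_add]; exact add_mem hz hw
  | smul c z _ hz => rw [smul_comm]; exact Submodule.smul_mem _ _ hz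

/-- The flat locus. -/
def flatSet (R : Type u) [CommRing R] [Algebra R₀ R] :
    Set (PrimeSpectrum (MvPolynomial (Fin n) R)) :=
  {Q | FlatCA.FlatAt R Q.asIdeal (Quot R Z₀)}

theorem flatAt_of_le {R S : Type u} [CommRing R] [CommRing S] [Algebra R S] {M : Type u}
    [AddCommGroup M] [Module S M] [Module R M] [IsScalarTower R S M] {p q : Ideal S} [p.IsPrime]
    [q.IsPrime] (h : p ≤ q) (hq : FlatCA.FlatAt R q M) : FlatCA.FlatAt R p M := by
  haveI : Module.Flat R (LocalizedModule q.primeCompl M) := hq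
  let P := Localization.AtPrime p
  haveI : Module.Flat S P := IsLocalization.flat P p.primeCompl
  haveI := FlatMor.FlatAtBC.flat_tensor R S P (LocalizedModule q.primeCompl M)
  have hu : ∀ t : q.primeCompl, IsUnit (algebraMap S P t) := fun t =>
    IsLocalization.map_units P (⟨t, fun ht => t.2 (h ht)⟩ : p.primeCompl)
  exact Module.Flat.of_linearEquiv (((LocalizedModule.equivTensorProduct p.primeCompl M) ≪≫ₗ
    FlatMor.FlatAtBC.tensorLocalizedEquiv q.primeCompl P hu M).restrictScalars R)

/-- The flat locus over a Noetherian base is open. -/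
theorem isOpen_flatSet_noetherian [IsNoetherianRing R₀] (R : Type u) [CommRing R] [Algebra R₀ R]
    [IsNoetherianRing R] : IsOpen (flatSet Z₀ R) := by
  refine EGA4Lib.isOpen_of_forall_exists_basicOpen _ (fun q hq q' h => flatAt_of_le h hq) ?_
  intro q hq
  let p := q.asIdeal.comap (algebraMap R₀ (MvPolynomial (Fin n) R))
  obtain ⟨h, hh, H⟩ := exists_basicOpen_flat p Z₀ R q.asIdeal rfl
    (exists_equations p Z₀ R q.asIdeal hq)
  exact ⟨h, hh, fun Q hQ hhQ => H Q.asIdeal (Ideal.comap_mono hQ) hhQ⟩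

/-- A flat point is flat in a model of finite type over `R₀`. -/
theorem exists_model_flat [IsNoetherianRing R₀] (R : Type u) [CommRing R] [Algebra R₀ R]
    (q : Ideal (MvPolynomial (Fin n) R)) [q.IsPrime] (h : FlatCA.FlatAt R q (Quot R Z₀)) :
    ∃ R₁ : Subalgebra R₀ R, R₁.FG ∧
      FlatCA.FlatAt R₁ (q.comap (MvPolynomial.map (algebraMap R₁ R))) (Quot R₁ Z₀) := by
  classical
  let p := q.comap (algebraMap R₀ (MvPolynomial (Fin n) R))
  have he := exists_equations p Z₀ R q h
  obtain ⟨G, hG⟩ := IsNoetherian.noetherian (Tz p Z₀)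
  have hGT : ∀ t ∈ G, t ∈ Tz p Z₀ := fun t ht => hG ▸ Submodule.subset_span ht
  choose! s hsq hsmem using he
  have hrep : ∀ t ∈ G, ∃ c : (Jz p Z₀) →₀ MvPolynomial (Fin n) R,
      s t • mapVec R t = c.sum fun z w => w • mapVec R (z : Vec n r R₀) := by
    intro t ht
    have hmem := hsmem t (hGT t ht)
    rw [ext, Set.image_eq_range] at hmem
    obtain ⟨c, hc⟩ := Finsupp.mem_span_range_iff_exists_finsupp.1 hmem
    exact ⟨c, hc.symm⟩
  choose! c hc using hrep
  let coefs : Finset R := G.biUnion fun t => (s t).coeffs ∪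
    (c t).support.biUnion fun z => (c t z).coeffs
  refine ⟨Algebra.adjoin R₀ coefs, ⟨coefs, rfl⟩, ?_⟩
  let R₁ := Algebra.adjoin R₀ (coefs : Set R)
  haveI : IsNoetherianRing R₁ := isNoetherianRing_of_fg ⟨coefs, rfl⟩
  let ψ := MvPolynomial.map (σ := Fin n) (algebraMap R₁ R)
  have hψ : Injective ψ := MvPolynomial.map_injective _ Subtype.val_injective
  have hlift : ∀ w : MvPolynomial (Fin n) R, (∀ x ∈ w.coeffs, x ∈ coefs) → ∃ w', ψ w' = w := by
    intro w hw
    refine MvPolynomial.mem_range_map_iff_coeffs_subset.2 fun x hx => ?_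
    exact ⟨⟨x, Algebra.subset_adjoin (hw x hx)⟩, rfl⟩
  have heq : Equations p Z₀ R₁ (q.comap ψ) := by
    intro t ht
    rw [← hG] at ht
    suffices H : ∀ t ∈ G, ∃ s' ∉ q.comap ψ, s' • mapVec R₁ t ∈ ext R₁ (Jz p Z₀) by
      choose! s' hs'q hs' using H
      refine ⟨∏ t ∈ G, s' t, fun h => ?_, ?_⟩
      · obtain ⟨t, ht, hts⟩ := (Ideal.IsPrime.prod_mem_iff (p := q.comap ψ)).1 h
        exact hs'q t ht hts
      · induction ht using Submodule.span_induction with
        | mem t ht =>
          obtain ⟨d, hd⟩ : s' t ∣ ∏ t ∈ G, s' t := Finset.dvd_prod_of_mem _ ht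
          rw [hd, mul_comm, mul_smul]
          exact Submodule.smul_mem _ _ (hs' t ht)
        | zero => rw [map_zero, smul_zero]; exact zero_mem _
        | add a b _ _ ha hb => rw [map_add, smul_add]; exact add_mem ha hb
        | smul e a _ ha => rw [mapVec_smul, smul_comm]; exact Submodule.smul_mem _ _ ha
    intro t ht
    obtain ⟨s', hs'⟩ := hlift (s t) fun x hx =>
      Finset.mem_biUnion.2 ⟨t, ht, Finset.mem_union_left _ hx⟩
    have hcl : ∀ z ∈ (c t).support, ∃ w', ψ w' = c t z := fun z hz => hlift _ fun x hx =>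
      Finset.mem_biUnion.2 ⟨t, ht, Finset.mem_union_right _ (Finset.mem_biUnion.2 ⟨z, hz, hx⟩)⟩
    choose! c' hc' using hcl
    refine ⟨s', fun hm => hsq t (hGT t ht) (hs' ▸ Ideal.mem_comap.1 hm), ?_⟩
    have : s' • mapVec R₁ t =
        ∑ z ∈ (c t).support, c' z • mapVec R₁ (z : Vec n r R₀) := by
      apply mapVec_injective (R₀ := R₁) R (n := n) (r := r) Subtype.val_injective
      rw [mapVec_smul, mapVec_trans, map_sum]
      show ψ s' • _ = _
      rw [hs', hc t ht]
      refine Finset.sum_congr rfl fun z hz => ?_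
      rw [mapVec_smul, mapVec_trans]
      show _ = ψ (c' z) • _
      rw [hc' z hz]
    rw [this]
    exact Submodule.sum_mem _ fun z _ => Submodule.smul_mem _ _ (mapVec_mem_ext R₁ _ z.2)
  have hp : (q.comap ψ).comap (algebraMap R₀ (MvPolynomial (Fin n) R₁)) = p := by
    rw [Ideal.comap_comap]
    congr 1
    ext a : 1
    rw [RingHom.comp_apply, IsScalarTower.algebraMap_apply R₀ R₁ (MvPolynomial (Fin n) R₁),
      MvPolynomial.algebraMap_eq, MvPolynomial.map_C, ← IsScalarTower.algebraMap_apply,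
      ← MvPolynomial.algebraMap_eq, ← IsScalarTower.algebraMap_apply]
  obtain ⟨h', hh', H⟩ := exists_basicOpen_flat p Z₀ R₁ (q.comap ψ) hp heq
  exact H (q.comap ψ) hp.ge hh'

/-- The flat locus of `Quot R Z₀` is open. -/
theorem isOpen_flatSet [IsNoetherianRing R₀] (R : Type u) [CommRing R] [Algebra R₀ R] :
    IsOpen (flatSet Z₀ R) := by
  rw [isOpen_iff_forall_mem_open]
  intro q hq
  obtain ⟨R₁, hfg, h₁⟩ := exists_model_flat Z₀ R q.asIdeal hq
  haveI : IsNoetherianRing R₁ := isNoetherianRing_of_fg hfg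
  letI := MvPolynomial.algebraMvPolynomial (σ := Fin n) (R := R₁) (S := R)
  let c := PrimeSpectrum.comap (MvPolynomial.map (σ := Fin n) (algebraMap R₁ R))
  refine ⟨c ⁻¹' flatSet Z₀ R₁, fun Q hQ => ?_,
    (isOpen_flatSet_noetherian Z₀ R₁).preimage (PrimeSpectrum.continuous_comap _), h₁⟩
  letI : Module (MvPolynomial (Fin n) R₁) (Quot R Z₀) :=
    Module.compHom _ (algebraMap (MvPolynomial (Fin n) R₁) (MvPolynomial (Fin n) R))
  haveI : IsScalarTower (MvPolynomial (Fin n) R₁) (MvPolynomial (Fin n) R) (Quot R Z₀) :=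
    IsScalarTower.of_algebraMap_smul fun _ _ => rfl
  obtain ⟨g, hg⟩ := exists_isBaseChange_quot R Z₀ R₁
  exact FlatMor.FlatAtBC.flatAt_of_baseChange g hg (c Q).asIdeal Q.asIdeal rfl hQ

end Groth.Agent.FlatOpen
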