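import Groth.Agent.FlatOpen.Descend
import Groth.Agent.FlatOpen.GenFreeDomain

/-!
# Maps injective on a fibre (EGA IV 11.3.7)

`u : R[x]^a/Z' → R[x]^r/Z`, the target flat over `R` at `q`, `u ⊗ k` injective at a prime over `q`
(`k` a field over `R`): then `u` is injective at `q` and its cokernel is flat at `q`.
-/

set_option autoImplicit false
set_option linter.style.haveILetI false

universe u

open TensorProduct Function

namespace Groth.Agent.FlatOpen

variable {n r a : ℕ} {R₀ : Type u} [CommRing R₀]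
  (U₀ : Fin a → Vec n r R₀) (Z₀ : Submodule (MvPolynomial (Fin n) R₀) (Vec n r R₀))
  (Z₀' : Submodule (MvPolynomial (Fin n) R₀) (Vec n a R₀))

/-- The linear map with columns `U₀`. -/
noncomputable def mapU (R : Type u) [CommRing R] [Algebra R₀ R] :
    Vec n a R →ₗ[MvPolynomial (Fin n) R] Vec n r R :=
  ∑ i : Fin a, (LinearMap.proj i).smulRight (mapVec R (U₀ i))

lemma mapU_apply (R : Type u) [CommRing R] [Algebra R₀ R] (v : Vec n a R) :
    mapU U₀ R v = ∑ i, v i • mapVec R (U₀ i) := by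
  simp [mapU]

lemma mapU_mapVec (R : Type u) [CommRing R] [Algebra R₀ R] (R₁ : Type u) [CommRing R₁]
    [Algebra R₀ R₁] [Algebra R₁ R] [IsScalarTower R₀ R₁ R] (v : Vec n a R₁) :
    mapU U₀ R (mapVec (R₀ := R₁) R v) = mapVec (R₀ := R₁) R (mapU U₀ R₁ v) := by
  rw [mapU_apply, mapU_apply, map_sum]
  refine Finset.sum_congr rfl fun i _ => ?_
  rw [mapVec_smul, mapVec_trans, mapVec_apply]

/-- Image of `u` plus the relations. -/
noncomputable def cokerRel : Submodule (MvPolynomial (Fin n) R₀) (Vec n r R₀) :=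
  Z₀ ⊔ Submodule.span _ (Set.range U₀)

lemma ext_cokerRel (R : Type u) [CommRing R] [Algebra R₀ R] :
    ext R (cokerRel U₀ Z₀) = ext R Z₀ ⊔ LinearMap.range (mapU U₀ R) := by
  rw [cokerRel, ← Submodule.span_eq Z₀, ← Submodule.span_union, ext_span, ext_span, Set.image_union,
    Submodule.span_union]
  congr 1
  apply le_antisymm
  · rw [Submodule.span_le]
    rintro - ⟨-, ⟨i, rfl⟩, rfl⟩
    exact ⟨Pi.single i 1, by simp [mapU_apply, Pi.single_apply]⟩
  · rintro - ⟨v, rfl⟩
    rw [mapU_apply]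
    exact Submodule.sum_mem _ fun i _ => Submodule.smul_mem _ _
      (Submodule.subset_span ⟨_, ⟨i, rfl⟩, rfl⟩)

/-- `u ⊗ k` is injective at `qk`. -/
def FibInj (k : Type u) [CommRing k] [Algebra R₀ k] (qk : Ideal (MvPolynomial (Fin n) k)) : Prop :=
  ∀ v : Vec n a k, mapU U₀ k v ∈ ext k Z₀ → ∃ t ∉ qk, t • v ∈ ext k Z₀'

/-- Clear denominators in a family of equations in a localized quotient. -/
theorem exists_lift_relations {R P : Type u} [CommRing R] [CommRing P] [Algebra R P] {V : Type u}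
    [AddCommGroup V] [Module P V] [Module R V] [IsScalarTower R P V] (L : Submodule P V)
    (q : Ideal P) [q.IsPrime] {J l : ℕ} (v : Fin J → V) (b : Fin J → Fin l → R)
    (m : Fin l → LocalizedModule q.primeCompl (V ⧸ L))
    (h : ∀ j, LocalizedModule.mkLinearMap q.primeCompl (V ⧸ L) (L.mkQ (v j)) = ∑ i, b j i • m i) :
    ∃ c ∉ q, ∃ u : Fin l → V, ∀ j, c • v j - ∑ i, b j i • u i ∈ L := by
  classical
  let mk := LocalizedModule.mkLinearMap q.primeCompl (V ⧸ L)
  obtain ⟨σ, hσ⟩ := IsLocalizedModule.exist_integer_multiples_of_finite q.primeCompl mk m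
  choose u' hu' using fun i => LinearMap.mem_range.1 (hσ i)
  choose u hu using fun i => L.mkQ_surjective (u' i)
  have key : ∀ j, ∃ c : q.primeCompl, (c : P) • ((σ : P) • v j - ∑ i, b j i • u i) ∈ L := by
    intro j
    have : mk (L.mkQ ((σ : P) • v j - ∑ i, b j i • u i)) = 0 := by
      rw [map_sub, map_sub, map_smul, map_smul, map_sum, map_sum]
      simp only [LinearMap.map_smul_of_tower, hu]
      rw [h j, Finset.smul_sum, sub_eq_zero]
      exact Finset.sum_congr rfl fun i _ => by rw [hu' i, smul_comm]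
    obtain ⟨c, hc⟩ := (IsLocalizedModule.eq_zero_iff q.primeCompl _).1 this
    refine ⟨c, ?_⟩
    rw [← Submodule.Quotient.mk_eq_zero, Submodule.Quotient.mk_smul]
    exact hc
  choose c hc using key
  let C := ∏ j, (c j : P)
  have hCq : C ∉ q := fun h => by
    obtain ⟨j, -, hj⟩ := (Ideal.IsPrime.prod_mem_iff (p := q)).1 h
    exact (c j).2 hj
  refine ⟨C * σ, Ideal.IsPrime.mul_notMem inferInstance hCq σ.2, fun i => C • u i, fun j => ?_⟩
  obtain ⟨d, hd⟩ : (c j : P) ∣ C := Finset.dvd_prod_of_mem _ (Finset.mem_univ j)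
  have : (C * σ) • v j - ∑ i, b j i • C • u i = d • ((c j : P) • ((σ : P) • v j - ∑ i, b j i • u i)) := by
    rw [smul_smul d, mul_comm d, ← hd, smul_sub, mul_smul, Finset.smul_sum]
    congr 1
    exact Finset.sum_congr rfl fun i _ => smul_comm _ _ _
  rw [this]
  exact L.smul_mem _ (hc j)

/-- Local membership descends along flat ring maps. -/
theorem exists_notMem_smul_eq_zero {A₁ A : Type u} [CommRing A₁] [CommRing A] [Algebra A₁ A]
    [Module.Flat A₁ A] {N : Type u} [AddCommGroup N] [Module A₁ N] (z : N) (q : Ideal A)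
    {t : A} (ht : t ∉ q) (h : t • ((1 : A) ⊗ₜ[A₁] z) = 0) :
    ∃ t₁, algebraMap A₁ A t₁ ∉ q ∧ t₁ • z = 0 := by
  by_contra hne
  push Not at hne
  let l := LinearMap.toSpanSingleton A₁ N z
  have hex : Exact ((LinearMap.ker l).subtype.lTensor A) (l.lTensor A) :=
    Module.Flat.lTensor_exact A (LinearMap.exact_subtype_ker_map l)
  have h0 : l.lTensor A (t ⊗ₜ[A₁] 1) = 0 := by
    rw [LinearMap.lTensor_tmul]
    simpa [l, smul_tmul'] using h
  obtain ⟨w, hw⟩ := (hex _).1 h0
  apply ht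
  have hlid : TensorProduct.rid A₁ A ((LinearMap.ker l).subtype.lTensor A w) = t := by
    rw [hw, TensorProduct.rid_tmul, one_smul]
  rw [← hlid]
  clear hw hlid h0
  induction w with
  | zero => rw [map_zero, map_zero]; exact zero_mem _
  | tmul b c =>
    rw [LinearMap.lTensor_tmul, TensorProduct.rid_tmul, Algebra.smul_def]
    refine Ideal.mul_mem_right _ _ ?_
    by_contra hc
    have h' : l c = 0 := c.2
    exact hne _ hc h'
  | add u v hu hv => rw [map_add, map_add]; exact add_mem hu hv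

/-- Injectivity on a fibre descends to the fibre field of a model. -/
theorem fibInj_descend (k₁ k : Type u) [Field k₁] [Algebra R₀ k₁] [Field k] [Algebra R₀ k]
    [Algebra k₁ k] [IsScalarTower R₀ k₁ k] (qk : Ideal (MvPolynomial (Fin n) k))
    (h : FibInj U₀ Z₀ Z₀' k qk) :
    FibInj U₀ Z₀ Z₀' k₁ (qk.comap (MvPolynomial.map (algebraMap k₁ k))) := by
  intro v hv
  have hvk : mapU U₀ k (mapVec (R₀ := k₁) k v) ∈ ext k Z₀ := by
    rw [mapU_mapVec, ← ext_ext k Z₀ k₁]
    exact mapVec_mem_ext (R₀ := k₁) k _ hv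
  obtain ⟨t, ht, htv⟩ := h _ hvk
  letI := MvPolynomial.algebraMvPolynomial (σ := Fin n) (R := k₁) (S := k)
  haveI : Algebra.IsPushout k₁ k (MvPolynomial (Fin n) k₁) (MvPolynomial (Fin n) k) := inferInstance
  haveI : Module.Flat (MvPolynomial (Fin n) k₁) (MvPolynomial (Fin n) k) :=
    Module.Flat.isBaseChange k₁ (MvPolynomial (Fin n) k₁) k (MvPolynomial (Fin n) k)
      (f := (IsScalarTower.toAlgHom k₁ k (MvPolynomial (Fin n) k)).toLinearMap)
      (Algebra.IsPushout.symm inferInstance).out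
  letI : Module (MvPolynomial (Fin n) k₁) (Quot k Z₀') :=
    Module.compHom _ (algebraMap (MvPolynomial (Fin n) k₁) (MvPolynomial (Fin n) k))
  haveI : IsScalarTower (MvPolynomial (Fin n) k₁) (MvPolynomial (Fin n) k) (Quot k Z₀') :=
    IsScalarTower.of_algebraMap_smul fun _ _ => rfl
  let g0 : Vec n a k₁ →ₗ[MvPolynomial (Fin n) k₁] Quot k Z₀' :=
    { toFun := fun w => Submodule.Quotient.mk (mapVec (R₀ := k₁) k w)
      map_add' := fun w w' => by rw [map_add, Submodule.Quotient.mk_add]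
      map_smul' := fun p w => by rw [mapVec_smul, Submodule.Quotient.mk_smul]; rfl }
  obtain ⟨g, hg, hgmk⟩ := exists_isBaseChange_quot' k Z₀' k₁
  have h0 : t • ((1 : MvPolynomial (Fin n) k) ⊗ₜ[MvPolynomial (Fin n) k₁]
      (Submodule.Quotient.mk v : Quot k₁ Z₀')) = 0 := by
    apply hg.equiv.injective
    rw [map_smul, IsBaseChange.equiv_tmul, one_smul, map_zero, hgmk, ← Submodule.Quotient.mk_smul,
      Submodule.Quotient.mk_eq_zero]
    exact htv
  obtain ⟨t₁, ht₁, ht₁v⟩ := exists_notMem_smul_eq_zero _ qk ht h0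
  exact ⟨t₁, ht₁, (Submodule.Quotient.mk_eq_zero _).1 (by rw [Submodule.Quotient.mk_smul]; exact ht₁v)⟩

section Noetherian

variable (R : Type u) [CommRing R] [Algebra R₀ R] (p : Ideal R) [hp : p.IsPrime]

/-- Elementwise form of injectivity on the fibre over `p`. -/
def FibEq (q : Ideal (MvPolynomial (Fin n) R)) : Prop :=
  ∀ v : Vec n a R,
    mapU U₀ R v ∈ ext R Z₀ ⊔ (p.map MvPolynomial.C : Ideal (MvPolynomial (Fin n) R)) • ⊤ →
      ∃ s ∉ q, s • v ∈ ext R Z₀' ⊔ (p.map MvPolynomial.C : Ideal (MvPolynomial (Fin n) R)) • ⊤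

lemma mapVec_eq_zero {D : Type u} [CommRing D] [Algebra R D] (hD : RingHom.ker (algebraMap R D) = p)
    {m : ℕ} {v : Vec n m R} (h : mapVec (R₀ := R) D v = 0) :
    v ∈ (p.map MvPolynomial.C : Ideal (MvPolynomial (Fin n) R)) •
      (⊤ : Submodule (MvPolynomial (Fin n) R) (Vec n m R)) := by
  classical
  have hv : ∀ i, v i ∈ (p.map MvPolynomial.C : Ideal (MvPolynomial (Fin n) R)) := fun i => by
    rw [← hD, ← MvPolynomial.ker_map, RingHom.mem_ker]
    exact congrFun h i
  rw [show v = ∑ i, v i • (Pi.single i 1 : Vec n m R) from by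
    funext j; simp [Finset.sum_apply, Pi.single_apply]]
  exact Submodule.sum_mem _ fun i _ => Submodule.smul_mem_smul (hv i) Submodule.mem_top

lemma mapVec_smul_top {D : Type u} [CommRing D] [Algebra R D] (hD : RingHom.ker (algebraMap R D) = p)
    {m : ℕ} {v : Vec n m R} (h : v ∈ (p.map MvPolynomial.C : Ideal (MvPolynomial (Fin n) R)) •
      (⊤ : Submodule (MvPolynomial (Fin n) R) (Vec n m R))) :
    mapVec (R₀ := R) D v = 0 := by
  refine Submodule.smul_induction_on h (fun c hc w _ => ?_) fun x y hx hy => by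
    rw [map_add, hx, hy, add_zero]
  · rw [mapVec_smul]
    have : MvPolynomial.map (algebraMap R D) c = 0 := by
      rw [← RingHom.mem_ker, MvPolynomial.ker_map, hD]
      exact hc
    rw [this, zero_smul]

/-- Fibre injectivity in elementwise form. -/
theorem fibEq_of_fibInj (k : Type u) [Field k] [Algebra R₀ k] [Algebra R k] [IsScalarTower R₀ R k]
    (hker : RingHom.ker (algebraMap R k) = p) (qk : Ideal (MvPolynomial (Fin n) k)) [qk.IsPrime]
    (q : Ideal (MvPolynomial (Fin n) R)) (hq : qk.comap (MvPolynomial.map (algebraMap R k)) = q)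
    (h : FibInj U₀ Z₀ Z₀' k qk) : FibEq U₀ Z₀ Z₀' R p q := by
  classical
  let D := R ⧸ p
  let k₁ := FractionRing D
  have hD : RingHom.ker (algebraMap R D) = p := Ideal.mk_ker
  letI : Algebra D k := (Ideal.Quotient.lift p (algebraMap R k) fun x hx => by
    rw [← RingHom.mem_ker, hker]; exact hx).toAlgebra
  haveI : IsScalarTower R D k := IsScalarTower.of_algebraMap_eq' rfl
  have hinj : Injective (algebraMap D k) := by
    rw [injective_iff_map_eq_zero]
    intro x hx
    obtain ⟨x, rfl⟩ := Ideal.Quotient.mk_surjective x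
    rw [Ideal.Quotient.eq_zero_iff_mem, ← hker]
    exact hx
  letI : Algebra k₁ k := (IsFractionRing.lift (A := D) (K := k₁) hinj).toAlgebra
  haveI : IsScalarTower D k₁ k := IsScalarTower.of_algebraMap_eq fun x =>
    (IsFractionRing.lift_algebraMap hinj x).symm
  haveI : IsScalarTower R k₁ k := IsScalarTower.of_algebraMap_eq fun x => by
    rw [IsScalarTower.algebraMap_apply R D k₁, ← IsScalarTower.algebraMap_apply D k₁ k,
      ← IsScalarTower.algebraMap_apply R D k]
  haveI : IsScalarTower R₀ R k₁ := inferInstance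
  haveI : IsScalarTower R₀ k₁ k := IsScalarTower.of_algebraMap_eq fun x => by
    rw [IsScalarTower.algebraMap_apply R₀ R k₁, ← IsScalarTower.algebraMap_apply R k₁ k,
      ← IsScalarTower.algebraMap_apply R₀ R k]
  have h₁ := fibInj_descend U₀ Z₀ Z₀' k₁ k qk h
  intro v hv
  obtain ⟨z, hz, w, hw, hzw⟩ := Submodule.mem_sup.1 hv
  have hk₁ : mapU U₀ k₁ (mapVec (R₀ := R) k₁ v) ∈ ext k₁ Z₀ := by
    rw [mapU_mapVec, ← hzw, map_add]
    have hker₁ : RingHom.ker (algebraMap R k₁) = p := by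
      rw [IsScalarTower.algebraMap_eq R D k₁, ← RingHom.comap_ker,
        (RingHom.injective_iff_ker_eq_bot _).1 (IsFractionRing.injective D k₁), ← RingHom.ker_eq_comap_bot, hD]
    rw [mapVec_smul_top R p hker₁ hw, add_zero, ← ext_ext k₁ Z₀ R]
    exact mapVec_mem_ext (R₀ := R) k₁ _ hz
  obtain ⟨t₁, ht₁, ht₁v⟩ := h₁ _ hk₁
  -- clear denominators in the scalar
  obtain ⟨⟨c, hc⟩, hcs⟩ := IsLocalization.exist_integer_multiples (nonZeroDivisors D) t₁.support
    (fun m => MvPolynomial.coeff m t₁)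
  choose d hd using hcs
  let sD : MvPolynomial (Fin n) D := ∑ m ∈ t₁.support.attach, MvPolynomial.monomial m.1 (d m.1 m.2)
  have hsD : MvPolynomial.map (algebraMap D k₁) sD = MvPolynomial.C (algebraMap D k₁ c) * t₁ := by
    simp only [sD, map_sum, MvPolynomial.map_monomial]
    conv_rhs => rw [MvPolynomial.as_sum t₁, Finset.mul_sum, ← Finset.sum_attach]
    refine Finset.sum_congr rfl fun m _ => ?_
    rw [MvPolynomial.C_mul_monomial]
    congr 1
    have := hd m.1 m.2
    rw [this, Algebra.smul_def]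
  obtain ⟨s, hs⟩ := MvPolynomial.map_surjective (algebraMap R D) Ideal.Quotient.mk_surjective sD
  have hsk : MvPolynomial.map (algebraMap R k₁) s = MvPolynomial.C (algebraMap D k₁ c) * t₁ := by
    rw [IsScalarTower.algebraMap_eq R D k₁, ← MvPolynomial.map_map, hs, hsD]
  have hsq : s ∉ q := by
    intro hmem
    rw [← hq, Ideal.mem_comap, IsScalarTower.algebraMap_eq R k₁ k, ← MvPolynomial.map_map, hsk,
      map_mul, MvPolynomial.map_C] at hmem
    rcases (‹qk.IsPrime›).mem_or_mem hmem with h' | h'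
    · refine Ideal.IsPrime.ne_top inferInstance (Ideal.eq_top_of_isUnit_mem _ h' ?_)
      refine (IsUnit.mk0 _ ?_).map MvPolynomial.C
      rw [← IsScalarTower.algebraMap_apply D k₁ k]
      exact fun h0 => nonZeroDivisors.ne_zero hc (hinj (h0.trans (map_zero _).symm))
    · exact ht₁ (Ideal.mem_comap.2 h')
  have hsv : mapVec (R₀ := D) k₁ (mapVec (R₀ := R) D (s • v)) ∈
      ext (R₀ := D) k₁ (ext (R₀ := R) D (ext R Z₀')) := by
    rw [ext_ext, ext_ext, mapVec_trans, mapVec_smul, hsk, mul_smul]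
    exact Submodule.smul_mem _ _ ht₁v
  obtain ⟨e, he, w', hw', hew⟩ := exists_smul_eq_mapVec _ hsv
  rw [← map_smul] at hew
  have hmem : e • mapVec (R₀ := R) D (s • v) ∈ ext (R₀ := R) D (ext R Z₀') := by
    rw [mapVec_injective (R₀ := D) k₁ (IsFractionRing.injective D k₁) hew]; exact hw'
  obtain ⟨e₀, rfl⟩ := Ideal.Quotient.mk_surjective e
  have hlift : ∀ y ∈ ext (R₀ := R) D (ext R Z₀'), ∃ y₀ ∈ ext R Z₀', mapVec (R₀ := R) D y₀ = y := by
    intro y hy
    induction hy using Submodule.span_induction with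
    | mem y hy => obtain ⟨y₀, hy₀, rfl⟩ := hy; exact ⟨y₀, hy₀, rfl⟩
    | zero => exact ⟨0, zero_mem _, map_zero _⟩
    | add x y _ _ hx hy =>
      obtain ⟨x₀, hx₀, rfl⟩ := hx
      obtain ⟨y₀, hy₀, rfl⟩ := hy
      exact ⟨x₀ + y₀, add_mem hx₀ hy₀, map_add _ _ _⟩
    | smul b x _ hx =>
      obtain ⟨x₀, hx₀, rfl⟩ := hx
      obtain ⟨b₀, rfl⟩ := MvPolynomial.map_surjective (algebraMap R D) Ideal.Quotient.mk_surjective b
      exact ⟨b₀ • x₀, Submodule.smul_mem _ _ hx₀, mapVec_smul _ _ _⟩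
  obtain ⟨y₀, hy₀, hy⟩ := hlift _ hmem
  refine ⟨MvPolynomial.C e₀ * s, ?_, ?_⟩
  · refine Ideal.IsPrime.mul_notMem (hq ▸ inferInstance) ?_ hsq
    rw [← hq, Ideal.mem_comap, MvPolynomial.map_C]
    refine fun h' => Ideal.IsPrime.ne_top inferInstance (Ideal.eq_top_of_isUnit_mem _ h' ?_)
    refine (IsUnit.mk0 _ ?_).map MvPolynomial.C
    rw [IsScalarTower.algebraMap_apply R D k]
    exact fun h0 => he (hinj (h0.trans (map_zero _).symm))
  · have hdiff : mapVec (R₀ := R) D (e₀ • (s • v) - y₀) = 0 := by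
      rw [map_sub, hy, map_smul, sub_eq_zero]
      exact (algebraMap_smul D e₀ _).symm
    rw [mul_smul, ← MvPolynomial.algebraMap_eq, algebraMap_smul,
      ← add_sub_cancel y₀ (e₀ • (s • v))]
    exact Submodule.add_mem_sup hy₀ (mapVec_eq_zero R p hD hdiff)

/-- Adjust an element of `p R[x]^a` mapping into `Z` to an element of `p K`. -/
theorem exists_adjust [IsNoetherianRing R] (q : Ideal (MvPolynomial (Fin n) R)) [q.IsPrime]
    [Module.Flat R (LocalizedModule q.primeCompl (Quot R Z₀))]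
    [Module.Flat R (LocalizedModule q.primeCompl (Quot R (cokerRel U₀ Z₀)))]
    (w : Vec n a R) (hw : w ∈ (p.map MvPolynomial.C : Ideal (MvPolynomial (Fin n) R)) • (⊤ : Submodule (MvPolynomial (Fin n) R) (Vec n a R)))
    (hUw : mapU U₀ R w ∈ ext R Z₀) :
    ∃ c ∉ q, ∃ w' ∈ (p.map MvPolynomial.C : Ideal (MvPolynomial (Fin n) R)) •
      (ext R Z₀).comap (mapU U₀ R), w' = c • w := by
  classical
  obtain ⟨J, e, he⟩ := Submodule.fg_iff_exists_fin_generating_family.1 (IsNoetherian.noetherian p)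
  have hep : ∀ j, e j ∈ p := fun j => he ▸ Submodule.subset_span ⟨j, rfl⟩
  obtain ⟨y, hy⟩ : ∃ y : Fin J → Vec n a R, w = ∑ j, e j • y j := by
    have hw' := (mem_smul_top_iff p w).1 hw
    refine Submodule.smul_induction_on hw' (fun c hc v _ => ?_) ?_
    · rw [← he] at hc
      obtain ⟨c, rfl⟩ := (Submodule.mem_span_range_iff_exists_fun R).1 hc
      exact ⟨fun j => c j • v, by
        rw [Finset.sum_smul]; exact Finset.sum_congr rfl fun j _ => by
          rw [smul_eq_mul, mul_comm, mul_smul]⟩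
    · rintro u v ⟨y, rfl⟩ ⟨y', rfl⟩
      exact ⟨y + y', by simp [smul_add, Finset.sum_add_distrib]⟩
  let μ := (LocalizedModule.mkLinearMap q.primeCompl (Quot R Z₀)).restrictScalars R ∘ₗ
    (ext R Z₀).mkQ.restrictScalars R
  have hμ : ∑ j, e j • μ (mapU U₀ R (y j)) = 0 := by
    have h0 : μ (mapU U₀ R w) = 0 := by
      show LocalizedModule.mkLinearMap q.primeCompl (Quot R Z₀) (Submodule.Quotient.mk (mapU U₀ R w)) = 0
      rw [(Submodule.Quotient.mk_eq_zero _).2 hUw, map_zero]
    rw [← h0, hy, map_sum, map_sum]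
    exact Finset.sum_congr rfl fun j _ => by rw [LinearMap.map_smul_of_tower, map_smul]
  obtain ⟨l, b, m, hm, hb⟩ := Module.Flat.isTrivialRelation_of_sum_smul_eq_zero hμ
  obtain ⟨c₁, hc₁, u, hu⟩ := exists_lift_relations (ext R Z₀) q (fun j => mapU U₀ R (y j)) b m hm
  let ν := (LocalizedModule.mkLinearMap q.primeCompl (Quot R (cokerRel U₀ Z₀))).restrictScalars R ∘ₗ
    (ext R (cokerRel U₀ Z₀)).mkQ.restrictScalars R
  let x : (Fin l → R) →ₗ[R] LocalizedModule q.primeCompl (Quot R (cokerRel U₀ Z₀)) :=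
    ∑ i, (LinearMap.proj i).smulRight (ν (u i))
  let F : (Fin J → R) →ₗ[R] (Fin l → R) := ∑ j, (LinearMap.proj j).smulRight (b j)
  have hxF : x ∘ₗ F = 0 := by
    refine LinearMap.pi_ext' fun j => LinearMap.ext_ring ?_
    have hF : F (Pi.single j 1) = b j := by
      simp [F, LinearMap.sum_apply, Pi.single_apply]
    simp only [LinearMap.comp_apply, LinearMap.single_apply, hF, LinearMap.zero_comp,
      LinearMap.zero_apply, x, LinearMap.sum_apply, LinearMap.smulRight_apply, LinearMap.proj_apply]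
    rw [show ∑ i, b j i • ν (u i) = ν (∑ i, b j i • u i) from by rw [map_sum]; simp [map_smul]]
    show LocalizedModule.mkLinearMap q.primeCompl _ (Submodule.Quotient.mk (∑ i, b j i • u i)) = 0
    rw [(Submodule.Quotient.mk_eq_zero _).2 ?_, map_zero]
    rw [ext_cokerRel]
    have : ∑ i, b j i • u i = mapU U₀ R (c₁ • y j) - (c₁ • mapU U₀ R (y j) - ∑ i, b j i • u i) := by
      rw [map_smul, sub_sub_cancel]
    rw [this]
    exact sub_mem (Submodule.mem_sup_right ⟨_, rfl⟩) (Submodule.mem_sup_left (hu j))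
  obtain ⟨k, A, yy, hxA, hAF⟩ := Module.Flat.exists_factorization_of_comp_eq_zero_of_free hxF
  have hν : ∀ i, LocalizedModule.mkLinearMap q.primeCompl _ ((ext R (cokerRel U₀ Z₀)).mkQ (u i)) =
      ∑ m, A (Pi.single i 1) m • yy (Finsupp.single m 1) := by
    intro i
    have h1 : x (Pi.single i 1) = ν (u i) := by
      simp [x, LinearMap.sum_apply, Pi.single_apply]
    show ν (u i) = _
    rw [← h1, hxA, LinearMap.comp_apply]
    conv_lhs => rw [← Finsupp.univ_sum_single (A (Pi.single i 1))]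
    rw [map_sum]
    exact Finset.sum_congr rfl fun m _ => by rw [← map_smul, Finsupp.smul_single, smul_eq_mul, mul_one]
  obtain ⟨c₂, hc₂, ee, hee⟩ := exists_lift_relations (ext R (cokerRel U₀ Z₀)) q u
    (fun i m => A (Pi.single i 1) m) (fun m => yy (Finsupp.single m 1)) hν
  have hsplit : ∀ i, ∃ d : Vec n a R,
      c₂ • u i - ∑ m, A (Pi.single i 1) m • ee m - mapU U₀ R d ∈ ext R Z₀ := by
    intro i
    have hmem := hee i
    rw [ext_cokerRel] at hmem
    obtain ⟨z, hz, -, ⟨d, rfl⟩, hzd⟩ := Submodule.mem_sup.1 hmem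
    exact ⟨d, by rw [← hzd, add_sub_cancel_right]; exact hz⟩
  choose d hd using hsplit
  refine ⟨c₂ * c₁, Ideal.IsPrime.mul_notMem inferInstance hc₂ hc₁,
    ∑ j, e j • (c₂ • c₁ • y j - ∑ i, b j i • d i), ?_, ?_⟩
  · refine Submodule.sum_mem _ fun j _ => ?_
    rw [← algebraMap_smul (MvPolynomial (Fin n) R) (e j), MvPolynomial.algebraMap_eq]
    refine Submodule.smul_mem_smul (Ideal.mem_map_of_mem _ (hep j)) ?_
    rw [Submodule.mem_comap]
    have hzero : ∀ m, ∑ i, b j i * A (Pi.single i 1) m = 0 := by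
      intro m
      have h2 : A (F (Pi.single j 1)) = 0 := by
        rw [← LinearMap.comp_apply, hAF, LinearMap.zero_apply]
      have h3 : F (Pi.single j 1) = ∑ i, b j i • Pi.single i (1 : R) := by
        funext i'
        simp [F, LinearMap.sum_apply, Pi.single_apply, Finset.sum_apply, ite_apply]
      rw [h3, map_sum] at h2
      simpa [Finsupp.finsetSum_apply] using congrArg (fun z => z m) h2
    have hid : mapU U₀ R (c₂ • c₁ • y j - ∑ i, b j i • d i) =
        c₂ • (c₁ • mapU U₀ R (y j) - ∑ i, b j i • u i) +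
          ∑ i, b j i • (c₂ • u i - ∑ m, A (Pi.single i 1) m • ee m - mapU U₀ R (d i)) := by
      have hz2 : ∑ i, b j i • ∑ m, A (Pi.single i 1) m • ee m = 0 := by
        simp only [Finset.smul_sum, smul_smul]
        rw [Finset.sum_comm]
        exact Finset.sum_eq_zero fun m _ => by rw [← Finset.sum_smul, hzero, zero_smul]
      simp only [smul_sub, Finset.sum_sub_distrib, hz2, map_sub, map_smul, map_sum,
        LinearMap.map_smul_of_tower, sub_zero]
      simp only [Finset.smul_sum]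
      rw [Finset.sum_congr rfl fun i (_ : i ∈ Finset.univ) => smul_comm (b j i) c₂ (u i)]
      abel
    rw [hid]
    exact add_mem (Submodule.smul_mem _ _ (hu j))
      (Submodule.sum_mem _ fun i _ => Submodule.smul_of_tower_mem _ _ (hd i))
  · have hz : ∑ j, e j • ∑ i, b j i • d i = 0 := by
      simp only [Finset.smul_sum, smul_smul]
      rw [Finset.sum_comm]
      exact Finset.sum_eq_zero fun i _ => by rw [← Finset.sum_smul, hb i, zero_smul]
    simp only [smul_sub, Finset.sum_sub_distrib, hz, sub_zero]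
    rw [hy, Finset.smul_sum]
    exact Finset.sum_congr rfl fun j _ => by rw [mul_smul, smul_comm (e j) c₂, smul_comm (e j) c₁]

/-- The columns carry `Z₀'` into `Z₀`. -/
theorem ext_le_comap_mapU (hU : Z₀' ≤ Z₀.comap (mapU U₀ R₀)) :
    ext R Z₀' ≤ (ext R Z₀).comap (mapU U₀ R) := by
  refine Submodule.span_le.2 ?_
  rintro - ⟨v, hv, rfl⟩
  rw [SetLike.mem_coe, Submodule.mem_comap, mapU_mapVec]
  exact mapVec_mem_ext R Z₀ (hU hv)

variable [IsNoetherianRing R] (q : Ideal (MvPolynomial (Fin n) R)) [q.IsPrime]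

/-- The Noetherian case. -/
theorem noetherian_crit (hqp : q.comap (algebraMap R (MvPolynomial (Fin n) R)) = p)
    (hU : Z₀' ≤ Z₀.comap (mapU U₀ R₀))
    (hflat : FlatCA.FlatAt R q (Quot R Z₀)) (h : FibEq U₀ Z₀ Z₀' R p q) :
    FlatCA.FlatAt R q (Quot R (cokerRel U₀ Z₀)) ∧
      ∀ v : Vec n a R, mapU U₀ R v ∈ ext R Z₀ → ∃ s ∉ q, s • v ∈ ext R Z₀' := by
  classical
  -- regard `ext R Z₀` over `R` itself
  have hid : ∀ {m : ℕ} (L : Submodule (MvPolynomial (Fin n) R₀) (Vec n m R₀)),
      ext (R₀ := R) R (ext R L) = ext R L := fun L => ext_ext R L R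
  have hmv : ∀ {m : ℕ} (v : Vec n m R), mapVec (R₀ := R) R v = v := fun v => by
    funext i; simp only [mapVec_apply, Algebra.algebraMap_self, MvPolynomial.map_id]
  have htransfer : ∀ (L : Submodule (MvPolynomial (Fin n) R₀) (Vec n r R₀)),
      FlatCA.FlatAt R q (Quot R L) ↔ FlatCA.FlatAt R q (Quot (R₀ := R) R (ext R L)) := by
    intro L
    unfold Quot
    rw [hid]
  let I : Ideal (MvPolynomial (Fin n) R) := p.map MvPolynomial.C
  have hUZ := ext_le_comap_mapU U₀ Z₀ Z₀' R hU
  have hMeq : Equations (R₀ := R) p (ext R Z₀) R q :=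
    exists_equations p (ext R Z₀) R q ((htransfer Z₀).1 hflat)
  have hjz : ∀ {m : ℕ} (L : Submodule (MvPolynomial (Fin n) R) (Vec n m R)),
      ext (R₀ := R) R (Jz p L) = I • L := by
    intro m L
    rw [ext]
    simp only [hmv, Set.image_id']
    exact Submodule.span_eq _
  have hC : FlatCA.FlatAt R q (Quot R (cokerRel U₀ Z₀)) := by
    rw [htransfer]
    have hEq : Equations (R₀ := R) p (ext R (cokerRel U₀ Z₀)) R q := by
      intro t ht
      rw [hjz, hmv]
      obtain ⟨ht₁, ht₂⟩ := Submodule.mem_inf.1 ht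
      rw [ext_cokerRel] at ht₁
      obtain ⟨z, hz, -, ⟨v, rfl⟩, rfl⟩ := Submodule.mem_sup.1 ht₁
      obtain ⟨s, hs, hsv⟩ := h v (Submodule.mem_sup.2 ⟨-z, neg_mem hz, _, ht₂, by abel⟩)
      obtain ⟨z', hz', w, hw, hsv⟩ := Submodule.mem_sup.1 hsv
      have hUw : mapU U₀ R w ∈ I • ext R (cokerRel U₀ Z₀) := by
        have hle : (I • (⊤ : Submodule (MvPolynomial (Fin n) R) (Vec n a R))).map (mapU U₀ R) ≤
            I • ext R (cokerRel U₀ Z₀) := by
          rw [Submodule.map_smul'', Submodule.map_top, ext_cokerRel]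
          exact Submodule.smul_mono le_rfl le_sup_right
        exact hle ⟨w, hw, rfl⟩
      have hz'Z : s • (z + mapU U₀ R v) - mapU U₀ R w ∈
          ext R Z₀ ⊓ I • (⊤ : Submodule (MvPolynomial (Fin n) R) (Vec n r R)) := by
        refine ⟨?_, sub_mem (Submodule.smul_mem _ _ ht₂) (Submodule.smul_mono le_rfl le_top hUw)⟩
        have hUz : mapU U₀ R z' ∈ ext R Z₀ ⊔ LinearMap.range (mapU U₀ R) :=
          Submodule.mem_sup_right ⟨z', rfl⟩
        rw [smul_add, ← map_smul, ← hsv, map_add, ← add_assoc, add_sub_cancel_right]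
        refine add_mem (Submodule.smul_mem _ _ hz) ?_
        have hle : ext R Z₀' ≤ (ext R Z₀).comap (mapU U₀ R) := hUZ
        exact hle hz'
      obtain ⟨s', hs', hs'z⟩ := hMeq _ hz'Z
      rw [hjz, hmv] at hs'z
      refine ⟨s' * s, Ideal.IsPrime.mul_notMem inferInstance hs' hs, ?_⟩
      rw [mul_smul, ← sub_add_cancel (s • (z + mapU U₀ R v)) (mapU U₀ R w), smul_add]
      refine add_mem (Submodule.smul_mono le_rfl ?_ hs'z) (Submodule.smul_mem _ _ hUw)
      rw [ext_cokerRel]
      exact le_sup_left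
    obtain ⟨f, hf, H⟩ := exists_basicOpen_flat (R₀ := R) p (ext R (cokerRel U₀ Z₀)) R q hqp hEq
    exact H q hqp.ge hf
  refine ⟨hC, ?_⟩
  -- injectivity
  haveI : Module.Flat R (LocalizedModule q.primeCompl (Quot R Z₀)) := hflat
  haveI : Module.Flat R (LocalizedModule q.primeCompl (Quot R (cokerRel U₀ Z₀))) := hC
  let K : Submodule (MvPolynomial (Fin n) R) (Vec n a R) := (ext R Z₀).comap (mapU U₀ R)
  let K' := K.map (ext R Z₀').mkQ
  let Sq := Localization.AtPrime q
  let g := LocalizedModule.mkLinearMap q.primeCompl (Quot R Z₀')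
  let N : Submodule Sq (LocalizedModule q.primeCompl (Quot R Z₀')) :=
    K'.localized' Sq q.primeCompl g
  have hNfg : N.FG := IsNoetherian.noetherian N
  have hstep : N ≤ IsLocalRing.maximalIdeal Sq • N := by
    rintro x ⟨m, hm, s, rfl⟩
    obtain ⟨v, hv, rfl⟩ := hm
    obtain ⟨s₁, hs₁, hs₁v⟩ := h v (Submodule.mem_sup_left hv)
    obtain ⟨z', hz', w, hw, hsw⟩ := Submodule.mem_sup.1 hs₁v
    obtain ⟨c, hc, w', hw', hcw⟩ := exists_adjust U₀ Z₀ R p q w hw (by
      rw [show w = s₁ • v - z' from eq_sub_of_add_eq' hsw, map_sub, map_smul]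
      exact sub_mem (Submodule.smul_mem _ _ hv) (hUZ hz'))
    have hkey : (c * s₁) • (ext R Z₀').mkQ v ∈ I • K' := by
      rw [← map_smul, mul_smul, ← hsw, smul_add, map_add,
        show (ext R Z₀').mkQ (c • z') = 0 from
          (Submodule.Quotient.mk_eq_zero _).2 (Submodule.smul_mem _ _ hz'), zero_add, ← hcw]
      rw [← Submodule.map_smul'']
      exact ⟨w', hw', rfl⟩
    have hI : I.map (algebraMap (MvPolynomial (Fin n) R) Sq) ≤ IsLocalRing.maximalIdeal Sq := by
      rw [← Localization.AtPrime.map_eq_maximalIdeal]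
      exact Ideal.map_mono (Ideal.map_le_iff_le_comap.2 hqp.ge)
    have hgI : g ((c * s₁) • (ext R Z₀').mkQ v) ∈ IsLocalRing.maximalIdeal Sq • N := by
      refine Submodule.smul_induction_on hkey (fun i hi y hy => ?_) (fun y y' hy hy' => by
        rw [map_add]; exact add_mem hy hy')
      rw [map_smul, ← algebraMap_smul Sq i]
      exact Submodule.smul_mem_smul (hI (Ideal.mem_map_of_mem _ hi))
        ⟨y, hy, 1, IsLocalizedModule.mk'_one _ _ _⟩
    let u : q.primeCompl := ⟨c * s₁, Ideal.IsPrime.mul_notMem inferInstance hc hs₁⟩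
    rw [← IsLocalizedModule.mk'_cancel_left g _ u s, Submonoid.smul_def,
      show IsLocalizedModule.mk' g ((u : MvPolynomial (Fin n) R) • (ext R Z₀').mkQ v) (u * s) =
        IsLocalization.mk' Sq 1 (u * s) • g ((c * s₁) • (ext R Z₀').mkQ v) from by
        rw [← IsLocalizedModule.mk'_one q.primeCompl g, IsLocalizedModule.mk'_smul_mk', one_smul,
          mul_one]]
    exact Submodule.smul_mem _ _ hgI
  have hN : N = ⊥ := Submodule.eq_bot_of_le_smul_of_le_jacobson_bot _ N hNfg hstep (by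
    rw [IsLocalRing.jacobson_eq_maximalIdeal ⊥ bot_ne_top])
  intro v hv
  have : g ((ext R Z₀').mkQ v) ∈ N :=
    ⟨_, ⟨v, hv, rfl⟩, 1, IsLocalizedModule.mk'_one _ _ _⟩
  rw [hN, Submodule.mem_bot] at this
  obtain ⟨⟨s, hs⟩, hsv⟩ := (IsLocalizedModule.eq_zero_iff q.primeCompl g).1 this
  exact ⟨s, hs, (Submodule.Quotient.mk_eq_zero _).1 hsv⟩

end Noetherian

end Groth.Agent.FlatOpen
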